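import Groth.Prelude.Def_ARSys
import Mathlib.CategoryTheory.Abelian.Refinements
import Mathlib.CategoryTheory.Limits.FunctorCategory.EpiMono
import Mathlib.Algebra.Homology.ShortComplex.ExactFunctor

/-!
# Basic tools for projective systems indexed by the natural numbers

Images up to refinements, transition maps, evaluation of short exact sequences.
-/

set_option autoImplicit false

universe w v u

open CategoryTheory CategoryTheory.Limits Opposite

namespace Groth.Agent.Lib.Helper44

section Images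

variable {C : Type u} [Category.{v} C] [Abelian C]

/-- precomposition with an epimorphism does not change the image subobject -/
theorem imageSubobject_epi_comp' {A' A X : C} (π : A' ⟶ A) [Epi π] (f : A ⟶ X) :
    imageSubobject (π ≫ f) = imageSubobject f := by
  apply le_antisymm (imageSubobject_comp_le π f)
  have : IsIso (Subobject.ofLE _ _ (imageSubobject_comp_le π f)) :=
    isIso_of_mono_of_epi _
  exact Subobject.le_of_comm (inv (Subobject.ofLE _ _ (imageSubobject_comp_le π f))) (by simp)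

/-- comparison of image subobjects up to refinements -/
theorem imageSubobject_le_iff {A B X : C} (f : A ⟶ X) (g : B ⟶ X) :
    imageSubobject f ≤ imageSubobject g ↔
      ∃ (A' : C) (π : A' ⟶ A) (_ : Epi π) (u : A' ⟶ B), π ≫ f = u ≫ g := by
  constructor
  · intro h
    obtain ⟨A', π, hπ, x, hx⟩ := surjective_up_to_refinements_of_epi
      (factorThruImageSubobject g) (factorThruImageSubobject f ≫ Subobject.ofLE _ _ h)
    refine ⟨A', π, hπ, x, ?_⟩
    have := hx =≫ (imageSubobject g).arrow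
    simpa using this
  · rintro ⟨A', π, hπ, u, hu⟩
    rw [← imageSubobject_epi_comp' π f, hu]
    exact imageSubobject_comp_le u g

/-- comparison of image subobjects, element style, up to refinements -/
theorem imageSubobject_le_iff_forall {A B X : C} (f : A ⟶ X) (g : B ⟶ X) :
    imageSubobject f ≤ imageSubobject g ↔
      ∀ ⦃T : C⦄ (a : T ⟶ A), ∃ (T' : C) (π : T' ⟶ T) (_ : Epi π) (b : T' ⟶ B),
        π ≫ a ≫ f = b ≫ g := by
  constructor
  · intro h T a
    obtain ⟨A', π₀, hπ₀, u, hu⟩ := (imageSubobject_le_iff f g).1 h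
    refine ⟨pullback a π₀, pullback.fst a π₀, inferInstance, pullback.snd a π₀ ≫ u, ?_⟩
    rw [← Category.assoc, pullback.condition, Category.assoc, hu, Category.assoc]
  · intro h
    obtain ⟨T', π, hπ, b, hb⟩ := h (𝟙 A)
    exact (imageSubobject_le_iff f g).2 ⟨T', π, hπ, b, by simpa using hb⟩

end Images

section PS

variable {C : Type u} [Category.{v} C]

theorem tr_comp (X : ARSys.PS C) {n m k : ℕ} (h₁ : n ≤ m) (h₂ : m ≤ k) :
    ARSys.tr X h₂ ≫ ARSys.tr X h₁ = ARSys.tr X (h₁.trans h₂) := by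
  rw [← Functor.map_comp]
  rfl

theorem tr_comp_assoc (X : ARSys.PS C) {n m k : ℕ} (h₁ : n ≤ m) (h₂ : m ≤ k) {Z : C}
    (φ : X.obj (op n) ⟶ Z) :
    ARSys.tr X h₂ ≫ ARSys.tr X h₁ ≫ φ = ARSys.tr X (h₁.trans h₂) ≫ φ := by
  rw [← Category.assoc, tr_comp]

theorem tr_naturality {X Y : ARSys.PS C} (φ : X ⟶ Y) {n m : ℕ} (h : n ≤ m) :
    ARSys.tr X h ≫ φ.app (op n) = φ.app (op m) ≫ ARSys.tr Y h :=
  φ.naturality _

theorem tr_naturality_assoc {X Y : ARSys.PS C} (φ : X ⟶ Y) {n m : ℕ} (h : n ≤ m) {Z : C}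
    (ψ : Y.obj (op n) ⟶ Z) :
    ARSys.tr X h ≫ φ.app (op n) ≫ ψ = φ.app (op m) ≫ ARSys.tr Y h ≫ ψ := by
  rw [← Category.assoc, tr_naturality, Category.assoc]

theorem tr_refl (X : ARSys.PS C) (n : ℕ) : ARSys.tr X (le_refl n) = 𝟙 _ :=
  X.map_id _

end PS

section MLAR

variable {C : Type u} [Category.{v} C] [Abelian C]

/-- the image of a longer transition map is smaller -/
theorem image_tr_le (X : ARSys.PS C) {n m k : ℕ} (h₁ : n ≤ m) (h₂ : m ≤ k) :
    imageSubobject (ARSys.tr X (h₁.trans h₂)) ≤ imageSubobject (ARSys.tr X h₁) := by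
  rw [← tr_comp X h₁ h₂]
  exact imageSubobject_comp_le _ _

/-- the uniform Mittag-Leffler condition in terms of general transition maps -/
theorem isMLAR_iff (X : ARSys.PS C) :
    ARSys.IsMLAR X ↔ ∃ r : ℕ, ∀ (m k : ℕ) (h : m + r ≤ k),
      imageSubobject (ARSys.tr X (le_trans (Nat.le_add_right m r) h)) =
        imageSubobject (ARSys.tr X (Nat.le_add_right m r)) := by
  constructor
  · rintro ⟨r, hr⟩
    refine ⟨r, fun m k h => ?_⟩
    obtain ⟨s, rfl⟩ : ∃ s, k = m + s := ⟨k - m, by omega⟩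
    exact hr s (by omega) m
  · rintro ⟨r, hr⟩
    exact ⟨r, fun s hs n => hr n (n + s) (by omega)⟩

/-- the uniform Mittag-Leffler condition: only one inequality needs checking -/
theorem isMLAR_iff_le (X : ARSys.PS C) :
    ARSys.IsMLAR X ↔ ∃ r : ℕ, ∀ (m k : ℕ) (h : m + r ≤ k),
      imageSubobject (ARSys.tr X (Nat.le_add_right m r)) ≤
        imageSubobject (ARSys.tr X (le_trans (Nat.le_add_right m r) h)) := by
  rw [isMLAR_iff]
  constructor
  · rintro ⟨r, hr⟩
    exact ⟨r, fun m k h => (hr m k h).ge⟩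
  · rintro ⟨r, hr⟩
    exact ⟨r, fun m k h => le_antisymm (image_tr_le X _ h) (hr m k h)⟩

/-- the uniform Mittag-Leffler condition, flexible form -/
theorem isMLAR_iff_le' (X : ARSys.PS C) :
    ARSys.IsMLAR X ↔ ∃ r : ℕ, ∀ (m l k : ℕ) (h₁ : m + r ≤ l) (h₂ : l ≤ k),
      imageSubobject (ARSys.tr X (le_trans (Nat.le_add_right m r) h₁)) ≤
        imageSubobject (ARSys.tr X (le_trans (le_trans (Nat.le_add_right m r) h₁) h₂)) := by
  rw [isMLAR_iff_le]
  constructor
  · rintro ⟨r, hr⟩
    exact ⟨r, fun m l k h₁ h₂ => (image_tr_le X _ h₁).trans (hr m k (h₁.trans h₂))⟩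
  · rintro ⟨r, hr⟩
    exact ⟨r, fun m k h => hr m (m + r) k le_rfl h⟩

end MLAR

section Eval

variable {C : Type u} [Category.{v} C] [Abelian C]

theorem epi_app_of_shortExact {S : ShortComplex (ARSys.PS C)} (hS : S.ShortExact) (n : ℕ) :
    Epi (S.g.app (op n)) := by
  have := hS.epi_g
  infer_instance

theorem mono_app_of_shortExact {S : ShortComplex (ARSys.PS C)} (hS : S.ShortExact) (n : ℕ) :
    Mono (S.f.app (op n)) := by
  have := hS.mono_f
  infer_instance

/-- exactness at each level, up to refinements -/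
theorem exact_app_up_to_refinements {S : ShortComplex (ARSys.PS C)} (hS : S.Exact) (n : ℕ)
    {A : C} (x₂ : A ⟶ S.X₂.obj (op n)) (hx₂ : x₂ ≫ S.g.app (op n) = 0) :
    ∃ (A' : C) (π : A' ⟶ A) (_ : Epi π) (x₁ : A' ⟶ S.X₁.obj (op n)),
      π ≫ x₂ = x₁ ≫ S.f.app (op n) := by
  have h : (S.map ((evaluation ℕᵒᵖ C).obj (op n))).Exact := hS.map _
  exact h.exact_up_to_refinements x₂ hx₂

end Eval

end Groth.Agent.Lib.Helper44
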