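import Groth.Prelude.Def_W4stkadequateTF
import Mathlib.Algebra.Homology.ShortComplex.ShortExact
import Mathlib.Algebra.Category.ModuleCat.Abelian
import Mathlib.Algebra.Category.ModuleCat.Biproducts

/-!
# Functoriality of tangent modules of module-valued functors
-/

set_option autoImplicit false

universe u

open CategoryTheory

namespace Groth.Agent.Lib.Helper44

open AdeqTF

variable {A : Type u} [CommRing A] (B : Adeq.Alg A)

theorem tf_map_id (N : ModuleCat.{u} B) : AdeqTF.map B (𝟙 N) = 𝟙 _ := by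
  apply CommAlgCat.hom_ext
  refine AlgHom.ext fun x => ?_
  change TrivSqZeroExt.map (LinearMap.id) x = x
  rw [TrivSqZeroExt.map_id]
  rfl

theorem tf_map_comp {N N' N'' : ModuleCat.{u} B} (g : N ⟶ N') (g' : N' ⟶ N'') :
    AdeqTF.map B (g ≫ g') = AdeqTF.map B g ≫ AdeqTF.map B g' := by
  apply CommAlgCat.hom_ext
  refine AlgHom.ext fun x => ?_
  change TrivSqZeroExt.map (g'.hom ∘ₗ g.hom) x = TrivSqZeroExt.map g'.hom (TrivSqZeroExt.map g.hom x)
  rw [TrivSqZeroExt.map_comp_map]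
  rfl

theorem tf_map_zero (N N' : ModuleCat.{u} B) :
    AdeqTF.map B (0 : N ⟶ N') = AdeqTF.fst B N ≫ AdeqTF.inl B N' := by
  apply CommAlgCat.hom_ext
  refine AlgHom.ext fun x => ?_
  change TrivSqZeroExt.map (0 : N →ₗ[B] N') x = TrivSqZeroExt.inl (TrivSqZeroExt.fst x)
  ext <;> simp

variable (F : Adeq.MVF A)

theorem tangentMap_coe {N N' : ModuleCat.{u} B} (g : N ⟶ N') (x : AdeqTF.tangent B N F) :
    ((AdeqTF.tangentMap B F g x : AdeqTF.tangent B N' F) : F.obj (Adeq.pt (AdeqTF.ext B N'))) =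
      F.map (Adeq.ptHom (AdeqTF.map B g)) x.1 := rfl

theorem tangentMap_id (N : ModuleCat.{u} B) (x : AdeqTF.tangent B N F) :
    AdeqTF.tangentMap B F (𝟙 N) x = x := by
  apply Subtype.ext
  rw [tangentMap_coe]
  have e : Adeq.ptHom (AdeqTF.map B (𝟙 N)) = 𝟙 _ := by rw [tf_map_id]; rfl
  rw [F.congr_map_apply e, F.map_id]
  rfl

theorem tangentMap_comp {N N' N'' : ModuleCat.{u} B} (g : N ⟶ N') (g' : N' ⟶ N'')
    (x : AdeqTF.tangent B N F) :
    AdeqTF.tangentMap B F (g ≫ g') x = AdeqTF.tangentMap B F g' (AdeqTF.tangentMap B F g x) := by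
  apply Subtype.ext
  rw [tangentMap_coe, tangentMap_coe, tangentMap_coe]
  have e : Adeq.ptHom (AdeqTF.map B (g ≫ g')) =
      Adeq.ptHom (AdeqTF.map B g) ≫ Adeq.ptHom (AdeqTF.map B g') := by rw [tf_map_comp]; rfl
  rw [F.congr_map_apply e, F.map_comp_apply]

theorem tangentMap_zero (N N' : ModuleCat.{u} B) (x : AdeqTF.tangent B N F) :
    AdeqTF.tangentMap B F (0 : N ⟶ N') x = 0 := by
  apply Subtype.ext
  rw [tangentMap_coe]
  have e : Adeq.ptHom (AdeqTF.map B (0 : N ⟶ N')) =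
      Adeq.ptHom (AdeqTF.fst B N) ≫ Adeq.ptHom (AdeqTF.inl B N') := by rw [tf_map_zero]; rfl
  rw [F.congr_map_apply e, F.map_comp_apply]
  have hx : F.map (Adeq.ptHom (AdeqTF.fst B N)) x.1 = 0 := x.2
  rw [hx]
  exact map_zero (F.map (Adeq.ptHom (AdeqTF.inl B N'))).hom

end Groth.Agent.Lib.Helper44
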