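import Mathlib.RingTheory.AdicCompletion.Basic

/-!
# Retracts of adically complete modules are adically complete
-/

set_option autoImplicit false

namespace Groth.Agent.Lib.Helper44.AdicRetract

variable {A : Type*} [CommRing A] (I : Ideal A)
variable {L N : Type*} [AddCommGroup L] [Module A L] [AddCommGroup N] [Module A N]

/-- Linear maps preserve congruences modulo `I ^ n • ⊤`. -/
theorem smodEq_map (g : L →ₗ[A] N) {n : ℕ} {x y : L}
    (h : x ≡ y [SMOD (I ^ n • ⊤ : Submodule A L)]) :
    g x ≡ g y [SMOD (I ^ n • ⊤ : Submodule A N)] := by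
  refine SModEq.mono ?_ (h.map g)
  rw [Submodule.map_smul'']
  exact Submodule.smul_mono le_rfl le_top

theorem isHausdorff_of_retract (ι : L →ₗ[A] N) (ρ : N →ₗ[A] L) (h : ∀ x, ρ (ι x) = x)
    [IsHausdorff I N] : IsHausdorff I L where
  haus' x hx := by
    have : ι x = 0 := by
      refine IsHausdorff.haus' (I := I) (ι x) fun n => ?_
      have := smodEq_map I ι (hx n)
      rwa [map_zero] at this
    rw [← h x, this, map_zero]

theorem isPrecomplete_of_retract (ι : L →ₗ[A] N) (ρ : N →ₗ[A] L) (h : ∀ x, ρ (ι x) = x)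
    [IsPrecomplete I N] : IsPrecomplete I L where
  prec' f hf := by
    obtain ⟨y, hy⟩ := IsPrecomplete.prec' (I := I) (fun n => ι (f n))
      (fun {m n} hmn => smodEq_map I ι (hf hmn))
    refine ⟨ρ y, fun n => ?_⟩
    have := smodEq_map I ρ (hy n)
    rwa [h] at this

theorem isAdicComplete_of_retract (ι : L →ₗ[A] N) (ρ : N →ₗ[A] L) (h : ∀ x, ρ (ι x) = x)
    [IsAdicComplete I N] : IsAdicComplete I L :=
  { isHausdorff_of_retract I ι ρ h, isPrecomplete_of_retract I ι ρ h with }

end Groth.Agent.Lib.Helper44.AdicRetract
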