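import Groth.Prelude.Def_Algz
import Mathlib.Order.KrullDimension
import Mathlib.Topology.Specialization
import Mathlib.Data.ENat.Basic

/-!
# Basic facts on the distance function `δ_Z`

Codimension of points in the specialization order, tail sums, and the two constructions of systems
used to show that `δ_Z` decreases under specialization.
-/

set_option autoImplicit false

universe u

namespace Groth.Agent.Lib.Helper44.AlgzBasic

open Algz Specialization

section Codim

variable {Y : Type u} [TopologicalSpace Y]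

theorem codimPt_congr {w v w' v' : Y} (h : w ⤳ v) (h' : w' ⤳ v') (hw : w = w') (hv : v = v') :
    codimPt w v h = codimPt w' v' h' := by
  subst hw
  subst hv
  rfl

theorem codimPt_self (y : Y) (h : y ⤳ y) : codimPt y y h = 0 := by
  unfold codimPt
  rw [Order.height_eq_zero]
  intro b _
  exact b.2

theorem codimPt_mono {w v v' : Y} (h : w ⤳ v) (hv : v ⤳ v') :
    codimPt w v h ≤ codimPt w v' (h.trans hv) := by
  unfold codimPt
  let f : Set.Ici (toEquiv v) → Set.Ici (toEquiv v') :=
    fun x => ⟨x.1, le_trans (toEquiv_le_toEquiv.mpr hv) x.2⟩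
  have hf : StrictMono f := fun a b hab => hab
  exact Order.height_le_height_apply_of_strictMono f hf _

theorem codimPt_le_one {w v : Y} (h : w ⤳ v)
    (himm : ∀ z : Y, w ⤳ z → z ⤳ v → z = w ∨ z = v) : codimPt w v h ≤ 1 := by
  unfold codimPt
  have h1 : ((1 : ℕ) : ℕ∞) = 1 := Nat.cast_one
  rw [← h1, Order.height_le_coe_iff]
  intro x hx
  have hxw : w ⤳ ofEquiv x.1 := hx.le
  have hxv : ofEquiv x.1 ⤳ v := x.2
  rcases himm _ hxw hxv with hz | hz
  · exfalso
    have h2 : (⟨toEquiv w, toEquiv_le_toEquiv.mpr h⟩ : Set.Ici (toEquiv v)) ≤ x := by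
      show toEquiv w ≤ x.1
      exact le_of_eq (congrArg toEquiv hz.symm)
    exact absurd h2 (not_le_of_gt hx)
  · have h2 : Order.height x = 0 := by
      rw [Order.height_eq_zero]
      intro b _
      show x.1 ≤ b.1
      exact le_trans (le_of_eq (congrArg toEquiv hz)) b.2
    rw [h2]
    exact Nat.cast_pos.2 one_pos

theorem one_le_codimPt [T0Space Y] {w v : Y} (h : w ⤳ v) (hne : w ≠ v) : 1 ≤ codimPt w v h := by
  unfold codimPt
  rw [Order.one_le_iff_ne_zero, Ne, Order.height_eq_zero]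
  intro hmin
  have h2 : (⟨toEquiv w, toEquiv_le_toEquiv.mpr h⟩ : Set.Ici (toEquiv v)) ≤
      ⟨toEquiv v, Set.self_mem_Ici⟩ :=
    hmin (show (⟨toEquiv v, Set.self_mem_Ici⟩ : Set.Ici (toEquiv v)) ≤
      ⟨toEquiv w, toEquiv_le_toEquiv.mpr h⟩ from toEquiv_le_toEquiv.mpr h)
  have h3 : v ⤳ w := toEquiv_le_toEquiv.mp h2
  exact hne (h.antisymm h3).eq

theorem deltaZ_le {Z : Set Y} {y : Y} {k : ℕ} (S : DSystem Z y k) : deltaZ Z y ≤ S.delta :=
  iInf₂_le k S

end Codim

section Tail

/-- tail sums -/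
noncomputable def Ts {m : ℕ} (f : Fin m → ℕ∞) (n : ℕ) : ℕ∞ :=
  ∑ j ∈ Finset.univ.filter (fun j : Fin m => n ≤ j.val), f j

theorem Ts_succ {m : ℕ} (f : Fin (m + 1) → ℕ∞) (n : ℕ) :
    Ts f n = Ts (fun j => f j.castSucc) n + (if n ≤ m then f (Fin.last m) else 0) := by
  unfold Ts
  rw [Finset.sum_filter, Finset.sum_filter, Fin.sum_univ_castSucc]
  simp only [Fin.val_castSucc, Fin.val_last]

theorem Ts_mono {m : ℕ} {f g : Fin m → ℕ∞} (h : ∀ j, f j ≤ g j) (n : ℕ) : Ts f n ≤ Ts g n :=
  Finset.sum_le_sum fun j _ => h j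

theorem Ts_congr {m : ℕ} {f g : Fin m → ℕ∞} (h : ∀ j, f j = g j) (n : ℕ) : Ts f n = Ts g n :=
  Finset.sum_congr rfl fun j _ => h j

theorem Ts_eq_zero_of_le {m : ℕ} (f : Fin m → ℕ∞) (n : ℕ) (h : m ≤ n) : Ts f n = 0 := by
  unfold Ts
  rw [Finset.filter_false_of_mem, Finset.sum_empty]
  intro j _
  have := j.2
  omega

variable {Y : Type u} [TopologicalSpace Y]

theorem delta_eq {Z : Set Y} {y : Y} {k : ℕ} (S : DSystem Z y k) :
    S.delta = (k : ℕ∞) + Finset.univ.sup fun i : Fin (k + 1) =>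
      Ts S.c i.val - Ts S.b i.val := by
  unfold DSystem.delta Ts
  congr 1

theorem enat_key (a b β M : ℕ∞) (hβ : 1 ≤ β) (hM : a - b ≤ M) (hM1 : 1 ≤ M) :
    1 + (a - (b + β)) ≤ M := by
  rcases le_or_gt a (b + β) with h | h
  · rw [tsub_eq_zero_of_le h, add_zero]
    exact hM1
  · have hb : b + β ≠ ⊤ := ne_top_of_lt h
    have hb1 : b ≠ ⊤ := by
      rintro rfl
      exact hb (top_add _)
    have hb2 : β ≠ ⊤ := by
      rintro rfl
      exact hb (add_top _)
    lift b to ℕ using hb1
    lift β to ℕ using hb2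
    refine le_trans ?_ hM
    induction a using ENat.recTopCoe with
    | top =>
      rw [ENat.top_sub_natCast]
      exact le_top
    | coe a =>
      have h1 : b + β < a := by exact_mod_cast h
      have h2 : 1 ≤ β := by exact_mod_cast hβ
      have h3 : 1 + (a - (b + β)) ≤ a - b := by omega
      exact_mod_cast h3

end Tail

section Systems

variable {Y : Type u} [TopologicalSpace Y]

/-- Case I: replace the last pair of a system. -/
theorem exists_system_replace {Z : Set Y} (hZ : IsClosed Z) {y y' : Y} (hyy' : y ⤳ y') {k : ℕ}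
    (S : DSystem Z y k) (hv : S.v (Fin.last k) = y) :
    ∃ S' : DSystem Z y' k, S'.delta ≤ S.delta := by
  classical
  let v' : Fin (k + 1) → Y := Function.update S.v (Fin.last k) y'
  let w' : Fin (k + 1) → Y := Function.update S.w (Fin.last k) y'
  have hv'_last : v' (Fin.last k) = y' := Function.update_self _ _ _
  have hw'_last : w' (Fin.last k) = y' := Function.update_self _ _ _
  have hv'_ne : ∀ i, i ≠ Fin.last k → v' i = S.v i := fun i hi => Function.update_of_ne hi _ _
  have hw'_ne : ∀ i, i ≠ Fin.last k → w' i = S.w i := fun i hi => Function.update_of_ne hi _ _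
  have hspec : ∀ i, w' i ⤳ v' i := by
    intro i
    by_cases hi : i = Fin.last k
    · rw [hi, hv'_last, hw'_last]
    · rw [hv'_ne i hi, hw'_ne i hi]
      exact S.spec i
  have hcs_ne : ∀ i : Fin k, i.castSucc ≠ Fin.last k := fun i => (Fin.castSucc_lt_last i).ne
  have hspec_succ : ∀ i : Fin k, w' i.castSucc ⤳ v' i.succ := by
    intro i
    rw [hw'_ne _ (hcs_ne i)]
    by_cases hi : i.succ = Fin.last k
    · rw [hi, hv'_last]
      have h1 := S.spec_succ i
      rw [hi, hv] at h1
      exact h1.trans hyy'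
    · rw [hv'_ne _ hi]
      exact S.spec_succ i
  have hstart : v' 0 ∈ Z := by
    by_cases h0 : (0 : Fin (k + 1)) = Fin.last k
    · rw [h0, hv'_last]
      have h1 : y ∈ Z := by
        rw [← hv, ← h0]
        exact S.start_mem
      exact hyy'.mem_closed hZ h1
    · rw [hv'_ne _ h0]
      exact S.start_mem
  let S' : DSystem Z y' k := ⟨v', w', hspec, hspec_succ, hstart, hw'_last⟩
  refine ⟨S', ?_⟩
  have hc : ∀ j, S'.c j = S.c j := by
    intro j
    by_cases hj : j = Fin.last k
    · rw [hj]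
      show codimPt (w' (Fin.last k)) (v' (Fin.last k)) _ =
        codimPt (S.w (Fin.last k)) (S.v (Fin.last k)) _
      rw [codimPt_congr _ (specializes_rfl : y' ⤳ y') hw'_last hv'_last, codimPt_self,
        codimPt_congr _ (specializes_rfl : y ⤳ y) S.last_eq hv, codimPt_self]
    · exact codimPt_congr _ _ (hw'_ne j hj) (hv'_ne j hj)
  have hb : ∀ j, S.b j ≤ S'.b j := by
    intro j
    by_cases hj : j.succ = Fin.last k
    · have h1 : S.v j.succ ⤳ y' := by
        rw [hj, hv]
        exact hyy'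
      refine le_trans (codimPt_mono (S.spec_succ j) h1) (le_of_eq ?_)
      exact codimPt_congr _ _ (hw'_ne _ (hcs_ne j)).symm (by rw [hj]; exact hv'_last.symm)
    · exact le_of_eq (codimPt_congr _ _ (hw'_ne _ (hcs_ne j)).symm (hv'_ne _ hj).symm)
  rw [delta_eq, delta_eq]
  refine add_le_add le_rfl (Finset.sup_mono_fun fun i _ => tsub_le_tsub ?_ ?_)
  · exact le_of_eq (Ts_congr hc _)
  · exact Ts_mono hb _

/-- Case II: append a pair to a system. -/
theorem exists_system_append [T0Space Y] {Z : Set Y} {y y' : Y} (hyy' : y ⤳ y') (hne : y ≠ y')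
    {k : ℕ} (S : DSystem Z y k) (hv : S.v (Fin.last k) ≠ y) :
    ∃ S' : DSystem Z y' (k + 1), S'.delta ≤ S.delta := by
  classical
  let v' : Fin (k + 2) → Y := Fin.snoc (α := fun _ => Y) S.v y'
  let w' : Fin (k + 2) → Y := Fin.snoc (α := fun _ => Y) S.w y'
  have hv'c : ∀ j : Fin (k + 1), v' j.castSucc = S.v j :=
    fun j => Fin.snoc_castSucc (α := fun _ => Y) _ _ _
  have hw'c : ∀ j : Fin (k + 1), w' j.castSucc = S.w j :=
    fun j => Fin.snoc_castSucc (α := fun _ => Y) _ _ _
  have hv'l : v' (Fin.last (k + 1)) = y' := Fin.snoc_last (α := fun _ => Y) _ _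
  have hw'l : w' (Fin.last (k + 1)) = y' := Fin.snoc_last (α := fun _ => Y) _ _
  have hspec : ∀ i, w' i ⤳ v' i := by
    intro i
    refine Fin.lastCases ?_ (fun j => ?_) i
    · rw [hv'l, hw'l]
    · rw [hv'c, hw'c]
      exact S.spec j
  have hspec_succ : ∀ i : Fin (k + 1), w' i.castSucc ⤳ v' i.succ := by
    intro i
    rw [hw'c]
    refine Fin.lastCases ?_ (fun j => ?_) i
    · rw [Fin.succ_last, hv'l, S.last_eq]
      exact hyy'
    · rw [Fin.succ_castSucc, hv'c]
      exact S.spec_succ j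
  have hstart : v' 0 ∈ Z := by
    rw [← Fin.castSucc_zero, hv'c]
    exact S.start_mem
  let S' : DSystem Z y' (k + 1) := ⟨v', w', hspec, hspec_succ, hstart, hw'l⟩
  refine ⟨S', ?_⟩
  have hc : ∀ j : Fin (k + 1), S'.c j.castSucc = S.c j :=
    fun j => codimPt_congr _ _ (hw'c j) (hv'c j)
  have hcl : S'.c (Fin.last (k + 1)) = 0 :=
    (codimPt_congr _ (specializes_rfl : y' ⤳ y') hw'l hv'l).trans (codimPt_self _ _)
  have hb : ∀ j : Fin k, S'.b j.castSucc = S.b j := by
    intro j
    refine codimPt_congr _ _ (hw'c _) ?_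
    rw [Fin.succ_castSucc]
    exact hv'c _
  have hbl : 1 ≤ S'.b (Fin.last k) := by
    have h1 : S'.b (Fin.last k) = codimPt y y' hyy' := by
      refine codimPt_congr _ _ ((hw'c _).trans S.last_eq) ?_
      rw [Fin.succ_last]
      exact hv'l
    rw [h1]
    exact one_le_codimPt hyy' hne
  have hck : 1 ≤ S.c (Fin.last k) :=
    one_le_codimPt (S.spec _) (by rw [S.last_eq]; exact fun h => hv h.symm)
  have hM1 : 1 ≤ Finset.univ.sup fun i : Fin (k + 1) => Ts S.c i.val - Ts S.b i.val := by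
    refine le_trans ?_ (Finset.le_sup (f := fun i : Fin (k + 1) => Ts S.c i.val - Ts S.b i.val)
      (Finset.mem_univ (Fin.last k)))
    show 1 ≤ Ts S.c (Fin.last k).val - Ts S.b (Fin.last k).val
    rw [Fin.val_last, Ts_eq_zero_of_le S.b k le_rfl, tsub_zero, Ts_succ, if_pos le_rfl]
    exact le_trans hck le_add_self
  have key : ∀ i : Fin (k + 2), 1 + (Ts S'.c i.val - Ts S'.b i.val) ≤
      Finset.univ.sup fun i : Fin (k + 1) => Ts S.c i.val - Ts S.b i.val := by
    intro i
    have hi := i.2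
    rw [Ts_succ S'.c, Ts_succ S'.b, if_pos (by omega), hcl, add_zero, Ts_congr hc, Ts_congr hb]
    by_cases hn : i.val ≤ k
    · rw [if_pos hn]
      refine enat_key _ _ _ _ hbl ?_ hM1
      exact Finset.le_sup (f := fun i : Fin (k + 1) => Ts S.c i.val - Ts S.b i.val)
        (Finset.mem_univ (⟨i.val, by omega⟩ : Fin (k + 1)))
    · rw [Ts_eq_zero_of_le S.c _ (by omega), zero_tsub, add_zero]
      exact hM1
  rw [delta_eq, delta_eq]
  have hsup : (Finset.univ.sup fun i : Fin (k + 2) => Ts S'.c i.val - Ts S'.b i.val) ≤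
      (Finset.univ.sup fun i : Fin (k + 1) => Ts S.c i.val - Ts S.b i.val) - 1 :=
    Finset.sup_le fun i _ => ENat.le_sub_of_add_le_left ENat.one_ne_top (key i)
  calc ((k + 1 : ℕ) : ℕ∞) + (Finset.univ.sup fun i : Fin (k + 2) => Ts S'.c i.val - Ts S'.b i.val)
      ≤ ((k + 1 : ℕ) : ℕ∞) +
        ((Finset.univ.sup fun i : Fin (k + 1) => Ts S.c i.val - Ts S.b i.val) - 1) :=
        add_le_add le_rfl hsup
    _ = (k : ℕ∞) + (1 + ((Finset.univ.sup fun i : Fin (k + 1) =>
          Ts S.c i.val - Ts S.b i.val) - 1)) := by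
        rw [Nat.cast_add, Nat.cast_one, add_assoc]
    _ = (k : ℕ∞) + (Finset.univ.sup fun i : Fin (k + 1) => Ts S.c i.val - Ts S.b i.val) := by
        rw [add_tsub_cancel_of_le hM1]

/-- **`δ_Z` decreases under specialization.** -/
theorem deltaZ_le_of_specializes [T0Space Y] {Z : Set Y} (hZ : IsClosed Z) {y y' : Y}
    (h : y ⤳ y') : deltaZ Z y' ≤ deltaZ Z y := by
  by_cases hyy : y = y'
  · rw [hyy]
  · refine le_iInf₂ fun k S => ?_
    by_cases hv : S.v (Fin.last k) = y
    · obtain ⟨S', hS'⟩ := exists_system_replace hZ h S hv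
      exact (deltaZ_le S').trans hS'
    · obtain ⟨S', hS'⟩ := exists_system_append h hyy S hv
      exact (deltaZ_le S').trans hS'

end Systems

end Groth.Agent.Lib.Helper44.AlgzBasic
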