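import Groth.Agent.Lib.Helper44.AlgzBasic
import Mathlib.AlgebraicGeometry.Stalk
import Mathlib.AlgebraicGeometry.Morphisms.Preimmersion
import Mathlib.RingTheory.KrullDimension.NonZeroDivisors

/-!
# The distance function and the local ring at a point of `Z`
-/

set_option autoImplicit false

universe u

namespace Groth.Agent.Lib.Helper44.AlgzStalk

open AlgebraicGeometry Algz Specialization Groth.Agent.Lib.Helper44.AlgzBasic

section Trivial

variable {Y : Type u} [TopologicalSpace Y]

/-- the system `V_0 = cl z ⊆ W_0 = cl y` -/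
theorem deltaZ_le_codimPt (Z : Set Y) (y z : Y) (h : y ⤳ z) (hz : z ∈ Z) :
    deltaZ Z y ≤ codimPt y z h := by
  let S : DSystem Z y 0 := ⟨fun _ => z, fun _ => y, fun _ => h, fun i => i.elim0, hz, rfl⟩
  refine (deltaZ_le S).trans ?_
  rw [delta_eq, Nat.cast_zero, zero_add]
  refine Finset.sup_le fun i _ => ?_
  refine le_trans tsub_le_self ?_
  unfold Ts
  refine le_trans (Finset.sum_le_sum_of_subset (Finset.filter_subset _ _)) ?_
  rw [Fin.sum_univ_one]
  exact le_rfl

end Trivial

variable (Y : Scheme.{u}) (z : Y)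

theorem exists_prime (x : Set.Ici (toEquiv z)) :
    ∃ Q : PrimeSpectrum (Y.presheaf.stalk z), (Y.fromSpecStalk z) Q = ofEquiv x.1 := by
  have h1 : ofEquiv x.1 ⤳ z := x.2
  have h2 : ofEquiv x.1 ∈ Set.range (Y.fromSpecStalk z) := by
    rw [Scheme.range_fromSpecStalk]
    exact h1
  exact h2

/-- the prime of the local ring corresponding to a generization -/
noncomputable def primeOf (x : Set.Ici (toEquiv z)) : PrimeSpectrum (Y.presheaf.stalk z) :=
  Classical.choose (exists_prime Y z x)

theorem primeOf_spec (x : Set.Ici (toEquiv z)) :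
    (Y.fromSpecStalk z) (primeOf Y z x) = ofEquiv x.1 :=
  Classical.choose_spec (exists_prime Y z x)

theorem primeOf_le_iff (a b : Set.Ici (toEquiv z)) :
    a ≤ b ↔ OrderDual.toDual (primeOf Y z a) ≤ OrderDual.toDual (primeOf Y z b) := by
  rw [OrderDual.toDual_le_toDual, PrimeSpectrum.le_iff_specializes]
  have h1 : primeOf Y z b ⤳ primeOf Y z a ↔
      (Y.fromSpecStalk z) (primeOf Y z b) ⤳ (Y.fromSpecStalk z) (primeOf Y z a) :=
    ((Y.fromSpecStalk z).isEmbedding.isInducing.specializes_iff).symm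
  rw [primeOf_spec, primeOf_spec] at h1
  exact h1.symm

theorem codimPt_le_dim (y : Y) (h : y ⤳ z) (P : PrimeSpectrum (Y.presheaf.stalk z))
    (hP : (Y.fromSpecStalk z) P = y) :
    ((codimPt y z h : ℕ∞) : WithBot ℕ∞) ≤
      ringKrullDim (↥(Y.presheaf.stalk z) ⧸ P.asIdeal) := by
  have hmono : StrictMono (fun x => OrderDual.toDual (primeOf Y z x)) :=
    strictMono_of_le_iff_le (primeOf_le_iff Y z)
  have h1 := Order.height_le_height_apply_of_strictMono _ hmono
    ⟨toEquiv y, toEquiv_le_toEquiv.mpr h⟩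
  have h2 : primeOf Y z ⟨toEquiv y, toEquiv_le_toEquiv.mpr h⟩ = P :=
    (Y.fromSpecStalk z).isEmbedding.injective (by rw [primeOf_spec, hP]; rfl)
  simp only [h2] at h1
  have h3 : Order.height (OrderDual.toDual P) = Order.coheight P := rfl
  rw [h3] at h1
  have h4 : ((Order.coheight P : ℕ∞) : WithBot ℕ∞) = Order.krullDim (Set.Ici P) :=
    Order.coheight_eq_krullDim_Ici P
  have h5 : PrimeSpectrum.zeroLocus (P.asIdeal : Set (Y.presheaf.stalk z)) = Set.Ici P := by
    ext Q
    rw [PrimeSpectrum.mem_zeroLocus, Set.mem_Ici]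
    exact Iff.rfl
  rw [ringKrullDim_quotient, Order.krullDim_eq_of_orderIso (OrderIso.setCongr _ _ h5), ← h4]
  unfold codimPt
  exact WithBot.coe_le_coe.2 h1

end Groth.Agent.Lib.Helper44.AlgzStalk
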