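import Groth.Agent.Lib.Helper44.AlgzDim
import Groth.Agent.Lib.Helper44.AlgzStalk
import Groth.Prelude.Def_Found
import Mathlib.RingTheory.Ideal.KrullsHeightTheorem

/-!
# The distance function of a catenary Noetherian local ring

For a catenary Noetherian local ring `A` and `Z` the closed point of `Spec A`:
`δ_Z(y) = dim A/𝔭_y`.
-/

set_option autoImplicit false

universe u

namespace Groth.Agent.Lib.Helper44.AlgzCat

open AlgebraicGeometry Algz Specialization Groth.Agent.Lib.Helper44.AlgzBasic

section OrderPart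

variable {α : Type*} [PartialOrder α] (m : α) (hm : ∀ x : α, x ≤ m)
  (hfin : ∀ x : α, Order.coheight x < ⊤)

include hm hfin

/-- a saturated chain from `x` to the top of length `coheight x` -/
theorem sat_chain : ∀ (n : ℕ) (x : α), Order.coheight x = n →
    ∃ f : Fin (n + 1) → α, f 0 = x ∧ f (Fin.last n) = m ∧
      ∀ i : Fin n, f i.castSucc ⋖ f i.succ := by
  intro n
  induction n with
  | zero =>
    intro x hx
    rw [Nat.cast_zero, Order.coheight_eq_zero] at hx
    have h1 : x = m := le_antisymm (hm x) (hx (hm x))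
    exact ⟨fun _ => x, rfl, h1, fun i => i.elim0⟩
  | succ n ih =>
    intro x hx
    rw [Nat.cast_succ, Order.coheight_eq_coe_add_one_iff] at hx
    obtain ⟨_, ⟨y, hxy, hyn⟩, hall⟩ := hx
    have hcov : x ⋖ y := ⟨hxy, fun t hxt hty => by
      have h1 := hall t hxt
      have h2 := Order.coheight_strictAnti hty (hfin y)
      rw [hyn] at h2
      exact absurd h1 (not_le_of_gt h2)⟩
    obtain ⟨f', hf0, hfl, hfc⟩ := ih y hyn
    refine ⟨Fin.cons (α := fun _ => α) x f', Fin.cons_zero (α := fun _ => α) _ _, ?_, ?_⟩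
    · rw [← Fin.succ_last, Fin.cons_succ]
      exact hfl
    · intro i
      refine Fin.cases ?_ (fun j => ?_) i
      · rw [Fin.castSucc_zero, Fin.cons_zero, Fin.cons_succ, hf0]
        exact hcov
      · rw [← Fin.succ_castSucc, Fin.cons_succ, Fin.cons_succ]
        exact hfc j

end OrderPart

section Ring

variable {R : Type u} [CommRing R]

theorem coheight_eq_dim (P : PrimeSpectrum R) :
    ((Order.coheight P : ℕ∞) : WithBot ℕ∞) = ringKrullDim (R ⧸ P.asIdeal) := by
  have h4 : ((Order.coheight P : ℕ∞) : WithBot ℕ∞) = Order.krullDim (Set.Ici P) :=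
    Order.coheight_eq_krullDim_Ici P
  have h5 : PrimeSpectrum.zeroLocus (P.asIdeal : Set R) = Set.Ici P := by
    ext Q
    rw [PrimeSpectrum.mem_zeroLocus, Set.mem_Ici]
    exact Iff.rfl
  rw [ringKrullDim_quotient, Order.krullDim_eq_of_orderIso (OrderIso.setCongr _ _ h5), ← h4]

variable [IsNoetherianRing R] [IsLocalRing R]

omit [IsNoetherianRing R] in
theorem le_closedPoint (x : PrimeSpectrum R) : x ≤ IsLocalRing.closedPoint R :=
  IsLocalRing.le_maximalIdeal x.2.ne_top

theorem coheight_covBy (hA : CAlg.IsCatenary R) {q q' : PrimeSpectrum R} (h : q ⋖ q') :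
    Order.coheight q = Order.coheight q' + 1 := by
  have hfin : ∀ x : PrimeSpectrum R, Order.coheight x < ⊤ := fun x => Order.coheight_lt_top x
  obtain ⟨n', hn'⟩ := ENat.ne_top_iff_exists.1 (hfin q').ne
  obtain ⟨n, hn⟩ := ENat.ne_top_iff_exists.1 (hfin q).ne
  obtain ⟨f', hf0', hfl', hfc'⟩ := sat_chain (IsLocalRing.closedPoint R) le_closedPoint hfin n' q'
    hn'.symm
  obtain ⟨f, hf0, hfl, hfc⟩ := sat_chain (IsLocalRing.closedPoint R) le_closedPoint hfin n q
    hn.symm
  let g : Fin (n' + 2) → PrimeSpectrum R := Fin.cons (α := fun _ => PrimeSpectrum R) q f'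
  have hgc : ∀ i : Fin (n' + 1), g i.castSucc ⋖ g i.succ := by
    intro i
    refine Fin.cases ?_ (fun j => ?_) i
    · show Fin.cons (α := fun _ => PrimeSpectrum R) q f' (Fin.castSucc 0) ⋖
        Fin.cons (α := fun _ => PrimeSpectrum R) q f' (Fin.succ 0)
      rw [Fin.castSucc_zero, Fin.cons_zero, Fin.cons_succ, hf0']
      exact h
    · show Fin.cons (α := fun _ => PrimeSpectrum R) q f' (Fin.castSucc j.succ) ⋖
        Fin.cons (α := fun _ => PrimeSpectrum R) q f' (Fin.succ j.succ)
      rw [← Fin.succ_castSucc, Fin.cons_succ, Fin.cons_succ]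
      exact hfc' j
  have hg0 : g 0 = q := Fin.cons_zero (α := fun _ => PrimeSpectrum R) _ _
  have hgl : g (Fin.last (n' + 1)) = IsLocalRing.closedPoint R := by
    show Fin.cons (α := fun _ => PrimeSpectrum R) q f' (Fin.last (n' + 1)) = _
    rw [← Fin.succ_last, Fin.cons_succ]
    exact hfl'
  let s : LTSeries (PrimeSpectrum R) :=
    LTSeries.mk (n' + 1) g (Fin.strictMono_iff_lt_succ.2 fun i => (hgc i).lt)
  let t : LTSeries (PrimeSpectrum R) :=
    LTSeries.mk n f (Fin.strictMono_iff_lt_succ.2 fun i => (hfc i).lt)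
  have h1 : s.length = t.length :=
    hA.2 s t (hg0.trans hf0.symm) (hgl.trans hfl.symm) (fun i => hgc i) (fun i => hfc i)
  have h2 : n' + 1 = n := h1
  rw [← hn, ← hn', ← h2]
  push_cast
  rfl

end Ring

section Main

variable (A : Type u) [CommRing A] [IsNoetherianRing A] [IsLocalRing A]

/-- a point of `Spec A` as a prime -/
def toPS (x : Spec (CommRingCat.of A)) : PrimeSpectrum A := x

omit [IsNoetherianRing A] [IsLocalRing A] in
theorem spec_specializes_iff (x y : Spec (CommRingCat.of A)) :
    x ⤳ y ↔ toPS A x ≤ toPS A y :=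
  (PrimeSpectrum.le_iff_specializes (toPS A x) (toPS A y)).symm

/-- the dimension function `𝔭 ↦ dim A/𝔭` -/
noncomputable def dimFun (y : Spec (CommRingCat.of A)) : ℤ :=
  ((Order.coheight (toPS A y)).toNat : ℤ)

theorem dimFun_spec (hA : CAlg.IsCatenary A) : ∀ x y : Spec (CommRingCat.of A), x ⤳ y → x ≠ y →
    dimFun A y < dimFun A x ∧
      ((∀ z : Spec (CommRingCat.of A), x ⤳ z → z ⤳ y → z = x ∨ z = y) →
        dimFun A x = dimFun A y + 1) := by
  intro x y hxy hne
  have hfin : ∀ x : PrimeSpectrum A, Order.coheight x < ⊤ := fun x => Order.coheight_lt_top x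
  have hle : toPS A x ≤ toPS A y := (spec_specializes_iff A x y).1 hxy
  have hlt : toPS A x < toPS A y := lt_of_le_of_ne hle hne
  obtain ⟨nx, hnx⟩ := ENat.ne_top_iff_exists.1 (hfin (toPS A x)).ne
  obtain ⟨ny, hny⟩ := ENat.ne_top_iff_exists.1 (hfin (toPS A y)).ne
  have h1 := Order.coheight_strictAnti hlt (hfin (toPS A y))
  constructor
  · unfold dimFun
    rw [← hnx, ← hny] at h1 ⊢
    rw [ENat.toNat_natCast, ENat.toNat_natCast]
    exact_mod_cast h1
  · intro himm
    have hcov : toPS A x ⋖ toPS A y := by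
      refine ⟨hlt, fun z hxz hzy => ?_⟩
      rcases himm (z : Spec (CommRingCat.of A)) ((spec_specializes_iff A x z).2 hxz.le)
        ((spec_specializes_iff A z y).2 hzy.le) with h | h
      · exact absurd h hxz.ne'
      · exact absurd h hzy.ne
    have h2 := coheight_covBy hA hcov
    unfold dimFun
    rw [← hnx, ← hny] at h2 ⊢
    rw [ENat.toNat_natCast, ENat.toNat_natCast]
    have h3 : nx = ny + 1 := by exact_mod_cast h2
    rw [h3]
    push_cast
    rfl

omit [IsNoetherianRing A] in
theorem codimPt_le_coheight (y : Spec (CommRingCat.of A))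
    (h : y ⤳ (IsLocalRing.closedPoint A : Spec (CommRingCat.of A))) :
    codimPt y (IsLocalRing.closedPoint A : Spec (CommRingCat.of A)) h ≤
      Order.coheight (toPS A y) := by
  unfold codimPt
  let f : Set.Ici (toEquiv (IsLocalRing.closedPoint A : Spec (CommRingCat.of A))) →
      (PrimeSpectrum A)ᵒᵈ := fun x => OrderDual.toDual (toPS A (ofEquiv x.1))
  have hf : StrictMono f := by
    refine strictMono_of_le_iff_le fun a b => ?_
    exact spec_specializes_iff A (ofEquiv b.1) (ofEquiv a.1)
  have h2 := Order.height_le_height_apply_of_strictMono f hf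
    ⟨toEquiv y, toEquiv_le_toEquiv.mpr h⟩
  exact h2

/-- **The distance function of a catenary Noetherian local ring.** -/
theorem deltaZ_eq (hA : CAlg.IsCatenary A) (y : Spec (CommRingCat.of A)) :
    ((deltaZ ({IsLocalRing.closedPoint A} : Set (Spec (CommRingCat.of A))) y : ℕ∞) :
      WithBot ℕ∞) = ringKrullDim (A ⧸ y.asIdeal) := by
  have hyc : y ⤳ (IsLocalRing.closedPoint A : Spec (CommRingCat.of A)) :=
    (spec_specializes_iff A y _).2 (le_closedPoint (toPS A y))
  have hdim : ((Order.coheight (toPS A y) : ℕ∞) : WithBot ℕ∞) = ringKrullDim (A ⧸ y.asIdeal) :=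
    coheight_eq_dim (toPS A y)
  refine Eq.trans ?_ hdim
  refine le_antisymm (WithBot.coe_le_coe.2 ?_) (WithBot.coe_le_coe.2 ?_)
  · exact (Groth.Agent.Lib.Helper44.AlgzStalk.deltaZ_le_codimPt
      ({IsLocalRing.closedPoint A} : Set (Spec (CommRingCat.of A))) y _ hyc
      (Set.mem_singleton _)).trans (codimPt_le_coheight A y hyc)
  · cases hd : deltaZ ({IsLocalRing.closedPoint A} : Set (Spec (CommRingCat.of A))) y with
    | top => exact le_top
    | coe n =>
      obtain ⟨z, hz, hle⟩ := Groth.Agent.Lib.Helper44.AlgzDim.exists_le (dimFun A)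
        (dimFun_spec A hA) _ y n hd
      have hz' : z = (IsLocalRing.closedPoint A : Spec (CommRingCat.of A)) := hz
      have h0 : dimFun A z = 0 := by
        unfold dimFun
        rw [hz']
        have h1 : Order.coheight (IsLocalRing.closedPoint A) = 0 := by
          rw [Order.coheight_eq_zero]
          intro b _
          exact le_closedPoint b
        show ((Order.coheight (IsLocalRing.closedPoint A)).toNat : ℤ) = 0
        rw [h1]
        rfl
      rw [h0, add_zero] at hle
      unfold dimFun at hle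
      have hfin : Order.coheight (toPS A y) < ⊤ := Order.coheight_lt_top _
      obtain ⟨ny, hny⟩ := ENat.ne_top_iff_exists.1 hfin.ne
      rw [← hny] at hle ⊢
      rw [ENat.toNat_natCast] at hle
      exact_mod_cast hle

end Main

end Groth.Agent.Lib.Helper44.AlgzCat
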