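import Groth.Agent.Lib.Helper44.AlgzBasic

/-!
# The distance function and dimension functions

For a function `δ : Y → ℤ` dropping strictly along nontrivial specializations and by exactly one
along immediate ones, the codimension of `cl v` in `cl w` is `δ w - δ v`, and `δ y ≤ δ_Z(y) + δ z`
for some `z ∈ Z` whenever `δ_Z(y)` is finite.
-/

set_option autoImplicit false

universe u

namespace Groth.Agent.Lib.Helper44.AlgzDim

open Algz Specialization Groth.Agent.Lib.Helper44.AlgzBasic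

variable {Y : Type u} [TopologicalSpace Y] [T0Space Y] (δ : Y → ℤ)
  (hδ : ∀ x y : Y, x ⤳ y → x ≠ y →
    δ y < δ x ∧ ((∀ z : Y, x ⤳ z → z ⤳ y → z = x ∨ z = y) → δ x = δ y + 1))

include hδ

omit [T0Space Y] in
theorem δ_mono {x y : Y} (h : x ⤳ y) : δ y ≤ δ x := by
  by_cases hxy : x = y
  · rw [hxy]
  · exact (hδ x y h hxy).1.le

omit [T0Space Y] in
theorem codimPt_le (w v : Y) (h : w ⤳ v) : codimPt w v h ≤ ((δ w - δ v).toNat : ℕ∞) := by
  unfold codimPt
  let f : Set.Ici (toEquiv v) → ℕ := fun x => (δ (ofEquiv x.1) - δ v).toNat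
  have hf : StrictMono f := by
    intro a b hab
    have h1 : ofEquiv b.1 ⤳ ofEquiv a.1 := hab.le
    have h2 : ofEquiv b.1 ≠ ofEquiv a.1 := by
      intro heq
      have h3 : b = a := Subtype.ext (ofEquiv.injective heq)
      exact absurd (le_of_eq h3) (not_le_of_gt hab)
    have h3 := (hδ _ _ h1 h2).1
    have h4 : δ v ≤ δ (ofEquiv a.1) := δ_mono δ hδ (show ofEquiv a.1 ⤳ v from a.2)
    show (δ (ofEquiv a.1) - δ v).toNat < (δ (ofEquiv b.1) - δ v).toNat
    omega
  have h5 := Order.height_le_height_apply_of_strictMono f hf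
    ⟨toEquiv w, toEquiv_le_toEquiv.mpr h⟩
  rw [Order.height_nat] at h5
  exact h5

theorem le_of_codimPt_eq (v : Y) : ∀ (n : ℕ) (w : Y) (h : w ⤳ v), codimPt w v h = n →
    (δ w - δ v).toNat ≤ n := by
  intro n
  induction n with
  | zero =>
    intro w h hn
    unfold codimPt at hn
    rw [Nat.cast_zero, Order.height_eq_zero] at hn
    have h2 : (⟨toEquiv w, toEquiv_le_toEquiv.mpr h⟩ : Set.Ici (toEquiv v)) ≤
        ⟨toEquiv v, Set.self_mem_Ici⟩ :=
      hn (show (⟨toEquiv v, Set.self_mem_Ici⟩ : Set.Ici (toEquiv v)) ≤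
        ⟨toEquiv w, toEquiv_le_toEquiv.mpr h⟩ from toEquiv_le_toEquiv.mpr h)
    have h3 : v ⤳ w := toEquiv_le_toEquiv.mp h2
    have h4 : w = v := (h.antisymm h3).eq
    rw [h4, sub_self]
    exact le_rfl
  | succ n ih =>
    intro w h hn
    unfold codimPt at hn
    rw [Nat.cast_succ, Order.height_eq_coe_add_one_iff] at hn
    obtain ⟨_, ⟨y, hy, hyn⟩, hall⟩ := hn
    have hu : ofEquiv y.1 ⤳ v := y.2
    have hwu : w ⤳ ofEquiv y.1 := hy.le
    have hne : w ≠ ofEquiv y.1 := by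
      intro heq
      have h3 : (⟨toEquiv w, toEquiv_le_toEquiv.mpr h⟩ : Set.Ici (toEquiv v)) = y :=
        Subtype.ext (congrArg toEquiv heq)
      exact absurd (le_of_eq h3) (not_le_of_gt hy)
    have himm : ∀ z : Y, w ⤳ z → z ⤳ ofEquiv y.1 → z = w ∨ z = ofEquiv y.1 := by
      intro z hwz hzu
      by_contra hcon
      push Not at hcon
      let t : Set.Ici (toEquiv v) := ⟨toEquiv z, toEquiv_le_toEquiv.mpr (hzu.trans hu)⟩
      have hyt : y < t := by
        refine lt_of_le_of_ne (show toEquiv (ofEquiv y.1) ≤ toEquiv z from toEquiv_le_toEquiv.mpr hzu) ?_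
        intro heq
        exact hcon.2 (congrArg (fun s : Set.Ici (toEquiv v) => ofEquiv s.1) heq).symm
      have htx : t < (⟨toEquiv w, toEquiv_le_toEquiv.mpr h⟩ : Set.Ici (toEquiv v)) := by
        refine lt_of_le_of_ne (show toEquiv z ≤ toEquiv w from toEquiv_le_toEquiv.mpr hwz) ?_
        intro heq
        exact hcon.1 (congrArg (fun s : Set.Ici (toEquiv v) => ofEquiv s.1) heq)
      have h6 := hall t htx
      have h7 : Order.height y < Order.height t :=
        Order.height_strictMono hyt (by rw [hyn]; exact ENat.natCast_lt_top n)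
      rw [hyn] at h7
      exact absurd h6 (not_le_of_gt h7)
    have h8 := (hδ w _ hwu hne).2 himm
    have h9 := ih (ofEquiv y.1) hu hyn
    have h10 : δ v ≤ δ (ofEquiv y.1) := δ_mono δ hδ hu
    omega

theorem codimPt_eq (w v : Y) (h : w ⤳ v) : codimPt w v h = ((δ w - δ v).toNat : ℕ∞) := by
  refine le_antisymm (codimPt_le δ hδ w v h) ?_
  have h1 := codimPt_le δ hδ w v h
  have h2 : codimPt w v h ≠ ⊤ := ne_top_of_le_ne_top (ENat.natCast_ne_top _) h1
  obtain ⟨n, hn⟩ := ENat.ne_top_iff_exists.1 h2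
  rw [← hn]
  exact Nat.cast_le.2 (le_of_codimPt_eq δ hδ v n w h hn.symm)

/-- **A dimension function is bounded by the distance function.** -/
theorem exists_le (Z : Set Y) (y : Y) (n : ℕ) (hn : deltaZ Z y = n) :
    ∃ z ∈ Z, δ y ≤ n + δ z := by
  classical
  obtain ⟨k, S, hS⟩ : ∃ (k : ℕ) (S : DSystem Z y k), S.delta ≤ n := by
    by_contra hcon
    push Not at hcon
    have h1 : ((n : ℕ∞) + 1) ≤ deltaZ Z y :=
      le_iInf₂ fun k S => Order.add_one_le_of_lt (hcon k S)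
    rw [hn] at h1
    exact absurd h1 (by exact_mod_cast Nat.not_succ_le_self n)
  refine ⟨S.v 0, S.start_mem, ?_⟩
  let γ : Fin (k + 1) → ℕ := fun j => (δ (S.w j) - δ (S.v j)).toNat
  let β : Fin k → ℕ := fun j => (δ (S.w j.castSucc) - δ (S.v j.succ)).toNat
  have hc : ∀ j, S.c j = (γ j : ℕ∞) := fun j => codimPt_eq δ hδ _ _ (S.spec j)
  have hb : ∀ j, S.b j = (β j : ℕ∞) := fun j => codimPt_eq δ hδ _ _ (S.spec_succ j)
  have hγ : ∀ j, (γ j : ℤ) = δ (S.w j) - δ (S.v j) :=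
    fun j => Int.toNat_of_nonneg (sub_nonneg.2 (δ_mono δ hδ (S.spec j)))
  have hβ : ∀ j, (β j : ℤ) = δ (S.w j.castSucc) - δ (S.v j.succ) :=
    fun j => Int.toNat_of_nonneg (sub_nonneg.2 (δ_mono δ hδ (S.spec_succ j)))
  have tele : δ (S.w (Fin.last k)) - δ (S.v 0) =
      (∑ j, (γ j : ℤ)) - ∑ j, (β j : ℤ) := by
    simp_rw [hγ, hβ]
    rw [Finset.sum_sub_distrib, Finset.sum_sub_distrib,
      Fin.sum_univ_castSucc (fun j => δ (S.w j)), Fin.sum_univ_succ (fun j => δ (S.v j))]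
    ring
  have hT0 : ∀ {m : ℕ} (f : Fin m → ℕ∞), Ts f 0 = ∑ j, f j := by
    intro m f
    unfold Ts
    rw [Finset.filter_true_of_mem fun j _ => Nat.zero_le _]
  have hterm : ((∑ j, γ j : ℕ) : ℕ∞) - ((∑ j, β j : ℕ) : ℕ∞) ≤ n := by
    refine le_trans ?_ hS
    rw [delta_eq]
    refine le_trans ?_ le_add_self
    refine le_trans (le_of_eq ?_) (Finset.le_sup (f := fun i : Fin (k + 1) =>
      Ts S.c i.val - Ts S.b i.val) (Finset.mem_univ 0))
    show _ = Ts S.c 0 - Ts S.b 0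
    rw [hT0, hT0, Finset.sum_congr rfl fun j _ => hc j, Finset.sum_congr rfl fun j _ => hb j,
      Nat.cast_sum, Nat.cast_sum]
  rw [← ENat.natCast_sub] at hterm
  have hnat : (∑ j, γ j) - (∑ j, β j) ≤ n := by exact_mod_cast hterm
  rw [S.last_eq] at tele
  have h1 : (∑ j, (γ j : ℤ)) = ((∑ j, γ j : ℕ) : ℤ) := (Nat.cast_sum _ _).symm
  have h2 : (∑ j, (β j : ℤ)) = ((∑ j, β j : ℕ) : ℤ) := (Nat.cast_sum _ _).symm
  rw [h1, h2] at tele
  omega

end Groth.Agent.Lib.Helper44.AlgzDim
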