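import Groth.Agent.Lib.Helper44.AlgzBasic

/-!
# The distance function and open embeddings

Codimensions of points are preserved by open embeddings, hence a system on an open subspace gives a
system of the same value on the ambient space.
-/

set_option autoImplicit false

universe u

namespace Groth.Agent.Lib.Helper44.AlgzOpen

open Algz Specialization Groth.Agent.Lib.Helper44.AlgzBasic

variable {X Y : Type u} [TopologicalSpace X] [TopologicalSpace Y] (f : X → Y)
  (hf : Topology.IsOpenEmbedding f)

include hf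

/-- the generizations of `v` and of `f v` correspond -/
noncomputable def iciIso (v : X) : Set.Ici (toEquiv v) ≃o Set.Ici (toEquiv (f v)) := by
  refine RelIso.ofSurjective ⟨⟨fun x => ⟨toEquiv (f (ofEquiv x.1)), toEquiv_le_toEquiv.mpr
    ((show ofEquiv x.1 ⤳ v from x.2).map hf.continuous)⟩, ?_⟩, ?_⟩ ?_
  · intro a b hab
    have h1 : toEquiv (f (ofEquiv a.1)) = toEquiv (f (ofEquiv b.1)) := congrArg Subtype.val hab
    have h2 : ofEquiv a.1 = ofEquiv b.1 := hf.injective (toEquiv.injective h1)
    exact Subtype.ext (ofEquiv.injective h2)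
  · intro a b
    show f (ofEquiv b.1) ⤳ f (ofEquiv a.1) ↔ ofEquiv b.1 ⤳ ofEquiv a.1
    exact hf.isInducing.specializes_iff
  · intro z
    have h1 : ofEquiv z.1 ⤳ f v := z.2
    have h2 : ofEquiv z.1 ∈ Set.range f := h1.mem_open hf.isOpen_range ⟨v, rfl⟩
    obtain ⟨x, hx⟩ := h2
    have h3 : x ⤳ v := by
      rw [← hf.isInducing.specializes_iff, hx]
      exact h1
    exact ⟨⟨toEquiv x, toEquiv_le_toEquiv.mpr h3⟩, Subtype.ext (congrArg toEquiv hx)⟩

theorem codimPt_map {w v : X} (h : w ⤳ v) :
    codimPt (f w) (f v) (h.map hf.continuous) = codimPt w v h := by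
  unfold codimPt
  exact Order.height_orderIso (iciIso f hf v) ⟨toEquiv w, toEquiv_le_toEquiv.mpr h⟩

theorem deltaZ_map_le (Z : Set Y) (y : X) : deltaZ Z (f y) ≤ deltaZ (f ⁻¹' Z) y := by
  refine le_iInf₂ fun k S' => ?_
  let S : DSystem Z (f y) k := ⟨f ∘ S'.v, f ∘ S'.w, fun i => (S'.spec i).map hf.continuous,
    fun i => (S'.spec_succ i).map hf.continuous, S'.start_mem, congrArg f S'.last_eq⟩
  have hc : ∀ j, S.c j = S'.c j := fun j => codimPt_map f hf (S'.spec j)
  have hb : ∀ j, S.b j = S'.b j := fun j => codimPt_map f hf (S'.spec_succ j)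
  have h : S.delta = S'.delta := by
    rw [delta_eq, delta_eq]
    congr 2
    funext i
    rw [Ts_congr hc, Ts_congr hb]
  exact (deltaZ_le S).trans (le_of_eq h)

end Groth.Agent.Lib.Helper44.AlgzOpen
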