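import Mathlib.RingTheory.Binomial
import Mathlib.RingTheory.Polynomial.Pochhammer
import Mathlib.Algebra.MvPolynomial.Degrees
import Mathlib.Algebra.MvPolynomial.CommRing
import Mathlib.Algebra.Polynomial.Roots

/-!
# The binomial principle

A polynomial identity in the binomial coefficients `C(c, k+1)` which holds for all natural numbers
`c` holds in every torsion-free ring for every family `b k` with `(k+1)! b k = c (c-1) ⋯ (c-k)`,
in particular for the binomial coefficients of any element of a binomial ring.
-/

set_option autoImplicit false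

namespace Groth.Agent.Lib.Helper44.BinomPrinciple

open Finset

section Key

variable {S S' : Type*} [CommRing S] [CommRing S'] (F : MvPolynomial ℕ S)

/-- the multiplier clearing the denominators -/
noncomputable def mult : ℕ := ∏ k ∈ F.vars, ((k + 1).factorial) ^ (MvPolynomial.degreeOf k F)

/-- the one-variable polynomial obtained by clearing the denominators -/
noncomputable def gpoly : Polynomial S :=
  ∑ m ∈ F.support, Polynomial.C (MvPolynomial.coeff m F) *
    ∏ k ∈ F.vars, Polynomial.C (((k + 1).factorial : ℕ) : S) ^ (MvPolynomial.degreeOf k F - m k) *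
      (descPochhammer S (k + 1)) ^ (m k)

theorem mult_ne_zero : mult F ≠ 0 := by
  unfold mult
  exact Finset.prod_ne_zero_iff.2 fun k _ => pow_ne_zero _ (Nat.factorial_ne_zero _)

theorem key_formula (ψ : S →+* S') (c' : S') (b : ℕ → S')
    (hb : ∀ k, (((k + 1).factorial : ℕ) : S') * b k = (descPochhammer S' (k + 1)).eval c') :
    Polynomial.eval₂ ψ c' (gpoly F) = ((mult F : ℕ) : S') * MvPolynomial.eval₂ ψ b F := by
  classical
  unfold gpoly
  rw [Polynomial.eval₂_finsetSum, MvPolynomial.eval₂_eq, Finset.mul_sum]
  refine Finset.sum_congr rfl fun m hm => ?_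
  rw [Polynomial.eval₂_mul, Polynomial.eval₂_C, Polynomial.eval₂_finsetProd]
  have hsub : m.support ⊆ F.vars := by
    intro k hk
    rw [MvPolynomial.mem_vars_iff_mem_support]
    exact ⟨m, hm, hk⟩
  have h1 : ∏ k ∈ m.support, b k ^ m k = ∏ k ∈ F.vars, b k ^ m k := by
    refine Finset.prod_subset hsub fun k _ hk => ?_
    rw [Finsupp.notMem_support_iff.1 hk, pow_zero]
  rw [h1]
  unfold mult
  rw [Nat.cast_prod, mul_left_comm, ← Finset.prod_mul_distrib]
  congr 1
  refine Finset.prod_congr rfl fun k _ => ?_
  rw [Polynomial.eval₂_mul, Polynomial.eval₂_pow, Polynomial.eval₂_pow, Polynomial.eval₂_C,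
    map_natCast, ← Polynomial.eval_map, descPochhammer_map, ← hb k, mul_pow, ← mul_assoc,
    ← pow_add, Nat.sub_add_cancel (MvPolynomial.monomial_le_degreeOf k hm), Nat.cast_pow]

end Key

/-- The binomial principle. -/
theorem binom_principle {S : Type*} [CommRing S] [IsDomain S] [CharZero S] (F : MvPolynomial ℕ S)
    (hF : ∀ c : ℕ, MvPolynomial.eval (fun k => ((c.choose (k + 1) : ℕ) : S)) F = 0)
    {S' : Type*} [CommRing S'] (ψ : S →+* S')
    (htf : ∀ n : ℕ, n ≠ 0 → ∀ x : S', (n : S') * x = 0 → x = 0)
    (c' : S') (b : ℕ → S')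
    (hb : ∀ k, (((k + 1).factorial : ℕ) : S') * b k = (descPochhammer S' (k + 1)).eval c') :
    MvPolynomial.eval₂ ψ b F = 0 := by
  have hG : gpoly F = 0 := by
    apply Polynomial.eq_zero_of_infinite_isRoot
    refine Set.Infinite.mono ?_ (Set.infinite_range_of_injective (Nat.cast_injective (R := S)))
    rintro _ ⟨c, rfl⟩
    show Polynomial.eval (c : S) (gpoly F) = 0
    have h1 := key_formula F (RingHom.id S) (c : S) (fun k => ((c.choose (k + 1) : ℕ) : S)) ?_
    · rw [Polynomial.eval₂_id] at h1
      rw [h1]
      have h2 : MvPolynomial.eval₂ (RingHom.id S) (fun k => ((c.choose (k + 1) : ℕ) : S)) F =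
          MvPolynomial.eval (fun k => ((c.choose (k + 1) : ℕ) : S)) F := rfl
      rw [h2, hF c, mul_zero]
    · intro k
      rw [descPochhammer_eval_eq_descFactorial, Nat.descFactorial_eq_factorial_mul_choose,
        Nat.cast_mul]
  have h1 := key_formula F ψ c' b hb
  rw [hG, Polynomial.eval₂_zero] at h1
  exact htf _ (mult_ne_zero F) _ h1.symm

/-- the hypothesis of the binomial principle holds in binomial rings -/
theorem choose_spec {K : Type*} [CommRing K] [BinomialRing K] (c : K) (k : ℕ) :
    (((k + 1).factorial : ℕ) : K) * Ring.choose c (k + 1) = (descPochhammer K (k + 1)).eval c := by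
  have h := Ring.descPochhammer_eq_factorial_smul_choose c (k + 1)
  rw [nsmul_eq_mul] at h
  rw [← h, ← Polynomial.aeval_eq_smeval, Polynomial.aeval_def, ← Polynomial.eval_map,
    descPochhammer_map]

end Groth.Agent.Lib.Helper44.BinomPrinciple
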