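import Groth.Agent.Lib.Helper44.GammaUniv
import Mathlib.Algebra.Group.ForwardDiff

/-!
# The leading term of `γ^m` on `I^m` in the test rings

In `ℤ[X_σ]` with the λ-structure in which the `1 + X_a` are line elements and `I = (X_a)`: for
`f ∈ I^m`, `m ≥ 1`: `γ^i(f) ∈ I^m` for all `i ≥ 1`, and
`γ^m(f) ≡ (-1)^{m-1} (m-1)! f` modulo `I^{m+1}`.
-/

set_option autoImplicit false

namespace Groth.Agent.Lib.Helper44.GammaLeading

open LambdaRing Finset MvPolynomial Groth.Agent.Lib.Helper44.LambdaShift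
  Groth.Agent.Lib.Helper44.GammaUniv Groth.Agent.Lib.Helper44.NewtonSeq

variable (σ : Type)

/-- the ring endomorphism `X_a ↦ (1 + X_a)^j - 1` -/
noncomputable def Ψ (j : ℕ) : MvPolynomial σ ℤ →ₐ[ℤ] MvPolynomial σ ℤ :=
  aeval fun a => (1 + X a) ^ j - 1

local notation "I" => idealOfVars σ ℤ

theorem Ψ_one_add_X (j : ℕ) (a : σ) : Ψ σ j (1 + X a) = (1 + X a) ^ j := by
  unfold Ψ
  rw [map_add, map_one, aeval_X]
  ring

theorem Ψ_lineOf (j : ℕ) (m : σ →₀ ℕ) : Ψ σ j (lineOf σ m) = lineOf σ m ^ j := by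
  have h1 : lineOf σ m = m.prod fun a k => (1 + X a : MvPolynomial σ ℤ) ^ k := by
    unfold lineOf
    show aeval (fun a => (1 + X a : MvPolynomial σ ℤ)) (monomial m (1 : ℤ)) = _
    rw [aeval_monomial, map_one, one_mul]
  rw [h1, Finsupp.prod, map_prod, ← Finset.prod_pow]
  refine Finset.prod_congr rfl fun a _ => ?_
  rw [map_pow, Ψ_one_add_X, ← pow_mul, ← pow_mul, mul_comm]

theorem alt_sum_zero (k : ℕ) (hk : 1 ≤ k) :
    ∑ j ∈ range (k + 1), ((-1 : ℤ) ^ (k - j) * (k.choose j : ℤ)) = 0 := by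
  have h := add_pow (1 : ℤ) (-1) k
  rw [add_neg_cancel, zero_pow (by omega)] at h
  rw [h]
  refine Finset.sum_congr rfl fun j _ => ?_
  rw [one_pow, one_mul]

attribute [local instance] shiftOps

/-- the γ-Adams operations in terms of the `Ψ j` -/
theorem adamsG_eq (f : MvPolynomial σ ℤ) (hf : constantCoeff f = 0) (k : ℕ) (hk : 1 ≤ k) :
    adamsG k f = ∑ j ∈ range (k + 1), ((-1 : ℤ) ^ (k - j) * (k.choose j : ℤ)) • Ψ σ j f := by
  have hline : ∀ m : σ →₀ ℕ, adamsG k (lineOf σ m - 1) =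
      ∑ j ∈ range (k + 1), ((-1 : ℤ) ^ (k - j) * (k.choose j : ℤ)) • Ψ σ j (lineOf σ m - 1) := by
    intro m
    rw [adamsG_line_sub_one (isSpecial σ).lam_one_eq_zero _ (lam_lineOf σ m) k hk]
    have h1 : ∀ j, ((-1 : ℤ) ^ (k - j) * (k.choose j : ℤ)) • Ψ σ j (lineOf σ m - 1) =
        ((-1 : ℤ) ^ (k - j) * (k.choose j : ℤ)) • lineOf σ m ^ j -
          ((-1 : ℤ) ^ (k - j) * (k.choose j : ℤ)) • (1 : MvPolynomial σ ℤ) := by
      intro j
      rw [map_sub, map_one, Ψ_lineOf, smul_sub]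
    rw [Finset.sum_congr rfl fun j _ => h1 j, Finset.sum_sub_distrib, ← Finset.sum_smul,
      alt_sum_zero k hk, zero_smul, sub_zero]
    have h2 := add_pow (lineOf σ m) (-1) k
    rw [← sub_eq_add_neg] at h2
    rw [h2]
    refine Finset.sum_congr rfl fun j _ => ?_
    rw [zsmul_eq_mul]
    push_cast
    ring
  rw [eq_sum_lineOf_sub_one σ f hf, adamsG_sum]
  simp only [map_sum, Finset.smul_sum]
  rw [Finset.sum_comm]
  refine Finset.sum_congr rfl fun m _ => ?_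
  rw [adamsG_zsmul, hline m, Finset.smul_sum]
  refine Finset.sum_congr rfl fun j _ => ?_
  rw [map_zsmul, smul_comm]

/-- `Ψ j (X a) = X a * u` with `u ≡ j` modulo `I` -/
theorem Ψ_X (j : ℕ) (a : σ) :
    Ψ σ j (X a) = X a * ∑ i ∈ range j, (1 + X a : MvPolynomial σ ℤ) ^ i := by
  unfold Ψ
  rw [aeval_X]
  have h := mul_geom_sum (1 + X a : MvPolynomial σ ℤ) j
  rw [← h]
  ring

theorem constantCoeff_geom (j : ℕ) (a : σ) :
    constantCoeff (∑ i ∈ range j, (1 + X a : MvPolynomial σ ℤ) ^ i) = (j : ℤ) := by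
  rw [map_sum]
  simp

theorem monomial_mem_pow (μ : σ →₀ ℕ) (c : ℤ) : monomial μ c ∈ I ^ μ.degree := by
  classical
  rw [mem_pow_idealOfVars_iff']
  intro x hx
  rw [coeff_monomial, if_neg]
  intro h
  rw [h] at hx
  exact lt_irrefl _ hx

/-- `Ψ j` multiplies a monomial of degree `e` by `j^e` modulo `I^{e+1}` -/
theorem Ψ_monomial (j : ℕ) (μ : σ →₀ ℕ) (c : ℤ) :
    Ψ σ j (monomial μ c) - (j : ℤ) ^ μ.degree • monomial μ c ∈ I ^ (μ.degree + 1) := by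
  classical
  obtain ⟨v, hv⟩ : ∃ v : MvPolynomial σ ℤ,
      v = μ.prod fun a k => (∑ i ∈ range j, (1 + X a : MvPolynomial σ ℤ) ^ i) ^ k := ⟨_, rfl⟩
  have h1 : Ψ σ j (monomial μ c) = monomial μ c * v := by
    rw [monomial_eq, map_mul]
    have h2 : Ψ σ j (C c) = C c := by
      unfold Ψ
      rw [aeval_C]
      rfl
    rw [h2, mul_assoc]
    congr 1
    rw [hv]
    simp only [Finsupp.prod]
    rw [map_prod, ← Finset.prod_mul_distrib]
    refine Finset.prod_congr rfl fun a _ => ?_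
    rw [map_pow, Ψ_X, mul_pow]
  have h3 : constantCoeff v = (j : ℤ) ^ μ.degree := by
    rw [hv, Finsupp.prod, map_prod]
    have h4 : ∀ a ∈ μ.support, constantCoeff
        ((∑ i ∈ range j, (1 + X a : MvPolynomial σ ℤ) ^ i) ^ μ a) = (j : ℤ) ^ μ a := by
      intro a _
      rw [map_pow, constantCoeff_geom]
    rw [Finset.prod_congr rfl h4, Finset.prod_pow_eq_pow_sum]
    rfl
  have h5 : Ψ σ j (monomial μ c) - (j : ℤ) ^ μ.degree • monomial μ c =
      monomial μ c * (v - C (constantCoeff v)) := by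
    rw [h1, h3, mul_sub, zsmul_eq_mul, mul_comm (monomial μ c) (C _)]
    simp
  rw [h5, pow_succ]
  refine Ideal.mul_mem_mul (monomial_mem_pow σ μ c) ?_
  rw [mem_idealOfVars_iff, map_sub, constantCoeff_C, sub_self]

/-- `Ψ j` multiplies `I^m` by `j^m` modulo `I^{m+1}` -/
theorem Ψ_sub_mem (j m : ℕ) (f : MvPolynomial σ ℤ) (hf : f ∈ I ^ m) :
    Ψ σ j f - (j : ℤ) ^ m • f ∈ I ^ (m + 1) := by
  classical
  rw [mem_pow_idealOfVars_iff'] at hf
  have h1 : Ψ σ j f - (j : ℤ) ^ m • f =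
      ∑ μ ∈ f.support, (Ψ σ j (monomial μ (coeff μ f)) - (j : ℤ) ^ m • monomial μ (coeff μ f)) := by
    conv_lhs => rw [f.as_sum]
    rw [map_sum, Finset.smul_sum, Finset.sum_sub_distrib]
  rw [h1]
  refine Ideal.sum_mem _ fun μ hμ => ?_
  have hdeg : m ≤ μ.degree := by
    by_contra hlt
    push Not at hlt
    exact (mem_support_iff.1 hμ) (hf μ hlt)
  rcases Nat.eq_or_lt_of_le hdeg with h2 | h2
  · rw [h2]
    exact Ψ_monomial σ j μ _
  · have h3 : I ^ (μ.degree + 1) ≤ I ^ (m + 1) := Ideal.pow_le_pow_right (by omega)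
    have h4 : I ^ μ.degree ≤ I ^ (m + 1) := Ideal.pow_le_pow_right (by omega)
    have h5 := Ψ_monomial σ j μ (coeff μ f)
    have h6 : Ψ σ j (monomial μ (coeff μ f)) - (j : ℤ) ^ m • monomial μ (coeff μ f) =
        (Ψ σ j (monomial μ (coeff μ f)) - (j : ℤ) ^ μ.degree • monomial μ (coeff μ f)) +
        ((j : ℤ) ^ μ.degree • monomial μ (coeff μ f) - (j : ℤ) ^ m • monomial μ (coeff μ f)) := by
      ring
    rw [h6]
    refine Ideal.add_mem _ (h3 h5) (Ideal.sub_mem _ ?_ ?_)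
    · exact Submodule.smul_of_tower_mem _ _ (h4 (monomial_mem_pow σ μ _))
    · exact Submodule.smul_of_tower_mem _ _ (h4 (monomial_mem_pow σ μ _))

theorem Ψ_mem (j m : ℕ) (f : MvPolynomial σ ℤ) (hf : f ∈ I ^ m) : Ψ σ j f ∈ I ^ m := by
  have h1 := Ψ_sub_mem σ j m f hf
  have h2 : I ^ (m + 1) ≤ I ^ m := Ideal.pow_le_pow_right (by omega)
  have h3 : Ψ σ j f = (Ψ σ j f - (j : ℤ) ^ m • f) + (j : ℤ) ^ m • f := by ring
  rw [h3]
  exact Ideal.add_mem _ (h2 h1) (Submodule.smul_of_tower_mem _ _ hf)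

theorem constantCoeff_of_mem {m : ℕ} (hm : 1 ≤ m) {f : MvPolynomial σ ℤ} (hf : f ∈ I ^ m) :
    constantCoeff f = 0 := by
  rw [← mem_idealOfVars_iff]
  have h2 : I ^ m ≤ I ^ 1 := Ideal.pow_le_pow_right hm
  have h3 := h2 hf
  rwa [pow_one] at h3

theorem adamsG_mem (m : ℕ) (hm : 1 ≤ m) (f : MvPolynomial σ ℤ) (hf : f ∈ I ^ m) (k : ℕ)
    (hk : 1 ≤ k) : adamsG k f ∈ I ^ m := by
  rw [adamsG_eq σ f (constantCoeff_of_mem σ hm hf) k hk]
  refine Ideal.sum_mem _ fun j _ => ?_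
  exact Submodule.smul_of_tower_mem _ _ (Ψ_mem σ j m f hf)

theorem stirling_top (m : ℕ) :
    ∑ j ∈ range (m + 1), ((-1 : ℤ) ^ (m - j) * (m.choose j : ℤ)) * (j : ℤ) ^ m =
      (m.factorial : ℤ) := by
  have h1 := fwdDiff_iter_eq_sum_shift (1 : ℤ) (fun r : ℤ => r ^ m) m 0
  have h2 := congrFun (fwdDiff_iter_eq_factorial (R := ℤ) (n := m)) 0
  rw [h2] at h1
  have h3 : ((m.factorial : ℤ → ℤ)) 0 = (m.factorial : ℤ) := rfl
  rw [h3] at h1
  rw [h1]
  refine Finset.sum_congr rfl fun j _ => ?_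
  simp

theorem adamsG_sub_mem (m : ℕ) (hm : 1 ≤ m) (f : MvPolynomial σ ℤ) (hf : f ∈ I ^ m) :
    adamsG m f - (m.factorial : ℤ) • f ∈ I ^ (m + 1) := by
  rw [adamsG_eq σ f (constantCoeff_of_mem σ hm hf) m hm, ← stirling_top m, Finset.sum_smul,
    ← Finset.sum_sub_distrib]
  refine Ideal.sum_mem _ fun j _ => ?_
  have h1 : ((-1 : ℤ) ^ (m - j) * (m.choose j : ℤ)) • Ψ σ j f -
      (((-1 : ℤ) ^ (m - j) * (m.choose j : ℤ)) * (j : ℤ) ^ m) • f =
      ((-1 : ℤ) ^ (m - j) * (m.choose j : ℤ)) • (Ψ σ j f - (j : ℤ) ^ m • f) := by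
    rw [smul_sub, smul_smul]
  rw [h1]
  exact Submodule.smul_of_tower_mem _ _ (Ψ_sub_mem σ j m f hf)

/-- `γ^i` maps `I^m` into itself (`i ≥ 1`, `m ≥ 1`) -/
theorem gamma_mem (m : ℕ) (hm : 1 ≤ m) (f : MvPolynomial σ ℤ) (hf : f ∈ I ^ m) (i : ℕ)
    (hi : 1 ≤ i) : gamma i f ∈ I ^ m := by
  obtain ⟨i', rfl⟩ : ∃ i', i = i' + 1 := ⟨i - 1, by omega⟩
  have h := rel_gamma_adamsG (i' + 1) f i' (Nat.lt_succ_self i')
  apply mem_pow_of_natCast_mul_mem σ (i' + 1) (Nat.succ_ne_zero i')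
  have h2 : ((i' + 1 : ℕ) : MvPolynomial σ ℤ) = (i' : MvPolynomial σ ℤ) + 1 := by push_cast; ring
  rw [h2, h]
  refine Ideal.add_mem _ (Ideal.sum_mem _ fun j _ => ?_) ?_
  · exact Ideal.mul_mem_right _ _ (Ideal.mul_mem_left _ _ (adamsG_mem σ m hm f hf (j + 1) (by omega)))
  · exact Ideal.mul_mem_left _ _ (adamsG_mem σ m hm f hf (i' + 1) (by omega))

/-- **The leading term of `γ^m` on `I^m`.** -/
theorem gamma_sub_mem (m : ℕ) (hm : 1 ≤ m) (f : MvPolynomial σ ℤ) (hf : f ∈ I ^ m) :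
    gamma m f - ((-1 : ℤ) ^ (m - 1) * ((m - 1).factorial : ℤ)) • f ∈ I ^ (m + 1) := by
  obtain ⟨m', rfl⟩ : ∃ m', m = m' + 1 := ⟨m - 1, by omega⟩
  have h := rel_gamma_adamsG (m' + 1) f m' (Nat.lt_succ_self m')
  apply mem_pow_of_natCast_mul_mem σ (m' + 1) (Nat.succ_ne_zero m')
  have h2 : ((m' + 1 : ℕ) : MvPolynomial σ ℤ) = (m' : MvPolynomial σ ℤ) + 1 := by push_cast; ring
  rw [mul_sub, h2, h, Nat.add_sub_cancel]
  have h3 : ((m' : MvPolynomial σ ℤ) + 1) * (((-1 : ℤ) ^ m' * (m'.factorial : ℤ)) • f) =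
      (-1) ^ m' * (((m' + 1).factorial : ℤ) • f) := by
    rw [Nat.factorial_succ]
    simp only [zsmul_eq_mul]
    push_cast
    ring
  rw [h3, add_sub_assoc, ← mul_sub]
  refine Ideal.add_mem _ (Ideal.sum_mem _ fun j hj => ?_) ?_
  · have hj' := Finset.mem_range.1 hj
    have h4 : I ^ (m' + 1 + 1) = I ^ (m' + 1) * I ^ 1 := by rw [pow_succ, pow_one]
    have h5 : I ^ (m' + 1) ≤ I ^ 1 := Ideal.pow_le_pow_right (by omega)
    rw [h4, mul_assoc]
    refine Ideal.mul_mem_left _ _ (Ideal.mul_mem_mul (adamsG_mem σ _ hm f hf (j + 1) (by omega))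
      (h5 (gamma_mem σ _ hm f hf (m' - j) (by omega))))
  · exact Ideal.mul_mem_left _ _ (adamsG_sub_mem σ _ hm f hf)

end Groth.Agent.Lib.Helper44.GammaLeading
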