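import Mathlib.RingTheory.MvPolynomial.Symmetric.FundamentalTheorem
import Mathlib.RingTheory.MvPolynomial.WeightedHomogeneous
import Mathlib.RingTheory.MvPolynomial.Homogeneous

/-!
# Symmetric polynomials: homogeneity of `esymm`, weighted components under substitution
-/

set_option autoImplicit false

namespace Groth.Agent.Lib.Helper44.SymmPoly

open MvPolynomial Finset

theorem esymm_isHomogeneous (σ R : Type*) [CommSemiring R] [Fintype σ] (n : ℕ) :
    (esymm σ R n).IsHomogeneous n := by
  unfold esymm
  refine IsHomogeneous.sum _ _ _ fun t ht => ?_
  have h := IsHomogeneous.prod t (fun i => (X i : MvPolynomial σ R)) (fun _ => 1)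
    (fun i _ => isHomogeneous_X R i)
  have hc : ∑ _i ∈ t, 1 = n := by
    rw [Finset.sum_const, smul_eq_mul, mul_one]
    exact (Finset.mem_powersetCard.1 ht).2
  rwa [hc] at h

/-- A ring homomorphism commutes with `Multiset.esymm`. -/
theorem map_multiset_esymm {R S : Type*} [CommSemiring R] [CommSemiring S] (g : R →+* S)
    (s : Multiset R) (n : ℕ) : g (s.esymm n) = (s.map g).esymm n := by
  unfold Multiset.esymm
  rw [map_multiset_sum, Multiset.powersetCard_map, Multiset.map_map, Multiset.map_map]
  refine congrArg Multiset.sum (Multiset.map_congr rfl fun t _ => ?_)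
  simp only [Function.comp_apply]
  rw [map_multiset_prod]

/-- Substituting homogeneous polynomials `g k` of degree `w k` carries the weighted homogeneous
component of weight `m` to the homogeneous component of degree `m`. -/
theorem aeval_weightedHomogeneousComponent {σ τ R : Type*} [CommRing R]
    (w : σ → ℕ) (g : σ → MvPolynomial τ R) (hg : ∀ k, (g k).IsHomogeneous (w k)) (m : ℕ)
    (p : MvPolynomial σ R) :
    aeval g (weightedHomogeneousComponent w m p) = homogeneousComponent m (aeval g p) := by
  classical
  induction p using MvPolynomial.induction_on' with
  | monomial d r =>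
    have h1 : monomial d r ∈ weightedHomogeneousSubmodule R w (Finsupp.weight w d) :=
      isWeightedHomogeneous_monomial w d r rfl
    have h2 : (aeval g (monomial d r)).IsHomogeneous (Finsupp.weight w d) := by
      rw [aeval_monomial]
      have h3 := IsHomogeneous.prod d.support (fun k => g k ^ d k) (fun k => w k * d k)
        (fun k _ => (hg k).pow (d k))
      have h4 : ∑ k ∈ d.support, w k * d k = Finsupp.weight w d := by
        rw [Finsupp.weight_apply, Finsupp.sum]
        refine Finset.sum_congr rfl fun k _ => ?_
        rw [smul_eq_mul, mul_comm]
      rw [h4] at h3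
      have h5 : (algebraMap R (MvPolynomial τ R)) r = C r := rfl
      rw [h5]
      exact IsHomogeneous.C_mul h3 r
    rw [weightedHomogeneousComponent_of_mem h1, homogeneousComponent_of_mem h2]
    split_ifs
    · rfl
    · rw [map_zero]
  | add p q hp hq =>
    rw [map_add, map_add, hp, hq, map_add, map_add]

/-- General form: substituting `v`-weighted homogeneous polynomials `g k` of weight `w k` carries the
`w`-weighted homogeneous component of weight `m` to the `v`-weighted homogeneous component. -/
theorem aeval_weightedHomogeneousComponent' {σ τ R M : Type*} [CommRing R] [AddCommMonoid M]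
    (w : σ → M) (v : τ → M) (g : σ → MvPolynomial τ R)
    (hg : ∀ k, (g k).IsWeightedHomogeneous v (w k)) (m : M) (p : MvPolynomial σ R) :
    aeval g (weightedHomogeneousComponent w m p) =
      weightedHomogeneousComponent v m (aeval g p) := by
  classical
  induction p using MvPolynomial.induction_on' with
  | monomial d r =>
    have h1 : monomial d r ∈ weightedHomogeneousSubmodule R w (Finsupp.weight w d) :=
      isWeightedHomogeneous_monomial w d r rfl
    have h2 : (aeval g (monomial d r)).IsWeightedHomogeneous v (Finsupp.weight w d) := by
      rw [aeval_monomial]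
      have h3 := IsWeightedHomogeneous.prod d.support (fun k => g k ^ d k) (fun k => d k • w k)
        (fun k _ => (hg k).pow (d k))
      have h4 : ∑ k ∈ d.support, d k • w k = Finsupp.weight w d := by
        rw [Finsupp.weight_apply, Finsupp.sum]
      rw [h4] at h3
      have h5 : (algebraMap R (MvPolynomial τ R)) r = C r := rfl
      rw [h5]
      exact IsWeightedHomogeneous.C_mul h3 r
    rw [weightedHomogeneousComponent_of_mem h1,
      weightedHomogeneousComponent_of_mem ((mem_weightedHomogeneousSubmodule R v _ _).2 h2)]
    split_ifs
    · rfl
    · rw [map_zero]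
  | add p q hp hq =>
    rw [map_add, map_add, hp, hq, map_add, map_add]

end Groth.Agent.Lib.Helper44.SymmPoly
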