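import Groth.Agent.S8684
import Groth.Agent.S8685
import Mathlib.Algebra.Order.Monoid.Prod

/-!
# Symmetric polynomials in two families of variables; stability of the universal polynomials

* `exists_mulPoly'`: the `l`-th elementary symmetric function of the `n²` products is a polynomial
  (isobaric of weight `(l, l)`) in the elementary symmetric functions of the two families.
* `aeval_Ψ_injective`: the elementary symmetric functions of two families are algebraically
  independent.
* `kill`: the specialisation killing the variables outside the range of an injection, and its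
  effect on `esymm`, `mulGen`, `compGen`.
* `mulPoly_stable`, `compPoly_stable`: the identities defining `P_l`, `Q_{i,j}` hold in any larger
  number of variables.
-/

set_option autoImplicit false

namespace Groth.Agent.Lib.Helper44.SymmTwo

open MvPolynomial Finset Groth.Agent.Lib.Helper44.SymmPoly Groth.Agent.S8684

section Exist

variable (n l : ℕ)

/-- The generating polynomial in the nested ring `ℤ[U][T]`. -/
noncomputable def F2 : MvPolynomial (Fin n) (MvPolynomial (Fin n) ℤ) :=
  ((Finset.univ : Finset (Fin n × Fin n)).val.map fun ab =>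
    (X ab.1 * C (X ab.2) : MvPolynomial (Fin n) (MvPolynomial (Fin n) ℤ))).esymm l

theorem Φ_F2 : Φ n (F2 n l) = LambdaRing.mulGen n l := by
  unfold F2 LambdaRing.mulGen
  rw [map_multiset_esymm, Multiset.map_map]
  congr 1
  refine Multiset.map_congr rfl fun ab _ => ?_
  simp only [Function.comp_apply]
  rw [map_mul, Φ_X, Φ_C, rename_X]

theorem F2_symm : (F2 n l).IsSymmetric := by
  intro e
  unfold F2
  have h1 := map_multiset_esymm
    (rename e : MvPolynomial (Fin n) (MvPolynomial (Fin n) ℤ) →ₐ[MvPolynomial (Fin n) ℤ] _).toRingHom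
    ((Finset.univ : Finset (Fin n × Fin n)).val.map fun ab =>
      (X ab.1 * C (X ab.2) : MvPolynomial (Fin n) (MvPolynomial (Fin n) ℤ))) l
  refine h1.trans ?_
  rw [Multiset.map_map]
  congr 1
  rw [← multiset_map_comp_equiv (Equiv.prodCongr e (Equiv.refl (Fin n)))
    (fun ab : Fin n × Fin n => (X ab.1 * C (X ab.2) : MvPolynomial (Fin n) (MvPolynomial (Fin n) ℤ)))]
  refine Multiset.map_congr rfl fun ab _ => ?_
  simp only [Function.comp_apply, Equiv.prodCongr_apply, Equiv.coe_refl, Prod.map_fst, Prod.map_snd, id]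
  show rename e (X ab.1 * C (X ab.2)) = _
  rw [map_mul, rename_X, rename_C]

theorem F2_coeffSymm (τ : Equiv.Perm (Fin n)) :
    MvPolynomial.map (rename τ : MvPolynomial (Fin n) ℤ →ₐ[ℤ] MvPolynomial (Fin n) ℤ).toRingHom (F2 n l) =
      F2 n l := by
  unfold F2
  rw [map_multiset_esymm, Multiset.map_map]
  congr 1
  rw [← multiset_map_comp_equiv (Equiv.prodCongr (Equiv.refl (Fin n)) τ)
    (fun ab : Fin n × Fin n => (X ab.1 * C (X ab.2) : MvPolynomial (Fin n) (MvPolynomial (Fin n) ℤ)))]
  refine Multiset.map_congr rfl fun ab _ => ?_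
  simp only [Function.comp_apply, Equiv.prodCongr_apply, Equiv.coe_refl, Prod.map_fst, Prod.map_snd, id]
  rw [map_mul, map_X, map_C]
  congr 2
  show rename τ (X ab.2) = _
  rw [rename_X]

theorem mulGen_isWH' : (LambdaRing.mulGen n l).IsWeightedHomogeneous (v n) (l, l) := by
  unfold LambdaRing.mulGen
  rw [Finset.esymm_map_val]
  refine IsWeightedHomogeneous.sum _ _ _ fun T hT => ?_
  have h := IsWeightedHomogeneous.prod T
    (fun ab : Fin n × Fin n => (X (Sum.inl ab.1) * X (Sum.inr ab.2) : MvPolynomial (Fin n ⊕ Fin n) ℤ))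
    (fun _ => ((1, 1) : ℕ × ℕ)) (w := v n) (fun ab _ => by
      have h1 := (isWeightedHomogeneous_X ℤ (v n) (Sum.inl ab.1)).mul
        (isWeightedHomogeneous_X ℤ (v n) (Sum.inr ab.2))
      exact h1)
  have hc : ∑ _a ∈ T, ((1, 1) : ℕ × ℕ) = (l, l) := by
    rw [Finset.sum_const, (Finset.mem_powersetCard.1 hT).2]
    simp
  rwa [hc] at h

/-- The `l`-th elementary symmetric function of the `n²` products `T_a U_b` is an isobaric
polynomial of weight `(l, l)` in the elementary symmetric functions of `T` and of `U`. -/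
theorem exists_mulPoly' :
    ∃ A : MvPolynomial (Fin n ⊕ Fin n) ℤ, aeval (Ψ n) A = LambdaRing.mulGen n l ∧
      A.IsWeightedHomogeneous (W n) (l, l) := by
  classical
  obtain ⟨G, hG⟩ := MvPolynomial.esymmAlgHom_surjective (MvPolynomial (Fin n) ℤ) (σ := Fin n) (n := n)
    (by simp) ⟨F2 n l, F2_symm n l⟩
  have hG' : MvPolynomial.aeval (fun k : Fin n =>
      MvPolynomial.esymm (Fin n) (MvPolynomial (Fin n) ℤ) ((k : ℕ) + 1)) G = F2 n l := by
    rw [← MvPolynomial.esymmAlgHom_apply, hG]
  have hτ : ∀ τ : Equiv.Perm (Fin n), MvPolynomial.map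
      (MvPolynomial.rename τ : MvPolynomial (Fin n) ℤ →ₐ[ℤ] MvPolynomial (Fin n) ℤ).toRingHom G = G := by
    intro τ
    apply MvPolynomial.esymmAlgHom_injective (MvPolynomial (Fin n) ℤ) (σ := Fin n) (n := n) (by simp)
    apply Subtype.ext
    rw [MvPolynomial.esymmAlgHom_apply, MvPolynomial.esymmAlgHom_apply, ← map_aeval_esymm, hG',
      F2_coeffSymm]
  have hsym : ∀ d, (MvPolynomial.coeff d G).IsSymmetric := by
    intro d τ
    have := congrArg (MvPolynomial.coeff d) (hτ τ)
    rw [MvPolynomial.coeff_map] at this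
    exact this
  have hH : ∀ d, ∃ H : MvPolynomial (Fin n) ℤ,
      MvPolynomial.aeval (fun k : Fin n => MvPolynomial.esymm (Fin n) ℤ ((k : ℕ) + 1)) H =
        MvPolynomial.coeff d G := by
    intro d
    obtain ⟨H, hH⟩ := MvPolynomial.esymmAlgHom_surjective ℤ (σ := Fin n) (n := n) (by simp)
      ⟨MvPolynomial.coeff d G, hsym d⟩
    exact ⟨H, by rw [← MvPolynomial.esymmAlgHom_apply, hH]⟩
  choose H hH using hH
  let Gt : MvPolynomial (Fin n) (MvPolynomial (Fin n) ℤ) :=
    ∑ d ∈ G.support, MvPolynomial.monomial d (H d)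
  have hGt : MvPolynomial.map (MvPolynomial.aeval (fun k : Fin n =>
      MvPolynomial.esymm (Fin n) ℤ ((k : ℕ) + 1)) :
        MvPolynomial (Fin n) ℤ →ₐ[ℤ] MvPolynomial (Fin n) ℤ).toRingHom Gt = G := by
    simp only [Gt, map_sum, MvPolynomial.map_monomial]
    conv_rhs => rw [G.as_sum]
    refine Finset.sum_congr rfl fun d _ => ?_
    congr 1
    exact hH d
  have hP0 : MvPolynomial.aeval (Ψ n) (Φ n Gt) = LambdaRing.mulGen n l := by
    rw [aeval_Ψ_Φ, hGt, hG', Φ_F2]
  refine ⟨MvPolynomial.weightedHomogeneousComponent (W n) (l, l) (Φ n Gt), ?_,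
    MvPolynomial.weightedHomogeneousComponent_isWeightedHomogeneous _ _⟩
  have h1 := aeval_weightedHomogeneousComponent' (W n) (v n) (Ψ n) (Ψ_isWH n) (l, l) (Φ n Gt)
  rw [h1, hP0]
  exact (mulGen_isWH' n l).weightedHomogeneousComponent_same

theorem Φ_sumRingEquiv (p : MvPolynomial (Fin n ⊕ Fin n) ℤ) :
    Φ n (sumRingEquiv ℤ (Fin n) (Fin n) p) = p := by
  have h : (Φ n).comp ((sumRingEquiv ℤ (Fin n) (Fin n)) : MvPolynomial (Fin n ⊕ Fin n) ℤ →+*
      MvPolynomial (Fin n) (MvPolynomial (Fin n) ℤ)) = RingHom.id _ := by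
    apply MvPolynomial.ringHom_ext
    · intro r
      show Φ n (sumRingEquiv ℤ (Fin n) (Fin n) (C r)) = C r
      rw [sumRingEquiv_C, Φ_C, rename_C]
    · intro i
      rcases i with a | b
      · show Φ n (sumRingEquiv ℤ (Fin n) (Fin n) (X (Sum.inl a))) = X (Sum.inl a)
        rw [sumRingEquiv_X_inl, Φ_X]
      · show Φ n (sumRingEquiv ℤ (Fin n) (Fin n) (X (Sum.inr b))) = X (Sum.inr b)
        rw [sumRingEquiv_X_inr, Φ_C, rename_X]
  exact RingHom.congr_fun h p

theorem Φ_injective : Function.Injective (Φ n) := by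
  intro x y hxy
  obtain ⟨p, rfl⟩ := (sumRingEquiv ℤ (Fin n) (Fin n)).surjective x
  obtain ⟨q, rfl⟩ := (sumRingEquiv ℤ (Fin n) (Fin n)).surjective y
  rw [Φ_sumRingEquiv, Φ_sumRingEquiv] at hxy
  rw [hxy]

theorem aeval_esymm_injective (R : Type*) [CommRing R] (m N : ℕ) (h : m ≤ N) :
    Function.Injective (aeval (fun k : Fin m => esymm (Fin N) R ((k : ℕ) + 1)) :
      MvPolynomial (Fin m) R →ₐ[R] MvPolynomial (Fin N) R) := by
  intro x y hxy
  apply MvPolynomial.esymmAlgHom_injective R (σ := Fin N) (n := m) (by simpa using h)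
  apply Subtype.ext
  rw [MvPolynomial.esymmAlgHom_apply, MvPolynomial.esymmAlgHom_apply]
  exact hxy

/-- The elementary symmetric functions of two families of `n` variables are algebraically
independent. -/
theorem aeval_Ψ_injective : Function.Injective
    (aeval (Ψ n) : MvPolynomial (Fin n ⊕ Fin n) ℤ →ₐ[ℤ] MvPolynomial (Fin n ⊕ Fin n) ℤ) := by
  intro P P' h
  rw [← Φ_sumRingEquiv n P, ← Φ_sumRingEquiv n P', aeval_Ψ_Φ, aeval_Ψ_Φ] at h
  have h1 := aeval_esymm_injective (MvPolynomial (Fin n) ℤ) n n le_rfl (Φ_injective n h)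
  have h2 := MvPolynomial.map_injective _ (aeval_esymm_injective ℤ n n le_rfl) h1
  exact (sumRingEquiv ℤ (Fin n) (Fin n)).injective h2

end Exist

section Kill

/-- `esymm` of the image of a finset only sees the part where the function is non-zero. -/
theorem esymm_map_val_of_subset {α β R : Type*} [CommRing R] (s : Finset β) (s' : Finset α)
    (e : α ↪ β) (hs : s'.map e ⊆ s) (F : β → R) (hF : ∀ b ∈ s, b ∉ s'.map e → F b = 0) (m : ℕ) :
    (s.val.map F).esymm m = (s'.val.map fun a => F (e a)).esymm m := by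
  classical
  rw [Finset.esymm_map_val, Finset.esymm_map_val]
  rw [← Finset.sum_subset (Finset.powersetCard_mono hs) ?_]
  · rw [Finset.powersetCard_map, Finset.sum_map]
    refine Finset.sum_congr rfl fun t _ => ?_
    show ∏ i ∈ t.map e, F i = _
    rw [Finset.prod_map]
  · intro t ht hnt
    rw [Finset.mem_powersetCard] at ht hnt
    have h1 : ¬ t ⊆ s'.map e := fun h => hnt ⟨h, ht.2⟩
    obtain ⟨i, hi, hi'⟩ := Finset.not_subset.1 h1
    exact Finset.prod_eq_zero hi (hF i (ht.1 hi) hi')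

variable {σ τ : Type*} (ι : σ → τ)

/-- The specialisation killing the variables outside the range of `ι`. -/
noncomputable def kill : MvPolynomial τ ℤ →ₐ[ℤ] MvPolynomial σ ℤ :=
  aeval (Function.extend ι X 0)

variable {ι}

theorem kill_X (hι : Function.Injective ι) (a : σ) : kill ι (X (ι a)) = X a := by
  unfold kill
  rw [aeval_X, hι.extend_apply]

theorem kill_X_of_notMem (b : τ) (hb : ¬ ∃ a, ι a = b) : kill ι (X b) = 0 := by
  unfold kill
  rw [aeval_X, Function.extend_apply' _ _ _ hb]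
  rfl

theorem kill_esymm [Fintype σ] [Fintype τ] (hι : Function.Injective ι) (m : ℕ) :
    kill ι (esymm τ ℤ m) = esymm σ ℤ m := by
  rw [esymm_eq_multiset_esymm τ ℤ, esymm_eq_multiset_esymm σ ℤ]
  have h1 := map_multiset_esymm (kill ι : MvPolynomial τ ℤ →ₐ[ℤ] MvPolynomial σ ℤ).toRingHom
    ((Finset.univ : Finset τ).val.map X) m
  refine h1.trans ?_
  rw [Multiset.map_map]
  have h2 := esymm_map_val_of_subset (Finset.univ : Finset τ) (Finset.univ : Finset σ) ⟨ι, hι⟩
    (Finset.subset_univ _)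
    (fun b => (kill ι : MvPolynomial τ ℤ →ₐ[ℤ] MvPolynomial σ ℤ) (X b))
    (fun b _ hb => kill_X_of_notMem b (by
      rintro ⟨a, rfl⟩
      exact hb (Finset.mem_map.2 ⟨a, Finset.mem_univ _, rfl⟩))) m
  refine h2.trans ?_
  congr 1
  refine Multiset.map_congr rfl fun a _ => ?_
  exact kill_X hι a

theorem kill_sumMap_rename_inl (p : MvPolynomial τ ℤ) (hι : Function.Injective ι) :
    kill (Sum.map ι ι) (rename Sum.inl p) = rename Sum.inl (kill ι p) := by
  unfold kill
  rw [aeval_rename, ← AlgHom.comp_apply, comp_aeval]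
  congr 2
  funext b
  by_cases hb : ∃ a, ι a = b
  · obtain ⟨a, rfl⟩ := hb
    have h1 : (Function.extend (Sum.map ι ι) X 0 ∘ Sum.inl) (ι a) =
        (X (Sum.inl a) : MvPolynomial (σ ⊕ σ) ℤ) := by
      show Function.extend (Sum.map ι ι) X 0 (Sum.map ι ι (Sum.inl a)) = _
      rw [(hι.sumMap hι).extend_apply]
    rw [h1, hι.extend_apply, rename_X]
  · have h1 : (Function.extend (Sum.map ι ι) X 0 ∘ Sum.inl) b =
        (0 : MvPolynomial (σ ⊕ σ) ℤ) := by
      show Function.extend (Sum.map ι ι) X 0 (Sum.inl b) = _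
      rw [Function.extend_apply']
      · rfl
      · rintro ⟨c | c, hc⟩
        · exact hb ⟨c, Sum.inl_injective hc⟩
        · exact Sum.inr_ne_inl hc
    rw [h1, Function.extend_apply' _ _ _ hb]
    simp

theorem kill_sumMap_rename_inr (p : MvPolynomial τ ℤ) (hι : Function.Injective ι) :
    kill (Sum.map ι ι) (rename Sum.inr p) = rename Sum.inr (kill ι p) := by
  unfold kill
  rw [aeval_rename, ← AlgHom.comp_apply, comp_aeval]
  congr 2
  funext b
  by_cases hb : ∃ a, ι a = b
  · obtain ⟨a, rfl⟩ := hb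
    have h1 : (Function.extend (Sum.map ι ι) X 0 ∘ Sum.inr) (ι a) =
        (X (Sum.inr a) : MvPolynomial (σ ⊕ σ) ℤ) := by
      show Function.extend (Sum.map ι ι) X 0 (Sum.map ι ι (Sum.inr a)) = _
      rw [(hι.sumMap hι).extend_apply]
    rw [h1, hι.extend_apply, rename_X]
  · have h1 : (Function.extend (Sum.map ι ι) X 0 ∘ Sum.inr) b =
        (0 : MvPolynomial (σ ⊕ σ) ℤ) := by
      show Function.extend (Sum.map ι ι) X 0 (Sum.inr b) = _
      rw [Function.extend_apply']
      · rfl
      · rintro ⟨c | c, hc⟩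
        · exact Sum.inl_ne_inr hc
        · exact hb ⟨c, Sum.inr_injective hc⟩
    rw [h1, Function.extend_apply' _ _ _ hb]
    simp

theorem kill_mulGen {l N : ℕ} (h : l ≤ N) (m : ℕ) :
    kill (Sum.map (Fin.castLE h) (Fin.castLE h)) (LambdaRing.mulGen N m) = LambdaRing.mulGen l m := by
  have hι : Function.Injective (Fin.castLE h) := Fin.castLE_injective h
  have hι2 := hι.sumMap hι
  unfold LambdaRing.mulGen
  have h1 := map_multiset_esymm (kill (Sum.map (Fin.castLE h) (Fin.castLE h)) :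
    MvPolynomial (Fin N ⊕ Fin N) ℤ →ₐ[ℤ] MvPolynomial (Fin l ⊕ Fin l) ℤ).toRingHom
    ((Finset.univ : Finset (Fin N × Fin N)).val.map
      fun ab => (X (Sum.inl ab.1) * X (Sum.inr ab.2) : MvPolynomial (Fin N ⊕ Fin N) ℤ)) m
  refine h1.trans ?_
  rw [Multiset.map_map]
  have h2 := esymm_map_val_of_subset (Finset.univ : Finset (Fin N × Fin N))
    (Finset.univ : Finset (Fin l × Fin l))
    ((⟨Fin.castLE h, hι⟩ : Fin l ↪ Fin N).prodMap ⟨Fin.castLE h, hι⟩)
    (Finset.subset_univ _)
    (fun ab => (kill (Sum.map (Fin.castLE h) (Fin.castLE h)) :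
      MvPolynomial (Fin N ⊕ Fin N) ℤ →ₐ[ℤ] MvPolynomial (Fin l ⊕ Fin l) ℤ)
      (X (Sum.inl ab.1) * X (Sum.inr ab.2)))
    (fun ab _ hab => by
      rw [map_mul]
      by_cases ha : ∃ a, Fin.castLE h a = ab.1
      · by_cases hb : ∃ b, Fin.castLE h b = ab.2
        · exfalso
          obtain ⟨a, ha⟩ := ha
          obtain ⟨b, hb⟩ := hb
          exact hab (Finset.mem_map.2 ⟨(a, b), Finset.mem_univ _, Prod.ext ha hb⟩)
        · rw [kill_X_of_notMem (Sum.inr ab.2), mul_zero]
          rintro ⟨c | c, hc⟩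
          · exact Sum.inl_ne_inr hc
          · exact hb ⟨c, Sum.inr_injective hc⟩
      · rw [kill_X_of_notMem (Sum.inl ab.1), zero_mul]
        rintro ⟨c | c, hc⟩
        · exact ha ⟨c, Sum.inl_injective hc⟩
        · exact Sum.inr_ne_inl hc) m
  refine h2.trans ?_
  congr 1
  refine Multiset.map_congr rfl fun ab _ => ?_
  rw [map_mul]
  have e1 := kill_X hι2 (Sum.inl ab.1 : Fin l ⊕ Fin l)
  have e2 := kill_X hι2 (Sum.inr ab.2 : Fin l ⊕ Fin l)
  exact congrArg₂ (· * ·) e1 e2

theorem kill_compGen {l N : ℕ} (h : l ≤ N) (i j : ℕ) :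
    kill (Fin.castLE h) (LambdaRing.compGen N i j) = LambdaRing.compGen l i j := by
  classical
  have hι : Function.Injective (Fin.castLE h) := Fin.castLE_injective h
  unfold LambdaRing.compGen
  have h1 := map_multiset_esymm (kill (Fin.castLE h) :
    MvPolynomial (Fin N) ℤ →ₐ[ℤ] MvPolynomial (Fin l) ℤ).toRingHom
    (((Finset.univ : Finset (Fin N)).powersetCard i).val.map
      fun s => (∏ a ∈ s, X a : MvPolynomial (Fin N) ℤ)) j
  refine h1.trans ?_
  rw [Multiset.map_map]
  have hsub : (((Finset.univ : Finset (Fin l)).powersetCard i).map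
      (Finset.mapEmbedding (⟨Fin.castLE h, hι⟩ : Fin l ↪ Fin N)).toEmbedding) ⊆
      (Finset.univ : Finset (Fin N)).powersetCard i := by
    intro t ht
    obtain ⟨t', ht', rfl⟩ := Finset.mem_map.1 ht
    rw [Finset.mem_powersetCard] at ht' ⊢
    refine ⟨Finset.subset_univ _, ?_⟩
    show (t'.map _).card = i
    rw [Finset.card_map, ht'.2]
  have h2 := esymm_map_val_of_subset ((Finset.univ : Finset (Fin N)).powersetCard i)
    ((Finset.univ : Finset (Fin l)).powersetCard i)
    (Finset.mapEmbedding (⟨Fin.castLE h, hι⟩ : Fin l ↪ Fin N)).toEmbedding hsub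
    (fun s => (kill (Fin.castLE h) : MvPolynomial (Fin N) ℤ →ₐ[ℤ] MvPolynomial (Fin l) ℤ)
      (∏ a ∈ s, X a))
    (fun s hs hs' => by
      rw [map_prod]
      by_contra hne
      apply hs'
      have hall : ∀ a ∈ s, ∃ c, Fin.castLE h c = a := by
        intro a ha
        by_contra hc
        exact hne (Finset.prod_eq_zero ha (kill_X_of_notMem a hc))
      refine Finset.mem_map.2 ⟨s.preimage (Fin.castLE h) hι.injOn, ?_, ?_⟩
      · rw [Finset.mem_powersetCard] at hs ⊢
        refine ⟨Finset.subset_univ _, ?_⟩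
        rw [← hs.2]
        refine Finset.card_bij (fun c _ => Fin.castLE h c) ?_ ?_ ?_
        · intro c hc
          exact Finset.mem_preimage.1 hc
        · intro c _ c' _ hcc
          exact hι hcc
        · intro a ha
          obtain ⟨c, rfl⟩ := hall a ha
          exact ⟨c, Finset.mem_preimage.2 ha, rfl⟩
      · show (s.preimage (Fin.castLE h) hι.injOn).map ⟨Fin.castLE h, hι⟩ = s
        ext a
        rw [Finset.mem_map]
        constructor
        · rintro ⟨c, hc, rfl⟩
          exact Finset.mem_preimage.1 hc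
        · intro ha
          obtain ⟨c, rfl⟩ := hall a ha
          exact ⟨c, Finset.mem_preimage.2 ha, rfl⟩) j
  refine h2.trans ?_
  congr 1
  refine Multiset.map_congr rfl fun s _ => ?_
  show (kill (Fin.castLE h) : MvPolynomial (Fin N) ℤ →ₐ[ℤ] MvPolynomial (Fin l) ℤ)
    (∏ a ∈ s.map ⟨Fin.castLE h, hι⟩, X a) = _
  rw [Finset.prod_map, map_prod]
  refine Finset.prod_congr rfl fun a _ => ?_
  exact kill_X hι a

end Kill

section Stable

/-- The substitution of `IsMulPoly l` in `N` variables per family. -/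
noncomputable def ΨN (l N : ℕ) : Fin l ⊕ Fin l → MvPolynomial (Fin N ⊕ Fin N) ℤ :=
  Sum.elim (fun k : Fin l => rename Sum.inl (esymm (Fin N) ℤ ((k : ℕ) + 1)))
    (fun k : Fin l => rename Sum.inr (esymm (Fin N) ℤ ((k : ℕ) + 1)))

theorem ΨN_self (n : ℕ) : ΨN n n = Ψ n := rfl

/-- Stability of the universal polynomial `P_l`: its defining identity holds in any number
`N ≥ l` of variables per family. -/
theorem mulPoly_stable {l N : ℕ} (h : l ≤ N) (P : MvPolynomial (Fin l ⊕ Fin l) ℤ)
    (hP : LambdaRing.IsMulPoly l P) : aeval (ΨN l N) P = LambdaRing.mulGen N l := by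
  classical
  have hι : Function.Injective (Fin.castLE h) := Fin.castLE_injective h
  have hι2 := hι.sumMap hι
  obtain ⟨A, hA1, hA2⟩ := exists_mulPoly' N l
  have hvars : (A.vars : Set (Fin N ⊕ Fin N)) ⊆
      Set.range (Sum.map (Fin.castLE h) (Fin.castLE h)) := by
    intro x hx
    rw [Finset.mem_coe, mem_vars_iff_mem_support] at hx
    obtain ⟨d, hd, hxd⟩ := hx
    have hw : Finsupp.weight (W N) d = (l, l) := hA2 (mem_support_iff.1 hd)
    have hle : W N x ≤ (l, l) := by
      rw [← hw]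
      exact Finsupp.le_weight_of_ne_zero' (W N) (Finsupp.mem_support_iff.1 hxd)
    rcases x with k | k
    · have h1 : (k : ℕ) + 1 ≤ l := (Prod.mk_le_mk.1 hle).1
      exact ⟨Sum.inl ⟨k, by omega⟩, rfl⟩
    · have h1 : (k : ℕ) + 1 ≤ l := (Prod.mk_le_mk.1 hle).2
      exact ⟨Sum.inr ⟨k, by omega⟩, rfl⟩
  obtain ⟨A₀, hA₀⟩ := exists_rename_eq_of_vars_subset_range A _ hι2 hvars
  have h1 : aeval (ΨN l N) A₀ = LambdaRing.mulGen N l := by
    rw [← hA1, ← hA₀, aeval_rename]
    congr 2
    funext x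
    rcases x with k | k <;> rfl
  have h2 : aeval (Ψ l) A₀ = LambdaRing.mulGen l l := by
    have h3 := congrArg (kill (Sum.map (Fin.castLE h) (Fin.castLE h))) h1
    rw [kill_mulGen, ← AlgHom.comp_apply, comp_aeval] at h3
    rw [← h3]
    congr 2
    funext x
    rcases x with k | k
    · show _ = kill (Sum.map (Fin.castLE h) (Fin.castLE h))
        (rename Sum.inl (esymm (Fin N) ℤ ((k : ℕ) + 1)))
      rw [kill_sumMap_rename_inl _ hι, kill_esymm hι]
      rfl
    · show _ = kill (Sum.map (Fin.castLE h) (Fin.castLE h))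
        (rename Sum.inr (esymm (Fin N) ℤ ((k : ℕ) + 1)))
      rw [kill_sumMap_rename_inr _ hι, kill_esymm hι]
      rfl
  have h4 : A₀ = P := aeval_Ψ_injective l (h2.trans hP.1.symm)
  rw [← h4, h1]

theorem exists_compPoly' (N i j : ℕ) :
    ∃ A : MvPolynomial (Fin N) ℤ,
      aeval (fun k : Fin N => esymm (Fin N) ℤ ((k : ℕ) + 1)) A = LambdaRing.compGen N i j ∧
      A.IsWeightedHomogeneous (fun k : Fin N => (k : ℕ) + 1) (i * j) := by
  obtain ⟨Q₀, hQ₀⟩ := MvPolynomial.esymmAlgHom_surjective ℤ (σ := Fin N) (n := N)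
    (by simp) ⟨LambdaRing.compGen N i j, Groth.Agent.S8685.compGen_isSymmetric _ _ _⟩
  have h0 : MvPolynomial.aeval (fun k : Fin N => MvPolynomial.esymm (Fin N) ℤ ((k : ℕ) + 1)) Q₀ =
      LambdaRing.compGen N i j := by
    rw [← MvPolynomial.esymmAlgHom_apply, hQ₀]
  refine ⟨MvPolynomial.weightedHomogeneousComponent (fun k : Fin N => (k : ℕ) + 1) (i * j) Q₀,
    ?_, MvPolynomial.weightedHomogeneousComponent_isWeightedHomogeneous _ _⟩
  rw [aeval_weightedHomogeneousComponent _ _ (fun k => esymm_isHomogeneous _ _ _), h0,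
    MvPolynomial.homogeneousComponent_of_mem (Groth.Agent.S8685.compGen_isHomogeneous _ _ _),
    if_pos rfl]

/-- Stability of the universal polynomial `Q_{i,j}`: its defining identity holds in any number
`N ≥ ij` of variables. -/
theorem compPoly_stable {i j N : ℕ} (h : i * j ≤ N) (Q : MvPolynomial (Fin (i * j)) ℤ)
    (hQ : LambdaRing.IsCompPoly i j Q) :
    aeval (fun k : Fin (i * j) => esymm (Fin N) ℤ ((k : ℕ) + 1)) Q = LambdaRing.compGen N i j := by
  classical
  have hι : Function.Injective (Fin.castLE h) := Fin.castLE_injective h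
  obtain ⟨A, hA1, hA2⟩ := exists_compPoly' N i j
  have hvars : (A.vars : Set (Fin N)) ⊆ Set.range (Fin.castLE h) := by
    intro x hx
    rw [Finset.mem_coe, mem_vars_iff_mem_support] at hx
    obtain ⟨d, hd, hxd⟩ := hx
    have hw : Finsupp.weight (fun k : Fin N => (k : ℕ) + 1) d = i * j :=
      hA2 (mem_support_iff.1 hd)
    have hle : (x : ℕ) + 1 ≤ i * j := by
      rw [← hw]
      exact Finsupp.le_weight_of_ne_zero' (fun k : Fin N => (k : ℕ) + 1)
        (Finsupp.mem_support_iff.1 hxd)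
    exact ⟨⟨x, by omega⟩, rfl⟩
  obtain ⟨A₀, hA₀⟩ := exists_rename_eq_of_vars_subset_range A _ hι hvars
  have h1 : aeval (fun k : Fin (i * j) => esymm (Fin N) ℤ ((k : ℕ) + 1)) A₀ =
      LambdaRing.compGen N i j := by
    rw [← hA1, ← hA₀, aeval_rename]
    rfl
  have h2 : aeval (fun k : Fin (i * j) => esymm (Fin (i * j)) ℤ ((k : ℕ) + 1)) A₀ =
      LambdaRing.compGen (i * j) i j := by
    have h3 := congrArg (kill (Fin.castLE h)) h1
    rw [kill_compGen, ← AlgHom.comp_apply, comp_aeval] at h3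
    rw [← h3]
    congr 2
    funext k
    exact (kill_esymm hι _).symm
  have h4 : A₀ = Q := aeval_esymm_injective ℤ (i * j) (i * j) le_rfl (h2.trans hQ.1.symm)
  rw [← h4, h1]

end Stable

end Groth.Agent.Lib.Helper44.SymmTwo
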