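import Groth.Agent.Lib.Helper44.GammaTransferM
import Groth.Agent.Lib.Helper44.GammaLeading
import Groth.Agent.Lib.Helper44.SymmTwo
import Mathlib.Algebra.MvPolynomial.Division

/-!
# Division by the top γ-class of the truncated generator

* in the test rings: `γ^k` preserves divisibility by a monomial a monomial in `I`, and dividing an element of
  `I^p` by a monomial of degree `d` lands in `I^{p-d}`;
* the transfer lemma with division: a universal polynomial whose values in the test rings are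
  `top · q` with `q ∈ I^j` takes values `γ^d(n) · h` with `h ∈ W j`.
-/

set_option autoImplicit false

universe u

namespace Groth.Agent.Lib.Helper44.GammaDiv

open LambdaRing Finset MvPolynomial Groth.Agent.Lib.Helper44.LambdaShift
  Groth.Agent.Lib.Helper44.GammaUniv Groth.Agent.Lib.Helper44.SymmPoly
  Groth.Agent.Lib.Helper44.GammaWeights Groth.Agent.Lib.Helper44.LambdaTerm
  Groth.Agent.Lib.Helper44.MultiSymm Groth.Agent.Lib.Helper44.GammaTransferM
  Groth.Agent.Lib.Helper44.GammaLeading Groth.Agent.Lib.Helper44.NewtonSeq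
  Groth.Agent.Lib.Helper44.SymmTwo

section Univ

variable (σ : Type)

local notation "I" => idealOfVars σ ℤ

theorem Ψ_monomial_eq (j : ℕ) (μ : σ →₀ ℕ) (c : ℤ) :
    Ψ σ j (monomial μ c) = monomial μ c *
      μ.prod fun a k => (∑ i ∈ range j, (1 + X a : MvPolynomial σ ℤ) ^ i) ^ k := by
  rw [monomial_eq, map_mul]
  have h2 : Ψ σ j (C c) = C c := by
    unfold Ψ
    rw [aeval_C]
    rfl
  rw [h2, mul_assoc]
  congr 1
  simp only [Finsupp.prod]
  rw [map_prod, ← Finset.prod_mul_distrib]
  refine Finset.prod_congr rfl fun a _ => ?_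
  rw [map_pow, Ψ_X, mul_pow]

variable {σ}

theorem monomial_dvd_iff_coeff (s : σ →₀ ℕ) (g : MvPolynomial σ ℤ) :
    monomial s (1 : ℤ) ∣ g ↔ ∀ μ, coeff μ g ≠ 0 → s ≤ μ := by
  rw [monomial_one_dvd_iff_modMonomial_eq_zero]
  constructor
  · intro h μ hμ
    by_contra hle
    have h1 := coeff_modMonomial_of_not_le g hle
    rw [h, coeff_zero] at h1
    exact hμ h1.symm
  · intro h
    ext μ
    rw [coeff_zero]
    by_cases hle : s ≤ μ
    · exact coeff_modMonomial_of_le g hle
    · rw [coeff_modMonomial_of_not_le g hle]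
      by_contra hne
      exact hle (h μ hne)

theorem dvd_of_natCast_mul_dvd (s : σ →₀ ℕ) (k : ℕ) (hk : k ≠ 0) (g : MvPolynomial σ ℤ)
    (h : monomial s (1 : ℤ) ∣ (k : MvPolynomial σ ℤ) * g) : monomial s (1 : ℤ) ∣ g := by
  rw [monomial_dvd_iff_coeff] at h ⊢
  intro μ hμ
  apply h μ
  have h2 : (k : MvPolynomial σ ℤ) = C (k : ℤ) := by rw [map_natCast]
  rw [h2, coeff_C_mul]
  exact mul_ne_zero (by exact_mod_cast hk) hμ

theorem Ψ_dvd (s : σ →₀ ℕ) (j : ℕ) (f : MvPolynomial σ ℤ) (h : monomial s (1 : ℤ) ∣ f) :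
    monomial s (1 : ℤ) ∣ Ψ σ j f := by
  obtain ⟨g, rfl⟩ := h
  rw [map_mul, Ψ_monomial_eq, mul_assoc]
  exact Dvd.intro _ rfl

attribute [local instance] shiftOps

theorem adamsG_dvd (s : σ →₀ ℕ) (f : MvPolynomial σ ℤ) (h : monomial s (1 : ℤ) ∣ f)
    (hf : constantCoeff f = 0) (k : ℕ) (hk : 1 ≤ k) : monomial s (1 : ℤ) ∣ adamsG k f := by
  rw [adamsG_eq σ f hf k hk]
  refine Finset.dvd_sum fun j _ => ?_
  rw [zsmul_eq_mul]
  exact Dvd.dvd.mul_left (Ψ_dvd s j f h) _

/-- `γ^k` preserves divisibility by a monomial -/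
theorem gamma_dvd (s : σ →₀ ℕ) (f : MvPolynomial σ ℤ) (h : monomial s (1 : ℤ) ∣ f)
    (hf : constantCoeff f = 0) (k : ℕ) (hk : 1 ≤ k) : monomial s (1 : ℤ) ∣ gamma k f := by
  obtain ⟨k', rfl⟩ : ∃ k', k = k' + 1 := ⟨k - 1, by omega⟩
  have hrel := rel_gamma_adamsG (k' + 1) f k' (Nat.lt_succ_self k')
  apply dvd_of_natCast_mul_dvd s (k' + 1) (Nat.succ_ne_zero k')
  have h2 : ((k' + 1 : ℕ) : MvPolynomial σ ℤ) = (k' : MvPolynomial σ ℤ) + 1 := by push_cast; ring
  rw [h2, hrel]
  refine dvd_add (Finset.dvd_sum fun j _ => ?_) ?_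
  · exact Dvd.dvd.mul_right (Dvd.dvd.mul_left (adamsG_dvd s f h hf (j + 1) (by omega)) _) _
  · exact Dvd.dvd.mul_left (adamsG_dvd s f h hf (k' + 1) (by omega)) _


/-- dividing an element of `I^p` by a monomial -/
theorem mem_pow_of_monomial_mul_mem (s : σ →₀ ℕ) (q : MvPolynomial σ ℤ) (p : ℕ)
    (h : monomial s (1 : ℤ) * q ∈ I ^ p) : q ∈ I ^ (p - s.degree) := by
  rw [mem_pow_idealOfVars_iff'] at h ⊢
  intro μ hμ
  have h1 := h (s + μ) (by rw [map_add]; omega)
  rwa [coeff_monomial_mul, one_mul] at h1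

end Univ

section Top

variable (d N : ℕ)

/-- the exponent of the monomial `∏ X (inl a)` -/
noncomputable def sTop : Sg d N →₀ ℕ := ∑ a : Fin d, Finsupp.single (Sum.inl a) 1

/-- the top γ-class of the universal truncated generator -/
noncomputable def topU : MvPolynomial (Sg d N) ℤ := monomial (sTop d N) 1

theorem topU_eq : topU d N = ∏ a : Fin d, X (Sum.inl a) := by
  unfold topU sTop
  rw [monomial_sum_one]
  rfl

theorem degree_sTop : (sTop d N).degree = d := by
  unfold sTop
  rw [map_sum]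
  simp

theorem topU_ne_zero : topU d N ≠ 0 := by
  unfold topU
  rw [Ne, monomial_eq_zero]
  exact one_ne_zero

theorem constantCoeff_topU (hd : 1 ≤ d) : constantCoeff (topU d N) = 0 := by
  rw [topU_eq, map_prod]
  exact Finset.prod_eq_zero (Finset.mem_univ (⟨0, hd⟩ : Fin d)) (constantCoeff_X ℤ _)

theorem rename_esymm_top : rename (Sum.inl : Fin d → Sg d N) (esymm (Fin d) ℤ d) = topU d N := by
  rw [topU_eq]
  unfold esymm
  have h : (Finset.univ : Finset (Fin d)).powersetCard d = {Finset.univ} := by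
    have h1 := Finset.powersetCard_self (Finset.univ : Finset (Fin d))
    rwa [Finset.card_univ, Fintype.card_fin] at h1
  rw [h, Finset.sum_singleton, map_prod]
  refine Finset.prod_congr rfl fun a _ => ?_
  rw [rename_X]

attribute [local instance] shiftOps in
theorem gamma_nu_top : gamma d (nu d N) = topU d N := by
  rw [gamma_nu, rename_esymm_top]

end Top

section Kappa

variable (d' N : ℕ)

/-- killing the last variable of the truncated family -/
noncomputable def κ : MvPolynomial (Sg (d' + 1) N) ℤ →ₐ[ℤ] MvPolynomial (Sg d' N) ℤ :=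
  aeval (Sum.elim (fun a : Fin (d' + 1) =>
      (Fin.lastCases (0 : MvPolynomial (Sg d' N) ℤ) (fun a' => X (Sum.inl a')) a))
    (fun p => X (Sum.inr p)))

theorem κ_rename_inl (p : MvPolynomial (Fin (d' + 1)) ℤ) :
    κ d' N (rename Sum.inl p) = rename Sum.inl (kill (Fin.castSucc : Fin d' → Fin (d' + 1)) p) := by
  have h : (κ d' N).comp (rename Sum.inl) =
      (rename Sum.inl).comp (kill (Fin.castSucc : Fin d' → Fin (d' + 1))) := by
    apply MvPolynomial.algHom_ext
    intro a
    show κ d' N (rename Sum.inl (X a)) = rename Sum.inl (kill Fin.castSucc (X a))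
    rw [rename_X]
    unfold κ
    rw [aeval_X, Sum.elim_inl]
    induction a using Fin.lastCases with
    | last =>
      rw [Fin.lastCases_last, kill_X_of_notMem, map_zero]
      rintro ⟨a', ha'⟩
      exact (Fin.castSucc_lt_last a').ne ha'
    | cast a' =>
      rw [Fin.lastCases_castSucc, kill_X (Fin.castSucc_injective d'), rename_X]
  exact DFunLike.congr_fun h p

theorem κ_rename_inr (g : ℕ) (p : MvPolynomial (Fin N) ℤ) :
    κ d' N (rename (fun b : Fin N => (Sum.inr (g, b) : Sg (d' + 1) N)) p) =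
      rename (fun b : Fin N => (Sum.inr (g, b) : Sg d' N)) p := by
  have h : (κ d' N).comp (rename (fun b : Fin N => (Sum.inr (g, b) : Sg (d' + 1) N))) =
      rename (fun b : Fin N => (Sum.inr (g, b) : Sg d' N)) := by
    apply MvPolynomial.algHom_ext
    intro b
    show κ d' N (rename _ (X b)) = rename _ (X b)
    rw [rename_X, rename_X]
    unfold κ
    rw [aeval_X, Sum.elim_inr]
  exact DFunLike.congr_fun h p

/-- the inclusion of the variables truncated at `d'` into those truncated at `d' + 1` -/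
def ι' : Vd d' → Vd (d' + 1) := Sum.map Fin.castSucc id

theorem ι'_injective : Function.Injective (ι' d') :=
  (Fin.castSucc_injective d').sumMap Function.injective_id

theorem κ_EN (v : Vd d') : κ d' N (EN (d' + 1) N (ι' d' v)) = EN d' N v := by
  rcases v with a | p
  · show κ d' N (rename Sum.inl (esymm (Fin (d' + 1)) ℤ ((Fin.castSucc a : ℕ) + 1))) =
      rename Sum.inl (esymm (Fin d') ℤ ((a : ℕ) + 1))
    rw [κ_rename_inl, kill_esymm (Fin.castSucc_injective d')]
    rfl
  · exact κ_rename_inr d' N p.1 _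

theorem κ_topU : κ d' N (topU (d' + 1) N) = 0 := by
  rw [← rename_esymm_top, κ_rename_inl, kill_esymm (Fin.castSucc_injective d')]
  unfold esymm
  rw [Finset.powersetCard_eq_empty.2 (by simp), Finset.sum_empty, map_zero]

end Kappa

section Transfer

variable (d' : ℕ)

attribute [local instance] shiftOps

theorem EN_last (N : ℕ) : EN (d' + 1) N (Sum.inl (Fin.last d')) = topU (d' + 1) N := by
  show rename Sum.inl (esymm (Fin (d' + 1)) ℤ ((Fin.last d' : ℕ) + 1)) = _
  rw [Fin.val_last, rename_esymm_top]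

/-- The transfer lemma with division by the top class. -/
theorem transfer_div (H : U) (j : ℕ)
    (h : ∀ N, ∃ q ∈ idealOfVars (Sg (d' + 1) N) ℤ ^ j,
      θl (nu (d' + 1) N) (xu (d' + 1) N) H = topU (d' + 1) N * q) :
    ∃ (G : U) (Θ : Ud (d' + 1)), σ G = H ∧
      πd (d' + 1) G = X (Sum.inl (Fin.last d')) * Θ ∧
      ∀ m, coeff m Θ ≠ 0 → j ≤ Finsupp.weight (wtd (d' + 1)) m := by
  classical
  obtain ⟨G, hG⟩ := σ_surjective H
  set Ĝ : Ud (d' + 1) := πd (d' + 1) G with hĜ
  set sΓ : Vd (d' + 1) →₀ ℕ := Finsupp.single (Sum.inl (Fin.last d')) 1 with hsΓ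
  have hval : ∀ N, aeval (EN (d' + 1) N) Ĝ = θl (nu (d' + 1) N) (xu (d' + 1) N) H := by
    intro N
    have e2 : θl (nu (d' + 1) N) (xu (d' + 1) N) H =
        θgd (d' + 1) (nu (d' + 1) N) (xu (d' + 1) N) Ĝ := by
      rw [← hG]
      exact θl_σ_eq (d' + 1) _ _ (gamma_nu_eq_zero (d' + 1) N) G
    rw [e2, θgd_univ]
    rfl
  have hdecomp := divMonomial_add_modMonomial Ĝ sΓ
  have hX : (monomial sΓ (1 : ℤ) : Ud (d' + 1)) = X (Sum.inl (Fin.last d')) := rfl
  -- the remainder vanishes
  have hmod : modMonomial Ĝ sΓ = 0 := by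
    have hvars : ((modMonomial Ĝ sΓ).vars : Set (Vd (d' + 1))) ⊆ Set.range (ι' d') := by
      intro v hv
      rw [Finset.mem_coe, mem_vars_iff_mem_support] at hv
      obtain ⟨μ, hμ, hvμ⟩ := hv
      have hnle : ¬ sΓ ≤ μ := by
        intro hle
        exact (mem_support_iff.1 hμ) (coeff_modMonomial_of_le Ĝ hle)
      rcases v with a | p
      · induction a using Fin.lastCases with
        | last =>
          exfalso
          apply hnle
          rw [hsΓ, Finsupp.single_le_iff]
          exact Nat.one_le_iff_ne_zero.2 (Finsupp.mem_support_iff.1 hvμ)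
        | cast a' => exact ⟨Sum.inl a', rfl⟩
      · exact ⟨Sum.inr p, rfl⟩
    obtain ⟨G'', hG''⟩ := exists_rename_eq_of_vars_subset_range _ _ (ι'_injective d') hvars
    have hz : G'' = 0 := by
      apply joint_injective d'
      intro N
      obtain ⟨q, _, hq⟩ := h N
      have h1 : aeval (EN (d' + 1) N) (modMonomial Ĝ sΓ) =
          topU (d' + 1) N * (q - aeval (EN (d' + 1) N) (divMonomial Ĝ sΓ)) := by
        have h2 := congrArg (aeval (EN (d' + 1) N)) hdecomp
        rw [map_add, map_mul, hX, aeval_X, EN_last, hval N, hq] at h2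
        rw [mul_sub, ← h2]
        ring
      have h3 := congrArg (κ d' N) h1
      rw [map_mul, κ_topU, zero_mul, ← hG'', aeval_rename, ← AlgHom.comp_apply, comp_aeval] at h3
      refine Eq.trans ?_ h3
      congr 2
      funext v
      exact (κ_EN d' N v).symm
    rw [← hG'', hz, map_zero]
  rw [hmod, add_zero, hX] at hdecomp
  refine ⟨G, divMonomial Ĝ sΓ, hG, hdecomp.symm, ?_⟩
  -- weights of the quotient
  have hcomp : ∀ w, w < j →
      weightedHomogeneousComponent (wtd (d' + 1)) w (divMonomial Ĝ sΓ) = 0 := by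
    intro w hw
    apply joint_injective
    intro N
    obtain ⟨q, hq1, hq⟩ := h N
    have e1 := aeval_weightedHomogeneousComponent (wtd (d' + 1)) (EN (d' + 1) N)
      (EN_isHomogeneous (d' + 1) N) w (divMonomial Ĝ sΓ)
    have e3 : aeval (EN (d' + 1) N) (divMonomial Ĝ sΓ) = q := by
      have h2 := congrArg (aeval (EN (d' + 1) N)) hdecomp
      rw [map_mul, aeval_X, EN_last, hval N, hq] at h2
      exact mul_left_cancel₀ (topU_ne_zero (d' + 1) N) h2
    rw [mem_pow_idealOfVars_iff'] at hq1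
    have e4 : homogeneousComponent w q = 0 := by
      ext m
      rw [coeff_homogeneousComponent, coeff_zero]
      split_ifs with hd
      · exact hq1 m (by rw [hd]; exact hw)
      · rfl
    refine e1.trans ?_
    exact (congrArg (homogeneousComponent w) e3).trans e4
  intro m hm
  by_contra hlt
  push Not at hlt
  have h1 := congrArg (coeff m) (hcomp _ hlt)
  rw [coeff_weightedHomogeneousComponent, if_pos rfl, coeff_zero] at h1
  exact hm h1

variable {K : Type u} [CommRing K] [LambdaOps K]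

/-- **The verification principle with division.** -/
theorem verify_div (H : U) (j : ℕ)
    (h : ∀ N, ∃ q ∈ idealOfVars (Sg (d' + 1) N) ℤ ^ j,
      θl (nu (d' + 1) N) (xu (d' + 1) N) H = topU (d' + 1) N * q)
    {W : ℕ → Ideal K} (hW : IsMulFil W) (n : K) (x : ℕ → K)
    (hn : ∀ k, d' + 1 < k → gamma k n = 0)
    (hnW : ∀ a, gamma a n ∈ W a) (hxW : ∀ g a, gamma a (x g) ∈ W a) :
    ∃ y ∈ W j, θl n x H = gamma (d' + 1) n * y := by
  obtain ⟨G, Θ, hG1, hG2, hG3⟩ := transfer_div d' H j h
  refine ⟨θgd (d' + 1) n x Θ, eval_mem (d' + 1) hW n x hnW hxW j Θ hG3, ?_⟩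
  rw [← hG1, θl_σ_eq (d' + 1) n x hn, hG2, map_mul]
  congr 1
  unfold θgd
  rw [aeval_X, Sum.elim_inl, Fin.val_last]

end Transfer

end Groth.Agent.Lib.Helper44.GammaDiv
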