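import Groth.Agent.Lib.Helper44.GammaFilMain

/-!
# γ-operations of elements all of whose `γ^a` (`a ≥ 1`) are divisible by a fixed element

If `γ^a(u) = Π · h a` for all `a ≥ 1`, the same holds for sums and for multiples by scalars of a
binomial ring, with explicit quotients (`addQ`, `smulQ`) whose filtration levels are controlled.
-/

set_option autoImplicit false

universe u v

namespace Groth.Agent.Lib.Helper44.GammaDivAlg

open LambdaRing Finset Groth.Agent.Lib.Helper44.GammaUniv Groth.Agent.Lib.Helper44.GammaWeights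
  Groth.Agent.Lib.Helper44.GammaScalar Groth.Agent.Lib.Helper44.LambdaShift

variable {B : Type u} [CommRing B] [LambdaOps B]

theorem gamma_add_split (m : ℕ) (hm : 1 ≤ m) (z1 z2 : B) :
    gamma m (z1 + z2) = gamma m z1 + gamma m z2 +
      ∑ i ∈ range (m - 1), gamma (i + 1) z1 * gamma (m - (i + 1)) z2 := by
  obtain ⟨m', rfl⟩ : ∃ m', m = m' + 1 := ⟨m - 1, by omega⟩
  rw [Groth.Agent.Lib.Helper17.Lam.gamma_add, Finset.sum_range_succ, Finset.sum_range_succ',
    Nat.sub_self, Nat.sub_zero, gamma_zero_left, gamma_zero_left, mul_one, one_mul,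
    Nat.add_sub_cancel]
  ring

/-- the series with coefficients `h a` (`a ≥ 1`) and zero constant term -/
noncomputable def hser (h : ℕ → B) : PowerSeries B :=
  PowerSeries.mk fun b => if b = 0 then 0 else h b

omit [LambdaOps B] in
theorem coeff_hser (h : ℕ → B) (b : ℕ) :
    PowerSeries.coeff b (hser h) = if b = 0 then 0 else h b := PowerSeries.coeff_mk _ _

theorem gser_sub_one_eq (u P : B) (h : ℕ → B) (hu : ∀ a, 1 ≤ a → gamma a u = P * h a) :
    gser u - 1 = PowerSeries.C P * hser h := by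
  ext a
  rw [map_sub, coeff_gser, PowerSeries.coeff_one, PowerSeries.coeff_C_mul, coeff_hser]
  split_ifs with h0
  · rw [h0, gamma_zero_left, sub_self, mul_zero]
  · rw [sub_zero, hu a (by omega)]

/-- the quotient for a sum -/
noncomputable def addQ (P : B) (h1 h2 : ℕ → B) (a : ℕ) : B :=
  h1 a + h2 a + P * ∑ b ∈ range (a - 1), h1 (b + 1) * h2 (a - (b + 1))

theorem gamma_add_div (u1 u2 P : B) (h1 h2 : ℕ → B)
    (hu1 : ∀ a, 1 ≤ a → gamma a u1 = P * h1 a) (hu2 : ∀ a, 1 ≤ a → gamma a u2 = P * h2 a)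
    (a : ℕ) (ha : 1 ≤ a) : gamma a (u1 + u2) = P * addQ P h1 h2 a := by
  rw [gamma_add_split a ha, hu1 a ha, hu2 a ha]
  unfold addQ
  have h3 : ∑ i ∈ range (a - 1), gamma (i + 1) u1 * gamma (a - (i + 1)) u2 =
      P * (P * ∑ b ∈ range (a - 1), h1 (b + 1) * h2 (a - (b + 1))) := by
    rw [Finset.mul_sum, Finset.mul_sum]
    refine Finset.sum_congr rfl fun b hb => ?_
    have hb' := Finset.mem_range.1 hb
    rw [hu1 (b + 1) (by omega), hu2 (a - (b + 1)) (by omega)]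
    ring
  rw [h3]
  ring

/-- the quotient for a scalar multiple -/
noncomputable def smulQ (zc : ℕ → B) (P : B) (h : ℕ → B) (a : ℕ) : B :=
  ∑ k ∈ range (a + 1), if k = 0 then 0 else
    zc (k - 1) * P ^ (k - 1) * PowerSeries.coeff a (hser h ^ k)

theorem binomSum_div (zc : ℕ → B) (u P : B) (h : ℕ → B)
    (hu : ∀ a, 1 ≤ a → gamma a u = P * h a) (a : ℕ) (ha : 1 ≤ a) :
    binomSum zc u a = P * smulQ zc P h a := by
  unfold binomSum smulQ
  rw [Finset.mul_sum]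
  refine Finset.sum_congr rfl fun k _ => ?_
  rw [gser_sub_one_eq u P h hu, mul_pow, ← map_pow, PowerSeries.coeff_C_mul]
  split_ifs with h0
  · rw [h0, pow_zero, pow_zero, PowerSeries.coeff_one, if_neg (by omega), mul_zero, mul_zero,
      mul_zero]
  · obtain ⟨k', rfl⟩ : ∃ k', k = k' + 1 := ⟨k - 1, by omega⟩
    rw [Nat.add_sub_cancel, pow_succ]
    ring

section Mem

variable {F : ℕ → Ideal B} (hF : IsMulFil F)

/-- series whose `a`-th coefficient lies in `F (a - e)` -/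
def ShiftIn (F : ℕ → Ideal B) (e : ℕ) (s : PowerSeries B) : Prop :=
  ∀ a, PowerSeries.coeff a s ∈ F (a - e)

include hF

omit [LambdaOps B] in
theorem shiftIn_one : ShiftIn F 0 1 := by
  intro a
  rw [PowerSeries.coeff_one]
  split_ifs with h
  · rw [h]
    exact hF.one_mem
  · exact zero_mem _

omit [LambdaOps B] in
theorem shiftIn_mul {e1 e2 : ℕ} {s t : PowerSeries B} (hs : ShiftIn F e1 s) (ht : ShiftIn F e2 t) :
    ShiftIn F (e1 + e2) (s * t) := by
  intro a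
  rw [PowerSeries.coeff_mul]
  refine Ideal.sum_mem _ fun p hp => ?_
  have h1 := hF.mul _ _ _ _ (hs p.1) (ht p.2)
  have h2 := Finset.mem_antidiagonal.1 hp
  exact hF.anti _ _ (by omega) h1

omit [LambdaOps B] in
theorem shiftIn_pow {e : ℕ} {s : PowerSeries B} (hs : ShiftIn F e s) (k : ℕ) :
    ShiftIn F (k * e) (s ^ k) := by
  induction k with
  | zero =>
    rw [pow_zero, Nat.zero_mul]
    exact shiftIn_one hF
  | succ k ih =>
    rw [pow_succ, Nat.succ_mul]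
    exact shiftIn_mul hF ih hs

omit [LambdaOps B] in
omit hF in
theorem shiftIn_hser (d : ℕ) (h : ℕ → B) (hh : ∀ a, 1 ≤ a → h a ∈ F (a - d)) :
    ShiftIn F d (hser h) := by
  intro a
  rw [coeff_hser]
  split_ifs with h0
  · exact zero_mem _
  · exact hh a (by omega)

omit [LambdaOps B] in
theorem smulQ_mem_shift (d : ℕ) (zc : ℕ → B) (P : B) (hP : P ∈ F d) (h : ℕ → B)
    (hh : ∀ a, 1 ≤ a → h a ∈ F (a - d)) (a : ℕ) : smulQ zc P h a ∈ F (a - d) := by
  unfold smulQ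
  refine Ideal.sum_mem _ fun k _ => ?_
  split_ifs with h0
  · exact zero_mem _
  · obtain ⟨k', rfl⟩ : ∃ k', k = k' + 1 := ⟨k - 1, by omega⟩
    rw [Nat.add_sub_cancel, mul_assoc]
    refine Ideal.mul_mem_left _ _ ?_
    have h1 := hF.pow_mem hP k'
    have h2 := shiftIn_pow hF (shiftIn_hser d h hh) (k' + 1) a
    have h3 := hF.mul _ _ _ _ h1 h2
    rw [Nat.succ_mul] at h3
    exact hF.anti _ _ (by omega) h3

omit [LambdaOps B] in
omit hF in
theorem coeff_hser_pow_mem (J : Ideal B) (h : ℕ → B) (hh : ∀ a, 1 ≤ a → h a ∈ J) (k : ℕ)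
    (hk : 1 ≤ k) (a : ℕ) : PowerSeries.coeff a (hser h ^ k) ∈ J := by
  obtain ⟨k', rfl⟩ : ∃ k', k = k' + 1 := ⟨k - 1, by omega⟩
  rw [pow_succ, PowerSeries.coeff_mul]
  refine Ideal.sum_mem _ fun p _ => Ideal.mul_mem_left _ _ ?_
  rw [coeff_hser]
  split_ifs with h0
  · exact zero_mem _
  · exact hh _ (by omega)

omit [LambdaOps B] in
omit hF in
theorem smulQ_mem_floor (J : Ideal B) (zc : ℕ → B) (P : B) (h : ℕ → B)
    (hh : ∀ a, 1 ≤ a → h a ∈ J) (a : ℕ) : smulQ zc P h a ∈ J := by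
  unfold smulQ
  refine Ideal.sum_mem _ fun k _ => ?_
  split_ifs with h0
  · exact zero_mem _
  · exact Ideal.mul_mem_left _ _ (coeff_hser_pow_mem J h hh k (by omega) a)

omit [LambdaOps B] in
omit hF in
/-- the leading part of `smulQ` -/
theorem smulQ_lead (J1 J2 J' : Ideal B) (h12 : J1 * J2 ≤ J') (zc : ℕ → B) (P : B) (hP : P ∈ J1)
    (h : ℕ → B) (hh : ∀ a, 1 ≤ a → h a ∈ J2) (a : ℕ) (ha : 1 ≤ a) :
    smulQ zc P h a - zc 0 * h a ∈ J' := by
  unfold smulQ
  have h1mem : 1 ∈ range (a + 1) := Finset.mem_range.2 (by omega)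
  rw [← Finset.add_sum_erase _ _ h1mem]
  have h3 : (if (1 : ℕ) = 0 then (0 : B) else
      zc (1 - 1) * P ^ (1 - 1) * PowerSeries.coeff a (hser h ^ 1)) = zc 0 * h a := by
    rw [if_neg one_ne_zero, Nat.sub_self, pow_zero, mul_one, pow_one, coeff_hser,
      if_neg (by omega)]
  rw [h3, add_sub_cancel_left]
  refine Ideal.sum_mem _ fun k hk => ?_
  have hk1 : k ≠ 1 := (Finset.mem_erase.1 hk).1
  split_ifs with h0
  · exact zero_mem _
  · obtain ⟨k', rfl⟩ : ∃ k', k = k' + 1 := ⟨k - 1, by omega⟩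
    obtain ⟨k'', rfl⟩ : ∃ k'', k' = k'' + 1 := ⟨k' - 1, by omega⟩
    rw [Nat.add_sub_cancel, mul_assoc]
    refine Ideal.mul_mem_left _ _ (h12 (Ideal.mul_mem_mul ?_ ?_))
    · rw [pow_succ]
      exact Ideal.mul_mem_left _ _ hP
    · exact coeff_hser_pow_mem J2 h hh _ (by omega) a

omit [LambdaOps B] in
theorem addQ_mem_shift (d : ℕ) (P : B) (hP : P ∈ F d) (h1 h2 : ℕ → B)
    (hh1 : ∀ a, 1 ≤ a → h1 a ∈ F (a - d)) (hh2 : ∀ a, 1 ≤ a → h2 a ∈ F (a - d)) (a : ℕ)
    (ha : 1 ≤ a) : addQ P h1 h2 a ∈ F (a - d) := by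
  unfold addQ
  refine add_mem (add_mem (hh1 a ha) (hh2 a ha)) ?_
  rw [Finset.mul_sum]
  refine Ideal.sum_mem _ fun b hb => ?_
  have hb' := Finset.mem_range.1 hb
  have h3 := hF.mul _ _ _ _ hP
    (hF.mul _ _ _ _ (hh1 (b + 1) (by omega)) (hh2 (a - (b + 1)) (by omega)))
  exact hF.anti _ _ (by omega) h3

omit [LambdaOps B] in
omit hF in
theorem addQ_mem_floor (J : Ideal B) (P : B) (h1 h2 : ℕ → B)
    (hh1 : ∀ a, 1 ≤ a → h1 a ∈ J) (hh2 : ∀ a, 1 ≤ a → h2 a ∈ J) (a : ℕ) (ha : 1 ≤ a) :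
    addQ P h1 h2 a ∈ J := by
  unfold addQ
  refine add_mem (add_mem (hh1 a ha) (hh2 a ha)) (Ideal.mul_mem_left _ _ ?_)
  refine Ideal.sum_mem _ fun b hb => ?_
  have hb' := Finset.mem_range.1 hb
  exact Ideal.mul_mem_left _ _ (hh2 _ (by omega))

omit [LambdaOps B] in
omit hF in
/-- the leading part of `addQ` -/
theorem addQ_lead (J1 J2 J' : Ideal B) (h12 : J1 * J2 ≤ J') (P : B) (hP : P ∈ J1) (h1 h2 : ℕ → B)
    (hh2 : ∀ a, 1 ≤ a → h2 a ∈ J2) (a : ℕ) : addQ P h1 h2 a - (h1 a + h2 a) ∈ J' := by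
  unfold addQ
  rw [add_sub_cancel_left]
  refine h12 (Ideal.mul_mem_mul hP ?_)
  refine Ideal.sum_mem _ fun b hb => ?_
  have hb' := Finset.mem_range.1 hb
  exact Ideal.mul_mem_left _ _ (hh2 _ (by omega))

end Mem

end Groth.Agent.Lib.Helper44.GammaDivAlg
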