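import Groth.Agent.Lib.Helper44.GammaScalar

/-!
# Bounding the γ-filtration of an augmented λ-algebra over a binomial ring

If `W` is a multiplicative filtration of `B` and ring generators `s` of `B` satisfy
`γ^i(s - ε(s)) ∈ W i` for all `i`, then `Fil^k B ≤ W k`.
-/

set_option autoImplicit false

universe u v

namespace Groth.Agent.Lib.Helper44.GammaFilMain

open LambdaRing Finset Groth.Agent.Lib.Helper44.GammaUniv Groth.Agent.Lib.Helper44.GammaWeights
  Groth.Agent.Lib.Helper44.GammaScalar Groth.Agent.Lib.Helper44.LambdaShift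

section MapGamma

variable {A : Type u} {B : Type v} [CommRing A] [LambdaOps A] [CommRing B] [LambdaOps B]

theorem map_gamma (f : A →+* B) (hf : ∀ (n : ℕ) (a : A), f (LambdaOps.lam n a) = LambdaOps.lam n (f a))
    (k : ℕ) (a : A) : f (gamma k a) = gamma k (f a) := by
  rcases k with _ | k
  · rw [gamma_zero_left, gamma_zero_left, map_one]
  · rw [gamma_succ_eq, gamma_succ_eq, map_sum]
    refine Finset.sum_congr rfl fun j _ => ?_
    rw [map_mul, map_natCast, hf]

end MapGamma

section GammaFil

variable {K : Type u} {A : Type v} [CommRing K] [CommRing A] [LambdaOps A] (ε : A →+* K)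

theorem gammaFil_mul {n m : ℕ} {y y' : A} (hy : y ∈ gammaFil ε n) (hy' : y' ∈ gammaFil ε m) :
    y * y' ∈ gammaFil ε (n + m) := by
  have h : gammaFil ε n * gammaFil ε m ≤ gammaFil ε (n + m) := by
    unfold gammaFil
    rw [Ideal.span_mul_span']
    apply Ideal.span_mono
    rintro _ ⟨y, ⟨l, hl, hn, rfl⟩, y', ⟨l', hl', hm, rfl⟩, rfl⟩
    refine ⟨l ++ l', ?_, ?_, ?_⟩
    · intro p hp
      rcases List.mem_append.1 hp with h | h
      · exact hl p h
      · exact hl' p h
    · rw [List.map_append, List.sum_append]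
      omega
    · rw [List.map_append, List.prod_append]
  exact h (Ideal.mul_mem_mul hy hy')

theorem isMulFil_gammaFil : IsMulFil (gammaFil ε) where
  zero := by
    rw [Ideal.eq_top_iff_one]
    exact Ideal.subset_span ⟨[], by simp, by simp, by simp⟩
  anti := fun a b hab => by
    apply Ideal.span_mono
    rintro y ⟨l, hl, hn, rfl⟩
    exact ⟨l, hl, le_trans hab hn, rfl⟩
  mul := fun a b x y hx hy => gammaFil_mul ε hx hy

theorem gamma_mem_gammaFil (z : A) (hz : ε z = 0) (i : ℕ) : gamma i z ∈ gammaFil ε i :=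
  Ideal.subset_span ⟨[(i, z)], by simpa using hz, by simp, by simp⟩

end GammaFil

section Main

variable {K : Type u} [CommRing K] [LambdaOps K] [BinomialRing K]
  {B : Type v} [CommRing B] [LambdaOps B] [Algebra K B]
  {W : ℕ → Ideal B}

/-- the elements all of whose `γ^i` lie in `W i` -/
def T (W : ℕ → Ideal B) (hW : IsMulFil W) : AddSubgroup B where
  carrier := {z | ∀ i, gamma i z ∈ W i}
  zero_mem' := fun i => by
    rcases i with _ | i
    · rw [gamma_zero_left]
      exact hW.one_mem
    · rw [gamma_zero_right _ (by omega)]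
      exact zero_mem _
  add_mem' := fun {x y} hx hy i => by
    rw [Groth.Agent.Lib.Helper17.Lam.gamma_add]
    refine Ideal.sum_mem _ fun j hj => ?_
    have hj' := Finset.mem_range.1 hj
    have h3 := hW.mul _ _ _ _ (hx j) (hy (i - j))
    rwa [show j + (i - j) = i by omega] at h3
  neg_mem' := fun {x} hx => by
    intro i
    induction i using Nat.strong_induction_on with
    | _ r ih =>
      rcases r with _ | r
      · rw [gamma_zero_left]
        exact hW.one_mem
      · have h := Groth.Agent.Lib.Helper17.Lam.gamma_add (r + 1) x (-x)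
        rw [add_neg_cancel, gamma_zero_right _ (by omega), Finset.sum_range_succ', gamma_zero_left,
          one_mul, Nat.sub_zero] at h
        have h2 : gamma (r + 1) (-x) =
            -∑ i ∈ range (r + 1), gamma (i + 1) x * gamma (r + 1 - (i + 1)) (-x) := by
          linear_combination -h
        rw [h2]
        refine neg_mem (Ideal.sum_mem _ fun i hi => ?_)
        have hi' := Finset.mem_range.1 hi
        have h3 := hW.mul _ _ _ _ (hx (i + 1)) (ih (r + 1 - (i + 1)) (by omega))
        rwa [show i + 1 + (r + 1 - (i + 1)) = r + 1 by omega] at h3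

variable (hW : IsMulFil W)

theorem mem_T (z : B) : z ∈ T W hW ↔ ∀ i, gamma i z ∈ W i := Iff.rfl

theorem T_mul (hB : IsSpecial B) {x y : B} (hx : x ∈ T W hW) (hy : y ∈ T W hW) :
    x * y ∈ T W hW := fun i => gamma_mul_mem hW hB x y hx hy i

theorem T_lam (hB : IsSpecial B) {x : B} (hx : x ∈ T W hW) (m : ℕ) (hm : 1 ≤ m) :
    LambdaOps.lam m x ∈ T W hW := fun i => gamma_lam_mem hW hB x hx m hm i

theorem T_natCast_mul {x : B} (hx : x ∈ T W hW) (c : ℕ) : (c : B) * x ∈ T W hW := by
  rw [← nsmul_eq_mul]
  exact AddSubgroup.nsmul_mem _ hx c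

theorem T_gamma (hB : IsSpecial B) {x : B} (hx : x ∈ T W hW) (j : ℕ) (hj : 1 ≤ j) :
    gamma j x ∈ T W hW := by
  obtain ⟨a, rfl⟩ : ∃ a, j = a + 1 := ⟨j - 1, by omega⟩
  rw [gamma_succ_eq]
  refine AddSubgroup.sum_mem _ fun l _ => ?_
  exact T_natCast_mul hW (T_lam hW hB hx (l + 1) (by omega)) _

/-- series whose `a`-th coefficient lies in `W a` -/
def SerIn (W : ℕ → Ideal B) (s : PowerSeries B) : Prop := ∀ a, PowerSeries.coeff a s ∈ W a

omit [LambdaOps B] in
include hW in
theorem serIn_one : SerIn W 1 := by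
  intro a
  rw [PowerSeries.coeff_one]
  split_ifs with h
  · rw [h]
    exact hW.one_mem
  · exact zero_mem _

omit [LambdaOps B] in
include hW in
theorem serIn_mul {s t : PowerSeries B} (hs : SerIn W s) (ht : SerIn W t) : SerIn W (s * t) := by
  intro a
  rw [PowerSeries.coeff_mul]
  refine Ideal.sum_mem _ fun p hp => ?_
  have h1 := hW.mul _ _ _ _ (hs p.1) (ht p.2)
  rwa [Finset.mem_antidiagonal.1 hp] at h1

omit [LambdaOps B] in
include hW in
theorem serIn_pow {s : PowerSeries B} (hs : SerIn W s) (k : ℕ) : SerIn W (s ^ k) := by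
  induction k with
  | zero =>
    rw [pow_zero]
    exact serIn_one hW
  | succ k ih =>
    rw [pow_succ]
    exact serIn_mul hW ih hs

include hW in
theorem binomSum_mem (zc : ℕ → B) {z : B} (hz : z ∈ T W hW) (n : ℕ) : binomSum zc z n ∈ W n := by
  unfold binomSum
  refine Ideal.sum_mem _ fun k _ => Ideal.mul_mem_left _ _ ?_
  refine serIn_pow hW ?_ k n
  intro a
  rw [map_sub, coeff_gser, PowerSeries.coeff_one]
  split_ifs with h
  · rw [h, gamma_zero_left, sub_self]
    exact zero_mem _
  · rw [sub_zero]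
    exact hz a

theorem T_smul (hKb : IsBinomial K) (hB : IsSpecial B) (hKB : IsLambdaAlg K B) (c : K) {z : B}
    (hz : z ∈ T W hW) : algebraMap K B c * z ∈ T W hW := by
  intro i
  rw [gamma_smul hKb hB hKB c z i]
  exact binomSum_mem hW _ hz i

variable (ε : B →ₐ[K] K)

/-- the elements `b` with `b - ε(b) ∈ T` form a subring -/
def D (hKb : IsBinomial K) (hB : IsSpecial B) (hKB : IsLambdaAlg K B) : Subring B where
  carrier := {b | b - algebraMap K B (ε b) ∈ T W hW}
  zero_mem' := by
    show (0 : B) - algebraMap K B (ε 0) ∈ T W hW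
    rw [map_zero, map_zero, sub_zero]
    exact zero_mem _
  one_mem' := by
    show (1 : B) - algebraMap K B (ε 1) ∈ T W hW
    rw [map_one, map_one, sub_self]
    exact zero_mem _
  add_mem' := fun {a b} ha hb => by
    show (a + b) - algebraMap K B (ε (a + b)) ∈ T W hW
    have h : (a + b) - algebraMap K B (ε (a + b)) =
        (a - algebraMap K B (ε a)) + (b - algebraMap K B (ε b)) := by
      rw [map_add, map_add]
      ring
    rw [h]
    exact add_mem ha hb
  neg_mem' := fun {a} ha => by
    show (-a) - algebraMap K B (ε (-a)) ∈ T W hW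
    have h : (-a) - algebraMap K B (ε (-a)) = -(a - algebraMap K B (ε a)) := by
      rw [map_neg, map_neg]
      ring
    rw [h]
    exact neg_mem ha
  mul_mem' := fun {a b} ha hb => by
    show (a * b) - algebraMap K B (ε (a * b)) ∈ T W hW
    have h : (a * b) - algebraMap K B (ε (a * b)) =
        (a - algebraMap K B (ε a)) * (b - algebraMap K B (ε b)) +
          (algebraMap K B (ε a) * (b - algebraMap K B (ε b)) +
            algebraMap K B (ε b) * (a - algebraMap K B (ε a))) := by
      rw [map_mul, map_mul]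
      ring
    rw [h]
    exact add_mem (T_mul hW hB ha hb)
      (add_mem (T_smul hW hKb hB hKB _ hb) (T_smul hW hKb hB hKB _ ha))

/-- **Main bound.** -/
theorem gammaFil_le (hKb : IsBinomial K) (hB : IsSpecial B) (hKB : IsLambdaAlg K B)
    (S : Set B) (hS : ∀ s ∈ S, s - algebraMap K B (ε s) ∈ T W hW)
    (hgen : Subring.closure S = ⊤) (k : ℕ) :
    gammaFil (ε : B →+* K) k ≤ W k := by
  have hD : D hW ε hKb hB hKB = ⊤ := by
    rw [eq_top_iff, ← hgen, Subring.closure_le]
    exact hS
  have hker : ∀ z : B, ε z = 0 → z ∈ T W hW := by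
    intro z hz
    have h1 : z ∈ D hW ε hKb hB hKB := by
      rw [hD]
      trivial
    have h2 : z - algebraMap K B (ε z) ∈ T W hW := h1
    rwa [hz, map_zero, sub_zero] at h2
  refine Ideal.span_le.2 ?_
  rintro y ⟨l, hl, hn, rfl⟩
  refine hW.anti _ _ hn ?_
  clear hn
  induction l with
  | nil =>
    simpa using hW.one_mem
  | cons p l ih =>
    simp only [List.map_cons, List.prod_cons, List.sum_cons]
    exact hW.mul _ _ _ _ (hker p.2 (hl p (by simp)) p.1) (ih (fun q hq => hl q (by simp [hq])))

end Main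

end Groth.Agent.Lib.Helper44.GammaFilMain
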