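import Groth.Agent.Lib.Helper44.GammaDiv
import Groth.Agent.S8650

/-!
# Elements of finite rank: `N` with `λ^k(N) = 0` for `k > d`

For `n = N - d`: `γ^k(n) = 0` for `k > d` and `γ^d(n) = (-1)^d λ_{-1}(N)`.
-/

set_option autoImplicit false

universe u

namespace Groth.Agent.Lib.Helper44.GammaRank

open LambdaRing Finset MvPolynomial Groth.Agent.Lib.Helper44.LambdaShift
  Groth.Agent.Lib.Helper44.GammaUniv Groth.Agent.Lib.Helper44.GammaWeights
  Groth.Agent.Lib.Helper44.LambdaTerm Groth.Agent.Lib.Helper44.GammaTransferM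
  Groth.Agent.Lib.Helper44.GammaDiv

section Rank

variable {K : Type u} [CommRing K] [LambdaOps K]

/-- `λ_{-1}(N)`, truncated at `d` -/
def lamAlt (d : ℕ) (N : K) : K := ∑ i ∈ range (d + 1), (-1 : K) ^ i * LambdaOps.lam i N

theorem gamma_sub_rank_eq_zero (h1 : ∀ k : ℕ, 2 ≤ k → LambdaOps.lam k (1 : K) = 0) (d : ℕ) (N : K)
    (hN : ∀ i : ℕ, d < i → LambdaOps.lam i N = 0) (k : ℕ) (hk : d < k) :
    gamma k (N - (d : K)) = 0 := by
  rw [Groth.Agent.S8649.result K h1 k]
  have h2 : N - (d : K) + (k : K) - 1 = N + ((k - 1 - d : ℕ) : K) := by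
    rw [Nat.cast_sub (by omega), Nat.cast_sub (by omega)]
    push_cast
    ring
  rw [h2, Groth.Agent.S8649.lam_add_nat h1 N (k - 1 - d) k]
  refine Finset.sum_eq_zero fun j hj => ?_
  have hj' := Finset.mem_range.1 hj
  by_cases hjd : d < j
  · rw [hN j hjd, mul_zero]
  · rw [Nat.choose_eq_zero_of_lt (by omega), Nat.cast_zero, zero_mul]

theorem gamma_sub_rank_top (h1 : ∀ k : ℕ, 2 ≤ k → LambdaOps.lam k (1 : K) = 0) (d : ℕ) (N : K) :
    gamma d (N - (d : K)) = (-1 : K) ^ d * lamAlt d N := by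
  rw [Groth.Agent.S8649.result K h1 d, Groth.Agent.S8650.result K h1 d (N - (d : K)),
    sub_add_cancel]
  rfl

theorem lamAlt_eq (h1 : ∀ k : ℕ, 2 ≤ k → LambdaOps.lam k (1 : K) = 0) (d : ℕ) (N : K) :
    lamAlt d N = (-1 : K) ^ d * gamma d (N - (d : K)) := by
  rw [gamma_sub_rank_top h1, ← mul_assoc, ← mul_pow]
  norm_num

end Rank

section Sgn

/-- the term `(-1)^d t` -/
def sgn (d : ℕ) (t : Tm) : Tm := if Even d then t else Tm.neg t

theorem eval_sgn {K : Type u} [CommRing K] [LambdaOps K] (n : K) (x : ℕ → K) (d : ℕ) (t : Tm) :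
    (sgn d t).eval n x = (-1 : K) ^ d * t.eval n x := by
  unfold sgn
  split_ifs with h
  · rw [h.neg_one_pow, one_mul]
  · rw [Nat.not_even_iff_odd] at h
    rw [h.neg_one_pow, neg_one_mul]
    rfl

end Sgn

section Test

variable (σ : Type)

attribute [local instance] shiftOps

/-- `λ^p` preserves divisibility by a monomial of the augmentation ideal -/
theorem lam_dvd (s : σ →₀ ℕ) (f : MvPolynomial σ ℤ) (h : monomial s (1 : ℤ) ∣ f)
    (hf : constantCoeff f = 0) (p : ℕ) (hp : 1 ≤ p) : monomial s (1 : ℤ) ∣ LambdaOps.lam p f := by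
  rw [lam_eq_gamma (isSpecial σ).lam_one_eq_zero p f, Groth.Agent.Lib.Helper17.Lam.gamma_add]
  refine Finset.dvd_sum fun i hi => ?_
  rcases Nat.eq_zero_or_pos i with h0 | h0
  · subst h0
    have h2 : gamma (p - 0) (1 - (p : MvPolynomial σ ℤ)) = 0 := by
      rw [Nat.sub_zero, Groth.Agent.S8649.result _ (isSpecial σ).lam_one_eq_zero p]
      have h3 : (1 - (p : MvPolynomial σ ℤ)) + (p : MvPolynomial σ ℤ) - 1 = 0 := by ring
      rw [h3]
      exact lam_zero_right p (by omega)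
    rw [h2, mul_zero]
    exact dvd_zero _
  · exact Dvd.dvd.mul_right (gamma_dvd s f h hf i h0) _

end Test

theorem isMulFil_top {K : Type u} [CommRing K] : IsMulFil (fun _ : ℕ => (⊤ : Ideal K)) where
  zero := rfl
  anti := fun _ _ _ => le_rfl
  mul := fun _ _ _ _ _ _ => trivial

end Groth.Agent.Lib.Helper44.GammaRank
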