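import Groth.Agent.Lib.Helper44.SymmPoly
import Mathlib.RingTheory.AlgebraicIndependent.TranscendenceBasis
import Mathlib.RingTheory.Polynomial.Vieta
import Mathlib.RingTheory.IntegralClosure.IsIntegralClosure.Basic
import Mathlib.Algebra.Polynomial.Lifts

/-!
# Algebraic independence of the elementary symmetric functions of several families

A family `E : τ → ℤ[X_τ]` (`τ` finite) over whose span all variables are integral is
algebraically independent.  Variables are integral over a subalgebra containing the elementary
symmetric functions of a family they belong to.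
-/

set_option autoImplicit false

namespace Groth.Agent.Lib.Helper44.MultiSymm

open MvPolynomial Groth.Agent.Lib.Helper44.SymmPoly

section Trdeg

variable {τ : Type} [Fintype τ]

theorem aeval_injective_of_integral (E : τ → MvPolynomial τ ℤ)
    (hint : ∀ p : τ, IsIntegral (Algebra.adjoin ℤ (Set.range E)) (X p : MvPolynomial τ ℤ)) :
    Function.Injective (aeval E : MvPolynomial τ ℤ →ₐ[ℤ] MvPolynomial τ ℤ) := by
  have hall : ∀ f : MvPolynomial τ ℤ, IsIntegral (Algebra.adjoin ℤ (Set.range E)) f := by
    intro f
    induction f using MvPolynomial.induction_on with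
    | C a =>
      have h : (C a : MvPolynomial τ ℤ) =
          algebraMap (Algebra.adjoin ℤ (Set.range E)) (MvPolynomial τ ℤ)
            (algebraMap ℤ (Algebra.adjoin ℤ (Set.range E)) a) := rfl
      rw [h]
      exact isIntegral_algebraMap
    | add p q hp hq => exact hp.add hq
    | mul_X p i hp => exact hp.mul (hint i)
  have : Algebra.IsAlgebraic (Algebra.adjoin ℤ (Set.range E)) (MvPolynomial τ ℤ) :=
    ⟨fun f => (hall f).isAlgebraic⟩
  have hle : Cardinal.mk τ ≤ Algebra.trdeg ℤ (MvPolynomial τ ℤ) := by
    rw [MvPolynomial.trdeg_of_isDomain, Cardinal.lift_id]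
  exact (Algebra.IsAlgebraic.isTranscendenceBasis_of_le_trdeg_of_finite ℤ E hle).1

end Trdeg

section Vieta

variable {τ : Type*}

theorem rename_esymm_eq (M : ℕ) (emb : Fin M → τ) (j : ℕ) :
    rename emb (esymm (Fin M) ℤ j) =
      ((Finset.univ : Finset (Fin M)).val.map fun b => (X (emb b) : MvPolynomial τ ℤ)).esymm j := by
  rw [esymm_eq_multiset_esymm]
  have h := map_multiset_esymm ((rename emb : MvPolynomial (Fin M) ℤ →ₐ[ℤ]
    MvPolynomial τ ℤ) : MvPolynomial (Fin M) ℤ →+* MvPolynomial τ ℤ)
    ((Finset.univ : Finset (Fin M)).val.map X) j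
  refine h.trans ?_
  rw [Multiset.map_map]
  congr 1
  refine Multiset.map_congr rfl fun b _ => ?_
  show rename emb (X b) = X (emb b)
  rw [rename_X]

/-- a variable of a family is integral over any subalgebra containing the elementary symmetric
functions of the family -/
theorem isIntegral_of_esymm_mem (S : Subalgebra ℤ (MvPolynomial τ ℤ)) (M : ℕ) (emb : Fin M → τ)
    (h : ∀ a : Fin M, rename emb (esymm (Fin M) ℤ ((a : ℕ) + 1)) ∈ S) (b : Fin M) :
    IsIntegral S (X (emb b) : MvPolynomial τ ℤ) := by
  classical
  let s : Multiset (MvPolynomial τ ℤ) :=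
    (Finset.univ : Finset (Fin M)).val.map fun b => (X (emb b) : MvPolynomial τ ℤ)
  have hcard : Multiset.card s = M := by
    show Multiset.card (Multiset.map _ _) = M
    rw [Multiset.card_map]
    simp
  let P : Polynomial (MvPolynomial τ ℤ) := (s.map fun r => Polynomial.X - Polynomial.C r).prod
  have hmonic : P.Monic := Polynomial.monic_multiset_prod_of_monic _ _
    fun r _ => Polynomial.monic_X_sub_C r
  have hdeg : P.natDegree = M := by
    rw [Polynomial.natDegree_multiset_prod_X_sub_C_eq_card, hcard]
  have hes : ∀ j, j ≤ M → s.esymm j ∈ S := by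
    intro j hj
    rcases Nat.eq_zero_or_pos j with h0 | h0
    · subst h0
      have h1 : s.esymm 0 = 1 := by
        simp [Multiset.esymm, Multiset.powersetCard_zero_left]
      rw [h1]
      exact S.one_mem
    · have h1 := h ⟨j - 1, by omega⟩
      rw [rename_esymm_eq] at h1
      have h2 : (j - 1 : ℕ) + 1 = j := by omega
      simp only [h2] at h1
      exact h1
  have hlift : P ∈ Polynomial.lifts (algebraMap S (MvPolynomial τ ℤ)) := by
    rw [Polynomial.lifts_iff_coeff_lifts]
    intro k
    by_cases hk : k ≤ M
    · have h1 := Multiset.prod_X_sub_C_coeff s (k := k) (by rw [hcard]; exact hk)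
      have h2 : P.coeff k ∈ S := by
        show (s.map fun r => Polynomial.X - Polynomial.C r).prod.coeff k ∈ S
        rw [h1, hcard]
        exact S.mul_mem (S.pow_mem (S.neg_mem S.one_mem) _) (hes _ (by omega))
      exact ⟨⟨_, h2⟩, rfl⟩
    · have h1 : P.coeff k = 0 := Polynomial.coeff_eq_zero_of_natDegree_lt (by omega)
      rw [h1]
      exact ⟨0, map_zero _⟩
  obtain ⟨q, hq1, _, hq3⟩ := Polynomial.lifts_and_natDegree_eq_and_monic hlift hmonic
  refine ⟨q, hq3, ?_⟩
  rw [← Polynomial.eval_map, hq1]
  show Polynomial.eval _ (s.map fun r => Polynomial.X - Polynomial.C r).prod = 0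
  rw [Polynomial.eval_multiset_prod, Multiset.map_map]
  apply Multiset.prod_eq_zero
  rw [Multiset.mem_map]
  refine ⟨X (emb b), ?_, ?_⟩
  · show X (emb b) ∈ Multiset.map _ _
    rw [Multiset.mem_map]
    exact ⟨b, Finset.mem_univ_val b, rfl⟩
  · simp

end Vieta

section Families

variable (d r N : ℕ)

/-- the variables of the square situation: a family of `d` variables and `r` families of `N` -/
abbrev Tau := Fin d ⊕ (Fin r × Fin N)

/-- the elementary symmetric functions of the families -/
noncomputable def E : Tau d r N → MvPolynomial (Tau d r N) ℤ :=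
  Sum.elim (fun a : Fin d => rename Sum.inl (esymm (Fin d) ℤ ((a : ℕ) + 1)))
    (fun p : Fin r × Fin N => rename (fun b : Fin N => (Sum.inr (p.1, b) : Tau d r N))
      (esymm (Fin N) ℤ ((p.2 : ℕ) + 1)))

/-- **Algebraic independence of the elementary symmetric functions of several families.** -/
theorem aeval_E_injective : Function.Injective
    (aeval (E d r N) : MvPolynomial (Tau d r N) ℤ →ₐ[ℤ] MvPolynomial (Tau d r N) ℤ) := by
  apply aeval_injective_of_integral
  intro p
  rcases p with a | ⟨g, b⟩
  · refine isIntegral_of_esymm_mem _ d (Sum.inl : Fin d → Tau d r N) (fun a' => ?_) a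
    exact Algebra.subset_adjoin ⟨Sum.inl a', rfl⟩
  · refine isIntegral_of_esymm_mem _ N (fun b : Fin N => (Sum.inr (g, b) : Tau d r N))
      (fun b' => ?_) b
    exact Algebra.subset_adjoin ⟨Sum.inr (g, b'), rfl⟩

end Families

end Groth.Agent.Lib.Helper44.MultiSymm
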