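import Groth.Agent.Lib.Helper44.LambdaTerm
import Groth.Agent.Lib.Helper44.MultiSymm

/-!
# The transfer lemma for several generators, one of which is truncated

Generators: `n` with `γ^k(n) = 0` for `k > d`, and `x_g` (`g : ℕ`).  A universal polynomial `H` in
the `λ`-variables whose value at the universal generators lies in the `i`-th power of the
augmentation ideal of every test ring takes values in `W i` for every multiplicative filtration
`W` with `γ^a(n), γ^a(x_g) ∈ W a`.
-/

set_option autoImplicit false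

universe u

namespace Groth.Agent.Lib.Helper44.GammaTransferM

open LambdaRing Finset MvPolynomial Groth.Agent.Lib.Helper44.LambdaShift
  Groth.Agent.Lib.Helper44.GammaUniv Groth.Agent.Lib.Helper44.SymmPoly
  Groth.Agent.Lib.Helper44.GammaWeights Groth.Agent.Lib.Helper44.LambdaTerm
  Groth.Agent.Lib.Helper44.MultiSymm

section Theta

variable {K : Type u} [CommRing K] [LambdaOps K]

/-- evaluation at the `γ^{a+1}` of the generators -/
noncomputable def θg (n : K) (x : ℕ → K) : U →ₐ[ℤ] K :=
  aeval (Sum.elim (fun a : ℕ => gamma (a + 1) n) (fun p : ℕ × ℕ => gamma (p.2 + 1) (x p.1)))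

/-- the formula for `γ^{a+1}` in the `λ`-variables of one family -/
noncomputable def sub (ι : ℕ → V) (a : ℕ) : U :=
  ∑ j ∈ range (a + 1), (Nat.choose a j : U) * X (ι j)

/-- the substitution `γ ↦ λ` -/
noncomputable def σ : U →ₐ[ℤ] U :=
  aeval (Sum.elim (sub Sum.inl) (fun p : ℕ × ℕ => sub (fun j => Sum.inr (p.1, j)) p.2))

theorem θg_eq (n : K) (x : ℕ → K) : θg n x = (θl n x).comp σ := by
  apply MvPolynomial.algHom_ext
  intro p
  rcases p with a | ⟨g, a⟩
  · show θg n x (X (Sum.inl a)) = θl n x (σ (X (Sum.inl a)))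
    unfold θg θl σ
    rw [aeval_X, aeval_X, Sum.elim_inl, Sum.elim_inl]
    unfold sub
    rw [map_sum, gamma_succ_eq]
    refine Finset.sum_congr rfl fun j _ => ?_
    rw [map_mul, map_natCast, aeval_X, Sum.elim_inl]
  · show θg n x (X (Sum.inr (g, a))) = θl n x (σ (X (Sum.inr (g, a))))
    unfold θg θl σ
    rw [aeval_X, aeval_X, Sum.elim_inr, Sum.elim_inr]
    unfold sub
    rw [map_sum, gamma_succ_eq]
    refine Finset.sum_congr rfl fun j _ => ?_
    rw [map_mul, map_natCast, aeval_X, Sum.elim_inr]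

theorem θg_apply (n : K) (x : ℕ → K) (G : U) : θg n x G = θl n x (σ G) := by
  rw [θg_eq]
  rfl

end Theta

theorem X_mem_range_σ (ι : ℕ → V) (hι : ∀ a, σ (X (ι a)) = sub ι a) (a : ℕ) :
    (X (ι a) : U) ∈ σ.range := by
  induction a using Nat.strong_induction_on with
  | _ a ih =>
    have h1 : (X (ι a) : U) = σ (X (ι a)) - ∑ j ∈ range a, (Nat.choose a j : U) * X (ι j) := by
      rw [hι a]
      unfold sub
      rw [Finset.sum_range_succ, Nat.choose_self, Nat.cast_one, one_mul]
      ring
    rw [h1]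
    refine Subalgebra.sub_mem _ ⟨_, rfl⟩ (Subalgebra.sum_mem _ fun j hj => ?_)
    exact Subalgebra.mul_mem _ (natCast_mem _ _) (ih j (Finset.mem_range.1 hj))

theorem σ_surjective : Function.Surjective σ := by
  rw [← AlgHom.range_eq_top, eq_top_iff, ← MvPolynomial.adjoin_range_X]
  refine Algebra.adjoin_le ?_
  rintro _ ⟨p, rfl⟩
  rcases p with a | ⟨g, a⟩
  · exact X_mem_range_σ Sum.inl (fun a => by unfold σ; rw [aeval_X, Sum.elim_inl]) a
  · exact X_mem_range_σ (fun j => Sum.inr (g, j))
      (fun a => by unfold σ; rw [aeval_X, Sum.elim_inr]) a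

section Trunc

variable (d : ℕ)

/-- the variables when the first generator is truncated at `d` -/
abbrev Vd := Fin d ⊕ (ℕ × ℕ)

/-- the truncated universal polynomials -/
abbrev Ud := MvPolynomial (Vd d) ℤ

/-- killing the variables `γ^{a+1}(n)`, `a ≥ d` -/
noncomputable def πd : U →ₐ[ℤ] Ud d :=
  aeval (Sum.elim (fun a : ℕ => if h : a < d then (X (Sum.inl ⟨a, h⟩) : Ud d) else 0)
    (fun p : ℕ × ℕ => X (Sum.inr p)))

/-- the weights -/
def wtd : Vd d → ℕ := Sum.elim (fun a => (a : ℕ) + 1) (fun p => p.2 + 1)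

variable {K : Type u} [CommRing K] [LambdaOps K]

/-- evaluation of the truncated polynomials at the `γ^{a+1}` of the generators -/
noncomputable def θgd (n : K) (x : ℕ → K) : Ud d →ₐ[ℤ] K :=
  aeval (Sum.elim (fun a : Fin d => gamma ((a : ℕ) + 1) n)
    (fun p : ℕ × ℕ => gamma (p.2 + 1) (x p.1)))

theorem θg_eq_trunc (n : K) (x : ℕ → K) (hn : ∀ k, d < k → gamma k n = 0) :
    θg n x = (θgd d n x).comp (πd d) := by
  apply MvPolynomial.algHom_ext
  intro p
  rcases p with a | p
  · show θg n x (X (Sum.inl a)) = θgd d n x (πd d (X (Sum.inl a)))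
    unfold θg θgd πd
    rw [aeval_X, aeval_X, Sum.elim_inl, Sum.elim_inl]
    split_ifs with h
    · rw [aeval_X, Sum.elim_inl]
    · rw [map_zero, hn _ (by omega)]
  · show θg n x (X (Sum.inr p)) = θgd d n x (πd d (X (Sum.inr p)))
    unfold θg θgd πd
    rw [aeval_X, aeval_X, Sum.elim_inr, Sum.elim_inr, aeval_X, Sum.elim_inr]

theorem θl_σ_eq (n : K) (x : ℕ → K) (hn : ∀ k, d < k → gamma k n = 0) (G : U) :
    θl n x (σ G) = θgd d n x (πd d G) := by
  rw [← θg_apply, θg_eq_trunc d n x hn]
  rfl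

theorem eval_mem {W : ℕ → Ideal K} (hW : IsMulFil W) (n : K) (x : ℕ → K)
    (hnW : ∀ a, gamma a n ∈ W a) (hxW : ∀ g a, gamma a (x g) ∈ W a) (i : ℕ) (G : Ud d)
    (hG : ∀ m, coeff m G ≠ 0 → i ≤ Finsupp.weight (wtd d) m) : θgd d n x G ∈ W i := by
  unfold θgd
  rw [aeval_def, eval₂_eq]
  refine Ideal.sum_mem _ fun m hm => ?_
  refine Ideal.mul_mem_left _ _ ?_
  have h1 : i ≤ Finsupp.weight (wtd d) m := hG m (mem_support_iff.1 hm)
  refine hW.anti _ _ h1 ?_
  have h2 : Finsupp.weight (wtd d) m = ∑ p ∈ m.support, m p * wtd d p := by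
    rw [Finsupp.weight_apply, Finsupp.sum]
    rfl
  rw [h2]
  refine hW.prod_mem _ _ _ fun p _ => ?_
  refine hW.pow_mem ?_ _
  rcases p with a | p
  · exact hnW _
  · exact hxW _ _

end Trunc

section Test

variable (d N : ℕ)

/-- the variables of the test rings -/
abbrev Sg := Fin d ⊕ (ℕ × Fin N)

/-- the universal truncated generator -/
noncomputable def nu : MvPolynomial (Sg d N) ℤ := ∑ a : Fin d, X (Sum.inl a)

/-- the universal generators -/
noncomputable def xu (g : ℕ) : MvPolynomial (Sg d N) ℤ := ∑ b : Fin N, X (Sum.inr (g, b))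

theorem constantCoeff_nu : constantCoeff (nu d N) = 0 := by
  unfold nu
  rw [map_sum]
  exact Finset.sum_eq_zero fun a _ => constantCoeff_X ℤ _

theorem constantCoeff_xu (g : ℕ) : constantCoeff (xu d N g) = 0 := by
  unfold xu
  rw [map_sum]
  exact Finset.sum_eq_zero fun a _ => constantCoeff_X ℤ _

/-- the elementary symmetric functions of the families of the test ring -/
noncomputable def EN : Vd d → MvPolynomial (Sg d N) ℤ :=
  Sum.elim (fun a : Fin d => rename Sum.inl (esymm (Fin d) ℤ ((a : ℕ) + 1)))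
    (fun p : ℕ × ℕ => rename (fun b : Fin N => (Sum.inr (p.1, b) : Sg d N))
      (esymm (Fin N) ℤ (p.2 + 1)))

theorem EN_isHomogeneous (p : Vd d) : (EN d N p).IsHomogeneous (wtd d p) := by
  rcases p with a | p
  · exact (esymm_isHomogeneous (Fin d) ℤ _).rename_isHomogeneous
  · exact (esymm_isHomogeneous (Fin N) ℤ _).rename_isHomogeneous

attribute [local instance] shiftOps

theorem gamma_sum_emb {M : ℕ} (emb : Fin M → Sg d N) (hemb : Function.Injective emb) (k : ℕ) :
    gamma k (∑ a : Fin M, (X (emb a) : MvPolynomial (Sg d N) ℤ)) =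
      rename emb (esymm (Fin M) ℤ k) := by
  classical
  have h := gamma_sum_X (Sg d N) ((Finset.univ : Finset (Fin M)).map ⟨emb, hemb⟩) k
  rw [Finset.sum_map] at h
  refine h.trans ?_
  rw [Finset.powersetCard_map, Finset.sum_map]
  unfold esymm
  rw [map_sum]
  refine Finset.sum_congr rfl fun t _ => ?_
  rw [map_prod]
  show ∏ i ∈ t.map _, _ = _
  rw [Finset.prod_map]
  refine Finset.prod_congr rfl fun a _ => ?_
  rw [rename_X]
  rfl

theorem gamma_nu (k : ℕ) : gamma k (nu d N) = rename Sum.inl (esymm (Fin d) ℤ k) :=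
  gamma_sum_emb d N (Sum.inl : Fin d → Sg d N) Sum.inl_injective k

theorem gamma_xu (g k : ℕ) : gamma k (xu d N g) =
    rename (fun b : Fin N => (Sum.inr (g, b) : Sg d N)) (esymm (Fin N) ℤ k) :=
  gamma_sum_emb d N (fun b : Fin N => (Sum.inr (g, b) : Sg d N))
    (fun b b' h => by simpa using h) k

theorem gamma_nu_eq_zero (k : ℕ) (hk : d < k) : gamma k (nu d N) = 0 := by
  rw [gamma_nu]
  unfold esymm
  rw [Finset.powersetCard_eq_empty.2 (by simpa using hk), Finset.sum_empty, map_zero]

theorem θgd_univ : θgd d (nu d N) (xu d N) = aeval (EN d N) := by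
  apply MvPolynomial.algHom_ext
  intro p
  rcases p with a | p
  · unfold θgd EN
    rw [aeval_X, aeval_X, Sum.elim_inl, Sum.elim_inl, gamma_nu]
  · unfold θgd EN
    rw [aeval_X, aeval_X, Sum.elim_inr, Sum.elim_inr, gamma_xu]

end Test

section Inj

variable (d : ℕ)

theorem joint_injective (f : Ud d) (h : ∀ N, aeval (EN d N) f = 0) : f = 0 := by
  classical
  let r : ℕ := f.vars.sup (Sum.elim (fun _ => 0) (fun p => p.1)) + 1
  let N : ℕ := f.vars.sup (Sum.elim (fun _ => 0) (fun p => p.2)) + 1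
  let ι : Tau d r N → Vd d := Sum.map id (Prod.map Fin.val Fin.val)
  have hι : Function.Injective ι :=
    Function.injective_id.sumMap (Fin.val_injective.prodMap Fin.val_injective)
  have hvars : (f.vars : Set (Vd d)) ⊆ Set.range ι := by
    intro p hp
    have h1 : Sum.elim (fun _ => 0) (fun p : ℕ × ℕ => p.1) p ≤
        f.vars.sup (Sum.elim (fun _ => 0) (fun p => p.1)) := Finset.le_sup hp
    have h2 : Sum.elim (fun _ => 0) (fun p : ℕ × ℕ => p.2) p ≤
        f.vars.sup (Sum.elim (fun _ => 0) (fun p => p.2)) := Finset.le_sup hp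
    rcases p with a | ⟨g, b⟩
    · exact ⟨Sum.inl a, rfl⟩
    · exact ⟨Sum.inr (⟨g, Nat.lt_succ_of_le h1⟩, ⟨b, Nat.lt_succ_of_le h2⟩), rfl⟩
  obtain ⟨q, hq⟩ := exists_rename_eq_of_vars_subset_range f _ hι hvars
  have h1 := h N
  rw [← hq, aeval_rename] at h1
  let j : Tau d r N → Sg d N := Sum.map id (Prod.map Fin.val id)
  have hj : Function.Injective j :=
    Function.injective_id.sumMap (Fin.val_injective.prodMap Function.injective_id)
  have h2 : EN d N ∘ ι = fun p => rename j (E d r N p) := by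
    funext p
    rcases p with a | ⟨g, b⟩
    · show rename Sum.inl (esymm (Fin d) ℤ ((a : ℕ) + 1)) =
        rename j (rename Sum.inl (esymm (Fin d) ℤ ((a : ℕ) + 1)))
      rw [rename_rename]
      rfl
    · show rename (fun b' : Fin N => (Sum.inr ((g : ℕ), b') : Sg d N))
          (esymm (Fin N) ℤ ((b : ℕ) + 1)) =
        rename j (rename (fun b' : Fin N => (Sum.inr (g, b') : Tau d r N))
          (esymm (Fin N) ℤ ((b : ℕ) + 1)))
      rw [rename_rename]
      rfl
  rw [h2] at h1
  have h3 : aeval (fun p => rename j (E d r N p)) q = rename j (aeval (E d r N) q) := by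
    rw [← AlgHom.comp_apply, comp_aeval]
  rw [h3] at h1
  have h4 : aeval (E d r N) q = 0 := rename_injective j hj (h1.trans (map_zero _).symm)
  have h5 : q = 0 := aeval_E_injective d r N (h4.trans (map_zero _).symm)
  rw [← hq, h5, map_zero]

attribute [local instance] shiftOps

/-- The transfer lemma: a preimage under `σ` whose truncation has all monomials of weight `≥ i`. -/
theorem transfer (H : U) (i : ℕ)
    (h : ∀ N, θl (nu d N) (xu d N) H ∈ idealOfVars (Sg d N) ℤ ^ i) :
    ∃ G : U, σ G = H ∧ ∀ m, coeff m (πd d G) ≠ 0 → i ≤ Finsupp.weight (wtd d) m := by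
  classical
  obtain ⟨G, hG⟩ := σ_surjective H
  refine ⟨G, hG, ?_⟩
  have hcomp : ∀ w, w < i → weightedHomogeneousComponent (wtd d) w (πd d G) = 0 := by
    intro w hw
    apply joint_injective
    intro N
    have e1 := aeval_weightedHomogeneousComponent (wtd d) (EN d N) (EN_isHomogeneous d N) w
      (πd d G)
    have e2 : θl (nu d N) (xu d N) H = θgd d (nu d N) (xu d N) (πd d G) := by
      rw [← hG]
      exact θl_σ_eq d _ _ (gamma_nu_eq_zero d N) G
    have e3 : aeval (EN d N) (πd d G) = θl (nu d N) (xu d N) H := by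
      rw [e2, θgd_univ]
      rfl
    have h1 := h N
    rw [mem_pow_idealOfVars_iff'] at h1
    have e4 : homogeneousComponent w (θl (nu d N) (xu d N) H) = 0 := by
      ext m
      rw [coeff_homogeneousComponent, coeff_zero]
      split_ifs with hd
      · exact h1 m (by rw [hd]; exact hw)
      · rfl
    refine e1.trans ?_
    exact (congrArg (homogeneousComponent w) e3).trans e4
  intro m hm
  by_contra hlt
  push Not at hlt
  have h1 := congrArg (coeff m) (hcomp _ hlt)
  rw [coeff_weightedHomogeneousComponent, if_pos rfl, coeff_zero] at h1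
  exact hm h1

variable {K : Type u} [CommRing K] [LambdaOps K]

/-- **The verification principle.** -/
theorem verify (H : U) (i : ℕ)
    (h : ∀ N, θl (nu d N) (xu d N) H ∈ idealOfVars (Sg d N) ℤ ^ i)
    {W : ℕ → Ideal K} (hW : IsMulFil W) (n : K) (x : ℕ → K)
    (hn : ∀ k, d < k → gamma k n = 0)
    (hnW : ∀ a, gamma a n ∈ W a) (hxW : ∀ g a, gamma a (x g) ∈ W a) :
    θl n x H ∈ W i := by
  obtain ⟨G, hG1, hG2⟩ := transfer d H i h
  rw [← hG1, θl_σ_eq d n x hn]
  exact eval_mem d hW n x hnW hxW i _ hG2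

end Inj

end Groth.Agent.Lib.Helper44.GammaTransferM
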