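import Groth.Agent.Lib.Helper44.GammaDivAlg
import Groth.Agent.Lib.Helper44.GammaRank
import Groth.Agent.S8690

/-!
# Division of `γ^a(z · λ_{-1}(N))` by `λ_{-1}(N)` and the γ-filtration

For `n` with `ε n = 0`, `γ^k(n) = 0` for `k > d` and `Π = γ^d(n)` a non-zero-divisor, every
`z ∈ Fil^i` satisfies `γ^a(z · (-1)^d Π) = Π · h a` with `h a ∈ Fil^{a-d} ∩ Fil^i` and
`h (i+d) ≡ (-1)^{i+d-1}(i+d-1)! (-1)^d z` modulo `Fil^{i+1}`.
-/

set_option autoImplicit false

universe u v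

namespace Groth.Agent.Lib.Helper44.GammaRankDiv

open LambdaRing Finset MvPolynomial Groth.Agent.Lib.Helper44.LambdaShift
  Groth.Agent.Lib.Helper44.GammaUniv Groth.Agent.Lib.Helper44.GammaWeights
  Groth.Agent.Lib.Helper44.LambdaTerm Groth.Agent.Lib.Helper44.GammaTransferM
  Groth.Agent.Lib.Helper44.GammaDiv Groth.Agent.Lib.Helper44.GammaRank
  Groth.Agent.Lib.Helper44.GammaFilMain Groth.Agent.Lib.Helper44.GammaScalar
  Groth.Agent.Lib.Helper44.GammaDivAlg

/-- the term `t · (-1)^d γ^d(n)` -/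
def tmul (d : ℕ) (t : Tm) : Tm := Tm.mul t (sgn d (Tm.gam d Tm.varN))

theorem eval_tmul {B : Type u} [CommRing B] [LambdaOps B] (n : B) (x : ℕ → B) (d : ℕ) (t : Tm) :
    (tmul d t).eval n x = t.eval n x * ((-1 : B) ^ d * gamma d n) := by
  show t.eval n x * (sgn d (Tm.gam d Tm.varN)).eval n x = _
  rw [eval_sgn, eval_gam]
  rfl

section Univ

attribute [local instance] shiftOps

variable (d' M : ℕ)

theorem topU_mem : topU (d' + 1) M ∈ idealOfVars (Sg (d' + 1) M) ℤ ^ (d' + 1) := by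
  have h := Groth.Agent.Lib.Helper44.GammaLeading.monomial_mem_pow (Sg (d' + 1) M)
    (sTop (d' + 1) M) 1
  rwa [degree_sTop] at h

theorem univ_f_mem (g c : MvPolynomial (Sg (d' + 1) M) ℤ) (i : ℕ)
    (hg : g ∈ idealOfVars (Sg (d' + 1) M) ℤ ^ i) :
    g * (c * topU (d' + 1) M) ∈ idealOfVars (Sg (d' + 1) M) ℤ ^ (i + (d' + 1)) := by
  rw [pow_add]
  exact Ideal.mul_mem_mul hg (Ideal.mul_mem_left _ _ (topU_mem d' M))

theorem univ_f_const (g c : MvPolynomial (Sg (d' + 1) M) ℤ) :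
    constantCoeff (g * (c * topU (d' + 1) M)) = 0 := by
  rw [map_mul, map_mul, constantCoeff_topU (d' + 1) M (by omega), mul_zero, mul_zero]

theorem univ_f_dvd (g c : MvPolynomial (Sg (d' + 1) M) ℤ) :
    monomial (sTop (d' + 1) M) (1 : ℤ) ∣ g * (c * topU (d' + 1) M) :=
  Dvd.dvd.mul_left (Dvd.dvd.mul_left (dvd_refl _) _) _

theorem univ_div (g c : MvPolynomial (Sg (d' + 1) M) ℤ) (i : ℕ)
    (hg : g ∈ idealOfVars (Sg (d' + 1) M) ℤ ^ i) (l : ℕ) (hl : 1 ≤ l) :
    ∃ q ∈ idealOfVars (Sg (d' + 1) M) ℤ ^ (max (l - (d' + 1)) i),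
      gamma l (g * (c * topU (d' + 1) M)) = topU (d' + 1) M * q := by
  obtain ⟨q, hq⟩ := gamma_dvd (sTop (d' + 1) M) _ (univ_f_dvd d' M g c) (univ_f_const d' M g c)
    l hl
  refine ⟨q, ?_, hq⟩
  have h1 : q ∈ idealOfVars (Sg (d' + 1) M) ℤ ^ (l - (d' + 1)) := by
    have h2 := gamma_mem_pow (Sg (d' + 1) M) _ (univ_f_const d' M g c) l
    rw [hq] at h2
    have h3 := mem_pow_of_monomial_mul_mem (sTop (d' + 1) M) q l h2
    rwa [degree_sTop] at h3
  have h2 : q ∈ idealOfVars (Sg (d' + 1) M) ℤ ^ i := by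
    have h3 := Groth.Agent.Lib.Helper44.GammaLeading.gamma_mem (Sg (d' + 1) M) (i + (d' + 1))
      (by omega) _ (univ_f_mem d' M g c i hg) l hl
    rw [hq] at h3
    have h4 := mem_pow_of_monomial_mul_mem (sTop (d' + 1) M) q _ h3
    rwa [degree_sTop, Nat.add_sub_cancel] at h4
  rcases le_total (l - (d' + 1)) i with h | h
  · rwa [max_eq_right h]
  · rwa [max_eq_left h]

theorem univ_lead (g c : MvPolynomial (Sg (d' + 1) M) ℤ) (i : ℕ)
    (hg : g ∈ idealOfVars (Sg (d' + 1) M) ℤ ^ i) :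
    ∃ q ∈ idealOfVars (Sg (d' + 1) M) ℤ ^ (i + 1),
      gamma (i + (d' + 1)) (g * (c * topU (d' + 1) M)) -
        ((-1 : ℤ) ^ (i + (d' + 1) - 1) * ((i + (d' + 1) - 1).factorial : ℤ)) •
          (g * (c * topU (d' + 1) M)) = topU (d' + 1) M * q := by
  obtain ⟨q, hq⟩ := gamma_dvd (sTop (d' + 1) M) _ (univ_f_dvd d' M g c) (univ_f_const d' M g c)
    (i + (d' + 1)) (by omega)
  have h1 := Groth.Agent.Lib.Helper44.GammaLeading.gamma_sub_mem (Sg (d' + 1) M) (i + (d' + 1))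
    (by omega) _ (univ_f_mem d' M g c i hg)
  have h3 : g * (c * topU (d' + 1) M) = monomial (sTop (d' + 1) M) (1 : ℤ) * (g * c) := by
    show g * (c * monomial (sTop (d' + 1) M) (1 : ℤ)) = _
    ring
  have h2 : gamma (i + (d' + 1)) (g * (c * topU (d' + 1) M)) -
        ((-1 : ℤ) ^ (i + (d' + 1) - 1) * ((i + (d' + 1) - 1).factorial : ℤ)) •
          (g * (c * topU (d' + 1) M)) = monomial (sTop (d' + 1) M) (1 : ℤ) *
          (q - ((-1 : ℤ) ^ (i + (d' + 1) - 1) * ((i + (d' + 1) - 1).factorial : ℤ)) •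
            (g * c)) := by
    rw [hq, h3, mul_sub, mul_smul_comm]
  rw [h2] at h1
  have h4 := mem_pow_of_monomial_mul_mem (sTop (d' + 1) M) _ _ h1
  have h5 : i + (d' + 1) + 1 - (sTop (d' + 1) M).degree = i + 1 := by
    rw [degree_sTop]
    omega
  rw [h5] at h4
  exact ⟨_, h4, h2⟩

theorem wterm_univ_mem (d : ℕ) (e : ℕ → ℕ) (r : ℕ) :
    (Groth.Agent.S8690.wterm e r).eval (nu d M) (xu d M) ∈
      idealOfVars (Sg d M) ℤ ^ (∑ s ∈ Finset.range r, e s) := by
  rw [Groth.Agent.S8690.eval_wterm]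
  exact (Groth.Agent.S8690.isMulFil_pow (Sg d M)).prod_mem _ _ _ fun s _ =>
    gamma_mem_pow (Sg d M) _ (constantCoeff_xu d M s) (e s)

end Univ

section Transfer

attribute [local instance] shiftOps

variable {K : Type u} {A : Type v} [CommRing K] [CommRing A] [LambdaOps A] (ε : A →+* K)

theorem gen_div (hA : IsSpecial A) (d' : ℕ) (n : A) (hn0 : ε n = 0)
    (hn : ∀ k, d' + 1 < k → gamma k n = 0) (x : ℕ → A) (hx : ∀ g, ε (x g) = 0) (t : Tm) (i : ℕ)
    (ht : ∀ M, t.eval (nu (d' + 1) M) (xu (d' + 1) M) ∈ idealOfVars (Sg (d' + 1) M) ℤ ^ i) :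
    (∀ l, 1 ≤ l → ∃ h ∈ gammaFil ε (max (l - (d' + 1)) i),
      gamma l (t.eval n x * ((-1 : A) ^ (d' + 1) * gamma (d' + 1) n)) =
        gamma (d' + 1) n * h) ∧
    ∃ y ∈ gammaFil ε (i + 1),
      gamma (i + (d' + 1)) (t.eval n x * ((-1 : A) ^ (d' + 1) * gamma (d' + 1) n)) -
        ((-1 : ℤ) ^ (i + (d' + 1) - 1) * ((i + (d' + 1) - 1).factorial : ℤ)) •
          (t.eval n x * ((-1 : A) ^ (d' + 1) * gamma (d' + 1) n)) = gamma (d' + 1) n * y := by
  have hF := isMulFil_gammaFil ε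
  have hnW : ∀ a, gamma a n ∈ gammaFil ε a := fun a => gamma_mem_gammaFil ε n hn0 a
  have hxW : ∀ g a, gamma a (x g) ∈ gammaFil ε a :=
    fun g a => gamma_mem_gammaFil ε (x g) (hx g) a
  refine ⟨fun l hl => ?_, ?_⟩
  · rw [← eval_tmul, grep_spec hA]
    refine verify_div d' _ _ (fun M => ?_) hF n x hn hnW hxW
    rw [← @grep_spec _ _ (shiftOps (Sg (d' + 1) M)) (isSpecial (Sg (d' + 1) M)), eval_tmul,
      gamma_nu_top]
    exact univ_div d' M _ _ i (ht M) l hl
  · have h1 : gamma (i + (d' + 1)) ((tmul (d' + 1) t).eval n x) -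
        ((-1 : ℤ) ^ (i + (d' + 1) - 1) * ((i + (d' + 1) - 1).factorial : ℤ)) •
          (tmul (d' + 1) t).eval n x =
        θl n x ((tmul (d' + 1) t).grep (i + (d' + 1)) -
          ((-1 : ℤ) ^ (i + (d' + 1) - 1) * ((i + (d' + 1) - 1).factorial : ℤ)) •
            (tmul (d' + 1) t).rep 1) := by
      rw [map_sub, map_zsmul, ← grep_spec hA, ← rep_spec hA, LambdaOps.lam_one]
    rw [← eval_tmul, h1]
    refine verify_div d' _ _ (fun M => ?_) hF n x hn hnW hxW
    rw [map_sub, map_zsmul, ← @grep_spec _ _ (shiftOps (Sg (d' + 1) M)) (isSpecial (Sg (d' + 1) M)),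
      ← @rep_spec _ _ (shiftOps (Sg (d' + 1) M)) (isSpecial (Sg (d' + 1) M)),
      @LambdaOps.lam_one _ _ (shiftOps (Sg (d' + 1) M)), eval_tmul, gamma_nu_top]
    exact univ_lead d' M _ _ i (ht M)

end Transfer

section Main

attribute [local instance] shiftOps

variable {K : Type u} [CommRing K] [LambdaOps K] [BinomialRing K]
variable {A : Type v} [CommRing A] [LambdaOps A] [Algebra K A]

/-- the integer `(-1)^{i+d-1} (i+d-1)! (-1)^d` -/
def β (i d : ℕ) : ℤ := (-1 : ℤ) ^ (i + d - 1) * ((i + d - 1).factorial : ℤ) * (-1) ^ d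

/-- the invariant -/
def Inv (ε : A →+* K) (d i : ℕ) (P z : A) : Prop :=
  ∃ h : ℕ → A, (∀ a, 1 ≤ a → h a ∈ gammaFil ε (a - d)) ∧ (∀ a, 1 ≤ a → h a ∈ gammaFil ε i) ∧
    (∀ a, 1 ≤ a → gamma a (z * ((-1 : A) ^ d * P)) = P * h a) ∧
    h (i + d) - β i d • z ∈ gammaFil ε (i + 1)

variable (ε : A →+* K) (d i : ℕ) (P : A)

omit [LambdaOps K] [BinomialRing K] [Algebra K A] in
theorem inv_zero : Inv ε d i P 0 := by
  refine ⟨fun _ => 0, fun _ _ => zero_mem _, fun _ _ => zero_mem _, fun a ha => ?_, ?_⟩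
  · rw [zero_mul, mul_zero, gamma_zero_right a ha]
  · rw [smul_zero, sub_zero]
    exact zero_mem _

omit [LambdaOps K] [BinomialRing K] [Algebra K A] in
theorem fil_mul_le (hd : 1 ≤ d) : gammaFil ε d * gammaFil ε i ≤ gammaFil ε (i + 1) := by
  have hF := isMulFil_gammaFil ε
  rw [Ideal.mul_le]
  intro y hy y' hy'
  exact hF.anti _ _ (by omega) (hF.mul _ _ _ _ hy hy')

omit [LambdaOps K] [BinomialRing K] [Algebra K A] in
theorem inv_add (hd : 1 ≤ d) (hP : P ∈ gammaFil ε d) (z1 z2 : A) (h1 : Inv ε d i P z1)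
    (h2 : Inv ε d i P z2) : Inv ε d i P (z1 + z2) := by
  have hF := isMulFil_gammaFil ε
  obtain ⟨k1, hs1, hf1, hg1, hl1⟩ := h1
  obtain ⟨k2, hs2, hf2, hg2, hl2⟩ := h2
  refine ⟨addQ P k1 k2, fun a ha => addQ_mem_shift hF d P hP k1 k2 hs1 hs2 a ha,
    fun a ha => addQ_mem_floor _ P k1 k2 hf1 hf2 a ha, fun a ha => ?_, ?_⟩
  · rw [add_mul]
    exact gamma_add_div _ _ P k1 k2 hg1 hg2 a ha
  · have h3 := addQ_lead _ _ _ (fil_mul_le ε d i hd) P hP k1 k2 hf2 (i + d)
    have h4 : addQ P k1 k2 (i + d) - β i d • (z1 + z2) =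
        (addQ P k1 k2 (i + d) - (k1 (i + d) + k2 (i + d))) +
          ((k1 (i + d) - β i d • z1) + (k2 (i + d) - β i d • z2)) := by
      rw [smul_add]
      ring
    rw [h4]
    exact add_mem h3 (add_mem hl1 hl2)

theorem inv_smul (hKb : IsBinomial K) (hA : IsSpecial A) (hKA : IsLambdaAlg K A) (hd : 1 ≤ d)
    (hP : P ∈ gammaFil ε d) (c : K) (z : A) (h1 : Inv ε d i P z) :
    Inv ε d i P (algebraMap K A c * z) := by
  have hF := isMulFil_gammaFil ε
  obtain ⟨k1, hs1, hf1, hg1, hl1⟩ := h1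
  refine ⟨smulQ (fun k => algebraMap K A (Ring.choose c (k + 1))) P k1,
    fun a _ => smulQ_mem_shift hF d _ P hP k1 hs1 a,
    fun a _ => smulQ_mem_floor _ _ P k1 hf1 a, fun a ha => ?_, ?_⟩
  · rw [mul_assoc, gamma_smul hKb hA hKA c _ a]
    exact binomSum_div _ _ P k1 hg1 a ha
  · have h3 := smulQ_lead _ _ _ (fil_mul_le ε d i hd)
      (fun k => algebraMap K A (Ring.choose c (k + 1))) P hP k1 hf1 (i + d) (by omega)
    have h5 : algebraMap K A (Ring.choose c (0 + 1)) = algebraMap K A c := by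
      rw [zero_add, Ring.choose_one_right]
    have h4 : smulQ (fun k => algebraMap K A (Ring.choose c (k + 1))) P k1 (i + d) -
        β i d • (algebraMap K A c * z) =
        (smulQ (fun k => algebraMap K A (Ring.choose c (k + 1))) P k1 (i + d) -
          algebraMap K A (Ring.choose c (0 + 1)) * k1 (i + d)) +
          algebraMap K A c * (k1 (i + d) - β i d • z) := by
      rw [h5, mul_sub, mul_smul_comm]
      ring
    rw [h4]
    exact add_mem h3 (Ideal.mul_mem_left _ _ hl1)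

omit [LambdaOps K] [BinomialRing K] [Algebra K A] in
theorem inv_gen (hA : IsSpecial A) (d' : ℕ) (n : A) (hn0 : ε n = 0)
    (hn : ∀ k, d' + 1 < k → gamma k n = 0)
    (hPnz : ∀ z : A, gamma (d' + 1) n * z = 0 → z = 0)
    (l : List (ℕ × A)) (hl : ∀ p ∈ l, ε p.2 = 0) (hsum : i ≤ (l.map Prod.fst).sum) :
    Inv ε (d' + 1) i (gamma (d' + 1) n) (l.map fun p => gamma p.1 p.2).prod := by
  classical
  have hF := isMulFil_gammaFil ε
  let e : ℕ → ℕ := fun s => (l.getD s ((0 : ℕ), (0 : A))).1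
  let x : ℕ → A := fun s => (l.getD s ((0 : ℕ), (0 : A))).2
  have hx0 : ∀ s, ε (x s) = 0 := by
    intro s
    by_cases hs : s < l.length
    · have h1 : l.getD s ((0 : ℕ), (0 : A)) ∈ l := by
        rw [List.getD_eq_getElem _ _ hs]
        exact List.getElem_mem hs
      exact hl _ h1
    · have h1 : l.getD s ((0 : ℕ), (0 : A)) = ((0 : ℕ), (0 : A)) :=
        List.getD_eq_default _ _ (by omega)
      show ε (l.getD s ((0 : ℕ), (0 : A))).2 = 0
      rw [h1, map_zero]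
  have hw : (l.map fun p => gamma p.1 p.2).prod =
      (Groth.Agent.S8690.wterm e l.length).eval n x := by
    rw [Groth.Agent.S8690.eval_wterm,
      Groth.Agent.S8690.list_prod_eq (fun p : ℕ × A => gamma p.1 p.2) ((0 : ℕ), (0 : A)) l]
  have hsum' : i ≤ ∑ s ∈ Finset.range l.length, e s := by
    rw [← Groth.Agent.S8690.list_sum_eq Prod.fst ((0 : ℕ), (0 : A)) l]
    exact hsum
  have huniv : ∀ M, (Groth.Agent.S8690.wterm e l.length).eval (nu (d' + 1) M) (xu (d' + 1) M) ∈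
      idealOfVars (Sg (d' + 1) M) ℤ ^ i :=
    fun M => (Ideal.pow_le_pow_right hsum') (wterm_univ_mem M (d' + 1) e l.length)
  obtain ⟨hg1, y, hy, hg2⟩ := gen_div ε hA d' n hn0 hn x hx0 _ i huniv
  rw [hw]
  let k : ℕ → A := fun a => if ha : 1 ≤ a then Classical.choose (hg1 a ha) else 0
  have hk : ∀ a (ha : 1 ≤ a), k a ∈ gammaFil ε (max (a - (d' + 1)) i) ∧
      gamma a ((Groth.Agent.S8690.wterm e l.length).eval n x *
        ((-1 : A) ^ (d' + 1) * gamma (d' + 1) n)) = gamma (d' + 1) n * k a := by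
    intro a ha
    have h := Classical.choose_spec (hg1 a ha)
    show (if ha : 1 ≤ a then Classical.choose (hg1 a ha) else 0) ∈ _ ∧ _ =
      _ * (if ha : 1 ≤ a then Classical.choose (hg1 a ha) else 0)
    rw [dif_pos ha]
    exact h
  refine ⟨k, fun a ha => hF.anti _ _ (le_max_left _ _) (hk a ha).1,
    fun a ha => hF.anti _ _ (le_max_right _ _) (hk a ha).1, fun a ha => (hk a ha).2, ?_⟩
  have h3 := (hk (i + (d' + 1)) (by omega)).2
  have h4 : k (i + (d' + 1)) - β i (d' + 1) •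
      (Groth.Agent.S8690.wterm e l.length).eval n x = y := by
    rw [← sub_eq_zero]
    apply hPnz
    rw [h3] at hg2
    unfold β
    rw [zsmul_eq_mul] at hg2 ⊢
    push_cast at hg2 ⊢
    linear_combination hg2
  rw [h4]
  exact hy

/-- **Main theorem.** -/
theorem inv_of_mem (hKb : IsBinomial K) (hA : IsSpecial A) (εa : A →ₐ[K] K)
    (hε : IsAugLambdaAlg K A εa) (d' : ℕ) (n : A) (hn0 : εa n = 0)
    (hn : ∀ k, d' + 1 < k → gamma k n = 0)
    (hPnz : ∀ z : A, gamma (d' + 1) n * z = 0 → z = 0) (i : ℕ) (z : A)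
    (hz : z ∈ gammaFil (εa : A →+* K) i) :
    Inv (εa : A →+* K) (d' + 1) i (gamma (d' + 1) n) z := by
  have hP : gamma (d' + 1) n ∈ gammaFil (εa : A →+* K) (d' + 1) :=
    gamma_mem_gammaFil (εa : A →+* K) n hn0 (d' + 1)
  have hdecomp : ∀ (a : A) (l : List (ℕ × A)),
      a * (l.map fun p => gamma p.1 p.2).prod =
        algebraMap K A (εa a) * (l.map fun p => gamma p.1 p.2).prod +
          (((1, a - algebraMap K A (εa a)) :: l).map fun p => gamma p.1 p.2).prod := by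
    intro a l
    rw [List.map_cons, List.prod_cons, gamma_one_left]
    ring
  have hε0 : ∀ a : A, (εa : A →+* K) (a - algebraMap K A (εa a)) = 0 := by
    intro a
    show εa (a - algebraMap K A (εa a)) = 0
    rw [map_sub, AlgHom.commutes, Algebra.algebraMap_self_apply, sub_self]
  have hQ : ∀ a : A, Inv (εa : A →+* K) (d' + 1) i (gamma (d' + 1) n) (a * z) := by
    refine Submodule.span_induction (p := fun u _ => ∀ a : A,
      Inv (εa : A →+* K) (d' + 1) i (gamma (d' + 1) n) (a * u)) ?_ ?_ ?_ ?_ hz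
    · rintro _ ⟨l, hl, hsum, rfl⟩ a
      rw [hdecomp a l]
      refine inv_add _ _ _ _ (by omega) hP _ _
        (inv_smul _ _ _ _ hKb hA hε.isLambdaAlg (by omega) hP _ _
          (inv_gen _ i hA d' n hn0 hn hPnz l hl hsum))
        (inv_gen _ i hA d' n hn0 hn hPnz _ ?_ ?_)
      · intro p hp
        rcases List.mem_cons.1 hp with h | h
        · rw [h]
          exact hε0 a
        · exact hl p h
      · rw [List.map_cons, List.sum_cons]
        omega
    · intro a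
      rw [mul_zero]
      exact inv_zero _ _ _ _
    · intro y y' _ _ hy hy' a
      rw [mul_add]
      exact inv_add _ _ _ _ (by omega) hP _ _ (hy a) (hy' a)
    · intro b y _ hy a
      rw [smul_eq_mul, ← mul_assoc]
      exact hy (a * b)
  have h1 := hQ 1
  rwa [one_mul] at h1

end Main

end Groth.Agent.Lib.Helper44.GammaRankDiv
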