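import Groth.Agent.Lib.Helper44.GammaWeights
import Groth.Agent.Lib.Helper44.BinomPrinciple

/-!
# The γ-operations of a scalar multiple, for scalars in a binomial ring

`γ^n(c z) = Σ_k C(c, k) · [t^n] (γ_t(z) - 1)^k` in a special λ-algebra over a binomial ring.
-/

set_option autoImplicit false

universe u v

namespace Groth.Agent.Lib.Helper44.GammaScalar

open LambdaRing Finset MvPolynomial Groth.Agent.Lib.Helper44.LambdaShift
  Groth.Agent.Lib.Helper44.GammaUniv Groth.Agent.Lib.Helper44.GammaTransfer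
  Groth.Agent.Lib.Helper44.GammaWeights Groth.Agent.Lib.Helper44.LambdaMono
  Groth.Agent.Lib.Helper44.SymmTwo Groth.Agent.Lib.Helper44.BinomPrinciple

section Series

variable {B : Type u} [CommRing B] [LambdaOps B]

/-- the series `γ_t(z)` -/
noncomputable def gser (z : B) : PowerSeries B := PowerSeries.mk fun i => gamma i z

theorem coeff_gser (z : B) (i : ℕ) : PowerSeries.coeff i (gser z) = gamma i z :=
  PowerSeries.coeff_mk _ _

theorem gser_zero : gser (0 : B) = 1 := by
  ext i
  rw [coeff_gser, PowerSeries.coeff_one]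
  split_ifs with h
  · rw [h, gamma_zero_left]
  · rw [gamma_zero_right _ (by omega)]

theorem gser_add (x y : B) : gser (x + y) = gser x * gser y := by
  ext n
  rw [coeff_gser, PowerSeries.coeff_mul, Finset.Nat.sum_antidiagonal_eq_sum_range_succ_mk,
    Groth.Agent.Lib.Helper17.Lam.gamma_add]
  refine Finset.sum_congr rfl fun i _ => ?_
  rw [coeff_gser, coeff_gser]

theorem gser_nsmul (c : ℕ) (z : B) : gser (c • z) = gser z ^ c := by
  induction c with
  | zero => rw [zero_smul, pow_zero, gser_zero]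
  | succ c ih => rw [succ_nsmul, gser_add, ih, pow_succ]

theorem constantCoeff_gser_sub_one (z : B) : PowerSeries.constantCoeff (gser z - 1) = 0 := by
  rw [map_sub, map_one, ← PowerSeries.coeff_zero_eq_constantCoeff_apply, coeff_gser,
    gamma_zero_left, sub_self]

omit [LambdaOps B] in
theorem coeff_pow_eq_zero (s : PowerSeries B) (hs : PowerSeries.constantCoeff s = 0) {n k : ℕ}
    (h : n < k) : PowerSeries.coeff n (s ^ k) = 0 := by
  obtain ⟨s', rfl⟩ := PowerSeries.X_dvd_iff.2 hs
  rw [mul_pow, PowerSeries.coeff_X_pow_mul', if_neg (by omega)]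

/-- the binomial sum `Σ_k zc_k · [t^n] (γ_t(z) - 1)^k` -/
noncomputable def binomSum (zc : ℕ → B) (z : B) (n : ℕ) : B :=
  ∑ k ∈ range (n + 1), (if k = 0 then 1 else zc (k - 1)) *
    PowerSeries.coeff n ((gser z - 1) ^ k)

/-- the case of a natural number -/
theorem gamma_natCast_mul (c : ℕ) (z : B) (n : ℕ) :
    gamma n ((c : B) * z) = binomSum (fun k => ((c.choose (k + 1) : ℕ) : B)) z n := by
  have h1 : (c : B) * z = c • z := (nsmul_eq_mul c z).symm
  rw [h1, ← coeff_gser, gser_nsmul]
  have h2 : gser z ^ c = ∑ k ∈ range (c + 1), (gser z - 1) ^ k * (PowerSeries.C ((c.choose k : ℕ) : B)) := by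
    conv_lhs => rw [show gser z = (gser z - 1) + 1 by ring]
    rw [add_pow]
    refine Finset.sum_congr rfl fun k _ => ?_
    rw [one_pow, mul_one, map_natCast]
  rw [h2, map_sum]
  unfold binomSum
  have hf : ∀ k, PowerSeries.coeff n ((gser z - 1) ^ k * (PowerSeries.C ((c.choose k : ℕ) : B))) =
      (if k = 0 then 1 else ((c.choose (k - 1 + 1) : ℕ) : B)) *
        PowerSeries.coeff n ((gser z - 1) ^ k) := by
    intro k
    rw [PowerSeries.coeff_mul_C, mul_comm]
    congr 1
    split_ifs with h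
    · rw [h, Nat.choose_zero_right, Nat.cast_one]
    · rw [Nat.sub_add_cancel (Nat.one_le_iff_ne_zero.2 h)]
  rw [Finset.sum_congr rfl fun k _ => hf k]
  have hvan : ∀ k, (c < k ∨ n < k) → (if k = 0 then 1 else ((c.choose (k - 1 + 1) : ℕ) : B)) *
      PowerSeries.coeff n ((gser z - 1) ^ k) = 0 := by
    intro k hk
    rcases hk with hk | hk
    · rw [if_neg (by omega), Nat.sub_add_cancel (by omega), Nat.choose_eq_zero_of_lt hk,
        Nat.cast_zero, zero_mul]
    · rw [coeff_pow_eq_zero _ (constantCoeff_gser_sub_one z) hk, mul_zero]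
  have e1 := Finset.sum_subset (Finset.range_subset_range.2 (show c + 1 ≤ max c n + 1 by omega))
    (f := fun k => (if k = 0 then 1 else ((c.choose (k - 1 + 1) : ℕ) : B)) *
      PowerSeries.coeff n ((gser z - 1) ^ k))
    (fun k _ hk => hvan k (Or.inl (by rw [Finset.mem_range] at hk; omega)))
  have e2 := Finset.sum_subset (Finset.range_subset_range.2 (show n + 1 ≤ max c n + 1 by omega))
    (f := fun k => (if k = 0 then 1 else ((c.choose (k - 1 + 1) : ℕ) : B)) *
      PowerSeries.coeff n ((gser z - 1) ^ k))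
    (fun k _ hk => hvan k (Or.inr (by rw [Finset.mem_range] at hk; omega)))
  exact e1.trans e2.symm

theorem lam_natCast (h1 : ∀ k : ℕ, 2 ≤ k → LambdaOps.lam k (1 : B) = 0) (c k : ℕ) :
    LambdaOps.lam k (c : B) = ((c.choose k : ℕ) : B) := by
  have h := Groth.Agent.S8649.lam_add_nat h1 (0 : B) c k
  rw [zero_add] at h
  rw [h, Finset.sum_range_succ']
  rw [Finset.sum_eq_zero fun j _ => by rw [lam_zero_right (j + 1) (Nat.succ_ne_zero j), mul_zero]]
  rw [zero_add, Nat.sub_zero, LambdaOps.lam_zero, mul_one]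

/-- `λ^k` of a sum of line elements -/
theorem lam_finset {ι : Type} [DecidableEq ι] (y : ι → B) (s : Finset ι)
    (hy : ∀ i ∈ s, ∀ j : ℕ, 2 ≤ j → LambdaOps.lam j (y i) = 0) :
    ∀ k : ℕ, LambdaOps.lam k (∑ i ∈ s, y i) = ∑ t ∈ s.powersetCard k, ∏ i ∈ t, y i := by
  induction s using Finset.induction_on with
  | empty =>
    intro k
    rw [Finset.sum_empty]
    rcases k with _ | k
    · rw [LambdaOps.lam_zero]
      simp
    · rw [lam_zero_right _ (Nat.succ_ne_zero k), Finset.powersetCard_eq_empty.2 (by simp),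
        Finset.sum_empty]
  | insert a s ha ih =>
    intro k
    have ih' := ih (fun i hi => hy i (Finset.mem_insert_of_mem hi))
    rcases k with _ | m
    · rw [LambdaOps.lam_zero]
      simp
    · rw [Groth.Agent.S8651.esymm_insert _ a s ha, ← ih' (m + 1), ← ih' m, Finset.sum_insert ha,
        add_comm (y a), Groth.Agent.S8649.lam_add_line (y a) (hy a (Finset.mem_insert_self a s))]

end Series

section Poly

/-- the formal series `γ_t` of the second family in the `λ`-variables -/
noncomputable def GS : PowerSeries U :=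
  PowerSeries.mk fun i => if i = 0 then 1 else sub Sum.inr (i - 1)

/-- the binomial sum as a polynomial: the first family stands for the `C(c, k+1)` -/
noncomputable def Frhs (n : ℕ) : U :=
  ∑ k ∈ range (n + 1), (if k = 0 then 1 else X (Sum.inl (k - 1))) *
    PowerSeries.coeff n ((GS - 1) ^ k)

/-- evaluation of the two families -/
noncomputable def evalZ {R : Type*} [CommRing R] (zc lz : ℕ → R) : U →ₐ[ℤ] R :=
  aeval (Sum.elim zc lz)

theorem ringHom_ext_int {σ R : Type*} [CommRing R] (f g : MvPolynomial σ ℤ →+* R)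
    (h : ∀ i, f (X i) = g (X i)) : f = g := by
  refine MvPolynomial.ringHom_ext (fun r => ?_) h
  rw [eq_intCast (C : ℤ →+* MvPolynomial σ ℤ) r, map_intCast, map_intCast]

variable {B : Type u} [CommRing B] [LambdaOps B]

theorem evalZ_GS (zc : ℕ → B) (z : B) :
    PowerSeries.map (evalZ zc (fun k => LambdaOps.lam (k + 1) z) : U →+* B) GS = gser z := by
  ext i
  rw [PowerSeries.coeff_map, coeff_gser]
  unfold GS
  rw [PowerSeries.coeff_mk]
  rcases i with _ | j
  · rw [if_pos rfl, gamma_zero_left, map_one]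
  · rw [if_neg (Nat.succ_ne_zero j), Nat.add_sub_cancel, gamma_succ_eq]
    unfold sub
    rw [map_sum]
    refine Finset.sum_congr rfl fun l _ => ?_
    rw [map_mul, map_natCast]
    congr 1
    show evalZ zc _ (X (Sum.inr l)) = _
    unfold evalZ
    rw [aeval_X, Sum.elim_inr]

theorem evalZ_Frhs (zc : ℕ → B) (z : B) (n : ℕ) :
    evalZ zc (fun k => LambdaOps.lam (k + 1) z) (Frhs n) = binomSum zc z n := by
  unfold Frhs binomSum
  rw [map_sum]
  refine Finset.sum_congr rfl fun k _ => ?_
  rw [map_mul]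
  congr 1
  · split_ifs with h
    · rw [map_one]
    · unfold evalZ
      rw [aeval_X, Sum.elim_inl]
  · have h1 : evalZ zc (fun k => LambdaOps.lam (k + 1) z) (PowerSeries.coeff n ((GS - 1) ^ k)) =
        (evalZ zc (fun k => LambdaOps.lam (k + 1) z) : U →+* B)
          (PowerSeries.coeff n ((GS - 1) ^ k)) := rfl
    rw [h1, ← PowerSeries.coeff_map, map_pow, map_sub, map_one, evalZ_GS]

theorem evalZ_H2 (hsp : IsSpecial B) (x z : B) (n : ℕ) (hn : 1 ≤ n) :
    evalZ (fun k => LambdaOps.lam (k + 1) x) (fun k => LambdaOps.lam (k + 1) z) (H2 n) =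
      gamma n (x * z) :=
  θl_H2 hsp x z n hn

end Poly

section Universal

attribute [local instance] monoOps

theorem lam_sum_X (N k : ℕ) :
    LambdaOps.lam k (∑ a : Fin N, (X a : MvPolynomial (Fin N) ℤ)) = esymm (Fin N) ℤ k := by
  classical
  have h := lam_finset (fun a : Fin N => (X a : MvPolynomial (Fin N) ℤ)) Finset.univ
    (fun a _ j hj => lam_monomial_one (Fin N) (Finsupp.single a 1) j hj) k
  rw [h]
  rfl

theorem joint_injective_one (f : MvPolynomial ℕ ℤ)
    (h : ∀ N, aeval (fun k : ℕ => esymm (Fin N) ℤ (k + 1)) f = 0) : f = 0 := by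
  classical
  let N : ℕ := f.vars.sup id + 1
  have hvars : (f.vars : Set ℕ) ⊆ Set.range (Fin.val : Fin N → ℕ) := by
    intro p hp
    have h1 : id p ≤ f.vars.sup id := Finset.le_sup hp
    exact ⟨⟨p, Nat.lt_succ_of_le h1⟩, rfl⟩
  obtain ⟨q, hq⟩ := exists_rename_eq_of_vars_subset_range f _ Fin.val_injective hvars
  have h1 := h N
  rw [← hq, aeval_rename] at h1
  have h3 : q = 0 := aeval_esymm_injective ℤ N N le_rfl (h1.trans (map_zero _).symm)
  rw [← hq, h3, map_zero]

/-- the polynomial identity for natural numbers -/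
theorem identity_nat (n : ℕ) (hn : 1 ≤ n) (c : ℕ) :
    evalZ (fun k => (C ((c.choose (k + 1) : ℕ) : ℤ) : MvPolynomial ℕ ℤ)) (fun k => X k)
      (H2 n - Frhs n) = 0 := by
  apply joint_injective_one
  intro N
  have hcomp : (aeval (fun k : ℕ => esymm (Fin N) ℤ (k + 1)) :
      MvPolynomial ℕ ℤ →ₐ[ℤ] MvPolynomial (Fin N) ℤ).toRingHom.comp
      (evalZ (fun k => (C ((c.choose (k + 1) : ℕ) : ℤ) : MvPolynomial ℕ ℤ)) (fun k => X k) :
        U →+* MvPolynomial ℕ ℤ) =
      (evalZ (fun k => LambdaOps.lam (k + 1) ((c : ℕ) : MvPolynomial (Fin N) ℤ))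
        (fun k => LambdaOps.lam (k + 1) (∑ a : Fin N, (X a : MvPolynomial (Fin N) ℤ))) :
        U →+* MvPolynomial (Fin N) ℤ) := by
    apply ringHom_ext_int
    intro p
    rcases p with k | k
    · show aeval _ (evalZ _ _ (X (Sum.inl k))) = evalZ _ _ (X (Sum.inl k))
      unfold evalZ
      rw [aeval_X, aeval_X, Sum.elim_inl, Sum.elim_inl, aeval_C,
        lam_natCast (LambdaMono.isSpecial (Fin N)).lam_one_eq_zero]
      simp
    · show aeval _ (evalZ _ _ (X (Sum.inr k))) = evalZ _ _ (X (Sum.inr k))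
      unfold evalZ
      rw [aeval_X, aeval_X, Sum.elim_inr, Sum.elim_inr, aeval_X, lam_sum_X]
  have h1 := RingHom.congr_fun hcomp (H2 n - Frhs n)
  refine h1.trans ?_
  show evalZ _ _ (H2 n - Frhs n) = 0
  rw [map_sub, evalZ_H2 (LambdaMono.isSpecial (Fin N)) _ _ n hn, evalZ_Frhs, gamma_natCast_mul,
    sub_eq_zero]
  unfold binomSum
  refine Finset.sum_congr rfl fun k _ => ?_
  congr 1
  split_ifs with h
  · rfl
  · beta_reduce
    rw [lam_natCast (LambdaMono.isSpecial (Fin N)).lam_one_eq_zero]

end Universal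

section Binomial

variable {K : Type u} [CommRing K] [BinomialRing K]

/-- the polynomial identity over a binomial ring -/
theorem identity_binomial (n : ℕ) (hn : 1 ≤ n) (c : K) :
    evalZ (fun k => (C (Ring.choose c (k + 1)) : MvPolynomial ℕ K)) (fun k => X k)
      (H2 n - Frhs n) = 0 := by
  let F' : MvPolynomial ℕ (MvPolynomial ℕ ℤ) :=
    evalZ (fun k => (X k : MvPolynomial ℕ (MvPolynomial ℕ ℤ))) (fun k => C (X k)) (H2 n - Frhs n)
  have hF : ∀ c : ℕ, MvPolynomial.eval (fun k => ((c.choose (k + 1) : ℕ) : MvPolynomial ℕ ℤ)) F' = 0 := by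
    intro c
    have hcomp : (MvPolynomial.eval (fun k => ((c.choose (k + 1) : ℕ) : MvPolynomial ℕ ℤ))).comp
        (evalZ (fun k => (X k : MvPolynomial ℕ (MvPolynomial ℕ ℤ))) (fun k => C (X k)) :
          U →+* MvPolynomial ℕ (MvPolynomial ℕ ℤ)) =
        (evalZ (fun k => (C ((c.choose (k + 1) : ℕ) : ℤ) : MvPolynomial ℕ ℤ)) (fun k => X k) :
          U →+* MvPolynomial ℕ ℤ) := by
      apply ringHom_ext_int
      intro p
      rcases p with k | k
      · show MvPolynomial.eval _ (evalZ _ _ (X (Sum.inl k))) = evalZ _ _ (X (Sum.inl k))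
        unfold evalZ
        rw [aeval_X, aeval_X, Sum.elim_inl, Sum.elim_inl, eval_X]
        simp
      · show MvPolynomial.eval _ (evalZ _ _ (X (Sum.inr k))) = evalZ _ _ (X (Sum.inr k))
        unfold evalZ
        rw [aeval_X, aeval_X, Sum.elim_inr, Sum.elim_inr, eval_C]
    exact (RingHom.congr_fun hcomp (H2 n - Frhs n)).trans (identity_nat n hn c)
  have htf : ∀ m : ℕ, m ≠ 0 → ∀ x : MvPolynomial ℕ K, (m : MvPolynomial ℕ K) * x = 0 → x = 0 := by
    intro m hm x hx
    ext d
    have h1 := congrArg (coeff d) hx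
    have h2 : (m : MvPolynomial ℕ K) = C (m : K) := by rw [map_natCast]
    rw [h2, coeff_C_mul, coeff_zero, ← nsmul_eq_mul] at h1
    have h3 : m • coeff d x = m • (0 : K) := by rw [h1, smul_zero]
    rw [coeff_zero]
    exact (BinomialRing.toIsAddTorsionFree.nsmul_right_injective hm) h3
  have hbp := binom_principle F' hF (MvPolynomial.map (Int.castRingHom K)) htf (C c)
    (fun k => (C (Ring.choose c (k + 1)) : MvPolynomial ℕ K)) (fun k => by
      rw [← map_natCast (C : K →+* MvPolynomial ℕ K), ← map_mul, Groth.Agent.Lib.Helper44.BinomPrinciple.choose_spec,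
        ← Polynomial.eval₂_id (x := C c), ← descPochhammer_map (C : K →+* MvPolynomial ℕ K),
        Polynomial.eval₂_map]
      have h5 := Polynomial.hom_eval₂ (descPochhammer K (k + 1)) (RingHom.id K)
        (C : K →+* MvPolynomial ℕ K) c
      rw [RingHom.comp_id, Polynomial.eval₂_id] at h5
      rw [RingHom.id_comp]
      exact h5)
  have hcomp : (MvPolynomial.eval₂Hom (MvPolynomial.map (Int.castRingHom K))
      (fun k => (C (Ring.choose c (k + 1)) : MvPolynomial ℕ K))).comp
      (evalZ (fun k => (X k : MvPolynomial ℕ (MvPolynomial ℕ ℤ))) (fun k => C (X k)) :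
        U →+* MvPolynomial ℕ (MvPolynomial ℕ ℤ)) =
      (evalZ (fun k => (C (Ring.choose c (k + 1)) : MvPolynomial ℕ K)) (fun k => X k) :
        U →+* MvPolynomial ℕ K) := by
    apply ringHom_ext_int
    intro p
    rcases p with k | k
    · show MvPolynomial.eval₂ _ _ (evalZ _ _ (X (Sum.inl k))) = evalZ _ _ (X (Sum.inl k))
      unfold evalZ
      rw [aeval_X, aeval_X, Sum.elim_inl, Sum.elim_inl, eval₂_X]
    · show MvPolynomial.eval₂ _ _ (evalZ _ _ (X (Sum.inr k))) = evalZ _ _ (X (Sum.inr k))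
      unfold evalZ
      rw [aeval_X, aeval_X, Sum.elim_inr, Sum.elim_inr, eval₂_C, map_X]
  exact (RingHom.congr_fun hcomp (H2 n - Frhs n)).symm.trans hbp

end Binomial

section Main

variable {K : Type u} [CommRing K] [LambdaOps K] [BinomialRing K]
  {B : Type v} [CommRing B] [LambdaOps B] [Algebra K B]

/-- **The γ-operations of a scalar multiple.** -/
theorem gamma_smul (hKb : IsBinomial K) (hB : IsSpecial B) (hKB : IsLambdaAlg K B) (c : K) (z : B)
    (n : ℕ) :
    gamma n (algebraMap K B c * z) =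
      binomSum (fun k => algebraMap K B (Ring.choose c (k + 1))) z n := by
  rcases Nat.eq_zero_or_pos n with h0 | h0
  · subst h0
    rw [gamma_zero_left]
    unfold binomSum
    rw [Finset.sum_range_one, if_pos rfl, pow_zero, PowerSeries.coeff_one, if_pos rfl, mul_one]
  · have h1 := identity_binomial n h0 c
    have hcomp : (aeval (fun k : ℕ => LambdaOps.lam (k + 1) z) :
        MvPolynomial ℕ K →ₐ[K] B).toRingHom.comp
        (evalZ (fun k => (C (Ring.choose c (k + 1)) : MvPolynomial ℕ K)) (fun k => X k) :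
          U →+* MvPolynomial ℕ K) =
        (evalZ (fun k => LambdaOps.lam (k + 1) (algebraMap K B c))
          (fun k => LambdaOps.lam (k + 1) z) : U →+* B) := by
      apply ringHom_ext_int
      intro p
      rcases p with k | k
      · show aeval _ (evalZ _ _ (X (Sum.inl k))) = evalZ _ _ (X (Sum.inl k))
        unfold evalZ
        rw [aeval_X, aeval_X, Sum.elim_inl, Sum.elim_inl, aeval_C, ← hKB, hKb]
      · show aeval _ (evalZ _ _ (X (Sum.inr k))) = evalZ _ _ (X (Sum.inr k))
        unfold evalZ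
        rw [aeval_X, aeval_X, Sum.elim_inr, Sum.elim_inr, aeval_X]
    have h2 := RingHom.congr_fun hcomp (H2 n - Frhs n)
    have h3 : evalZ (fun k => LambdaOps.lam (k + 1) (algebraMap K B c))
        (fun k => LambdaOps.lam (k + 1) z) (H2 n - Frhs n) = 0 := by
      refine h2.symm.trans ?_
      show aeval _ (evalZ _ _ (H2 n - Frhs n)) = 0
      rw [h1, map_zero]
    rw [map_sub, evalZ_H2 hB _ _ n h0, evalZ_Frhs, sub_eq_zero] at h3
    rw [h3]
    unfold binomSum
    refine Finset.sum_congr rfl fun k _ => ?_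
    congr 1
    split_ifs with h
    · rfl
    · beta_reduce
      rw [← hKB, hKb]

end Main

end Groth.Agent.Lib.Helper44.GammaScalar
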