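import Groth.Agent.Lib.Helper44.GammaUniv
import Groth.Agent.Lib.Helper44.SymmTwo

/-!
# The transfer lemma for the γ-filtration

A polynomial `H` in the `λ^{a+1}(x)`, `λ^{a+1}(y)` whose value at the universal pairs `(xl N, xr N)`
lies in the `i`-th power of the augmentation ideal for every `N` can be rewritten as a polynomial
in the `γ^{a+1}(x)`, `γ^{a+1}(y)` all of whose monomials have weight at least `i`.
-/

set_option autoImplicit false

universe u

namespace Groth.Agent.Lib.Helper44.GammaTransfer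

open LambdaRing Finset MvPolynomial Groth.Agent.Lib.Helper44.LambdaShift
  Groth.Agent.Lib.Helper44.GammaUniv Groth.Agent.Lib.Helper44.SymmPoly
  Groth.Agent.Lib.Helper44.SymmTwo Groth.Agent.S8684

/-- the ring of the universal polynomials in two families -/
abbrev U := MvPolynomial (ℕ ⊕ ℕ) ℤ

section Theta

variable {K : Type u} [CommRing K] [LambdaOps K]

/-- evaluation at `λ^{a+1}(x)`, `λ^{a+1}(y)` -/
noncomputable def θl (x y : K) : U →ₐ[ℤ] K :=
  aeval (Sum.elim (fun a : ℕ => LambdaOps.lam (a + 1) x) (fun a : ℕ => LambdaOps.lam (a + 1) y))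

/-- evaluation at `γ^{a+1}(x)`, `γ^{a+1}(y)` -/
noncomputable def θg (x y : K) : U →ₐ[ℤ] K :=
  aeval (Sum.elim (fun a : ℕ => gamma (a + 1) x) (fun a : ℕ => gamma (a + 1) y))

/-- the formula for `γ^{a+1}` in the `λ`-variables of one family -/
noncomputable def sub (ι : ℕ → ℕ ⊕ ℕ) (a : ℕ) : U :=
  ∑ j ∈ range (a + 1), (Nat.choose a j : U) * X (ι j)

/-- the substitution `γ ↦ λ` -/
noncomputable def σ : U →ₐ[ℤ] U := aeval (Sum.elim (sub Sum.inl) (sub Sum.inr))

theorem θg_eq (x y : K) : θg x y = (θl x y).comp σ := by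
  apply MvPolynomial.algHom_ext
  intro p
  rcases p with a | a
  · show θg x y (X (Sum.inl a)) = θl x y (σ (X (Sum.inl a)))
    unfold θg θl σ
    rw [aeval_X, aeval_X, Sum.elim_inl, Sum.elim_inl]
    unfold sub
    rw [map_sum, gamma_succ_eq]
    refine Finset.sum_congr rfl fun j _ => ?_
    rw [map_mul, map_natCast, aeval_X, Sum.elim_inl]
  · show θg x y (X (Sum.inr a)) = θl x y (σ (X (Sum.inr a)))
    unfold θg θl σ
    rw [aeval_X, aeval_X, Sum.elim_inr, Sum.elim_inr]
    unfold sub
    rw [map_sum, gamma_succ_eq]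
    refine Finset.sum_congr rfl fun j _ => ?_
    rw [map_mul, map_natCast, aeval_X, Sum.elim_inr]

theorem θg_apply (x y : K) (G : U) : θg x y G = θl x y (σ G) := by
  rw [θg_eq]
  rfl

end Theta

theorem X_mem_range_σ (ι : ℕ → ℕ ⊕ ℕ) (hι : ∀ a, σ (X (ι a)) = sub ι a) (a : ℕ) :
    (X (ι a) : U) ∈ σ.range := by
  induction a using Nat.strong_induction_on with
  | _ a ih =>
    have h1 : (X (ι a) : U) = σ (X (ι a)) - ∑ j ∈ range a, (Nat.choose a j : U) * X (ι j) := by
      rw [hι a]
      unfold sub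
      rw [Finset.sum_range_succ, Nat.choose_self, Nat.cast_one, one_mul]
      ring
    rw [h1]
    refine Subalgebra.sub_mem _ ⟨_, rfl⟩ (Subalgebra.sum_mem _ fun j hj => ?_)
    exact Subalgebra.mul_mem _ (natCast_mem _ _) (ih j (Finset.mem_range.1 hj))

theorem σ_surjective : Function.Surjective σ := by
  rw [← AlgHom.range_eq_top, eq_top_iff, ← MvPolynomial.adjoin_range_X]
  refine Algebra.adjoin_le ?_
  rintro _ ⟨p, rfl⟩
  rcases p with a | a
  · exact X_mem_range_σ Sum.inl (fun a => by unfold σ; rw [aeval_X, Sum.elim_inl]) a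
  · exact X_mem_range_σ Sum.inr (fun a => by unfold σ; rw [aeval_X, Sum.elim_inr]) a

/-- the weights: `γ^{a+1}` has weight `a + 1` -/
def wt : ℕ ⊕ ℕ → ℕ := Sum.elim (fun a => a + 1) (fun a => a + 1)

/-- the elementary symmetric functions of the two families of `N` variables -/
noncomputable def EN (N : ℕ) : ℕ ⊕ ℕ → MvPolynomial (Fin N ⊕ Fin N) ℤ :=
  Sum.elim (fun a : ℕ => rename Sum.inl (esymm (Fin N) ℤ (a + 1)))
    (fun a : ℕ => rename Sum.inr (esymm (Fin N) ℤ (a + 1)))

theorem EN_isHomogeneous (N : ℕ) (p : ℕ ⊕ ℕ) : (EN N p).IsHomogeneous (wt p) := by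
  rcases p with a | a
  · exact (esymm_isHomogeneous (Fin N) ℤ (a + 1)).rename_isHomogeneous
  · exact (esymm_isHomogeneous (Fin N) ℤ (a + 1)).rename_isHomogeneous

attribute [local instance] shiftOps

theorem θg_univ (N : ℕ) : θg (xl N) (xr N) = aeval (EN N) := by
  apply MvPolynomial.algHom_ext
  intro p
  rcases p with a | a
  · unfold θg EN
    rw [aeval_X, aeval_X, Sum.elim_inl, Sum.elim_inl, gamma_xl]
  · unfold θg EN
    rw [aeval_X, aeval_X, Sum.elim_inr, Sum.elim_inr, gamma_xr]

theorem joint_injective (f : U) (h : ∀ N, aeval (EN N) f = 0) : f = 0 := by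
  classical
  let N : ℕ := f.vars.sup (Sum.elim id id) + 1
  have hι : Function.Injective (Sum.map (Fin.val : Fin N → ℕ) (Fin.val : Fin N → ℕ)) :=
    Fin.val_injective.sumMap Fin.val_injective
  have hvars : (f.vars : Set (ℕ ⊕ ℕ)) ⊆
      Set.range (Sum.map (Fin.val : Fin N → ℕ) (Fin.val : Fin N → ℕ)) := by
    intro p hp
    have h1 : Sum.elim id id p ≤ f.vars.sup (Sum.elim id id) := Finset.le_sup hp
    rcases p with a | a
    · exact ⟨Sum.inl ⟨a, Nat.lt_succ_of_le h1⟩, rfl⟩
    · exact ⟨Sum.inr ⟨a, Nat.lt_succ_of_le h1⟩, rfl⟩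
  obtain ⟨q, hq⟩ := exists_rename_eq_of_vars_subset_range f _ hι hvars
  have h1 := h N
  rw [← hq, aeval_rename] at h1
  have h2 : EN N ∘ Sum.map (Fin.val : Fin N → ℕ) (Fin.val : Fin N → ℕ) = Ψ N := by
    funext p
    rcases p with a | a <;> rfl
  rw [h2] at h1
  have h3 : q = 0 := aeval_Ψ_injective N (h1.trans (map_zero _).symm)
  rw [← hq, h3, map_zero]

/-- The transfer lemma. -/
theorem transfer (H : U) (i : ℕ)
    (h : ∀ N, θl (xl N) (xr N) H ∈ idealOfVars (Fin N ⊕ Fin N) ℤ ^ i) :
    ∃ G : U, σ G = H ∧ ∀ m, coeff m G ≠ 0 → i ≤ Finsupp.weight wt m := by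
  classical
  obtain ⟨G, hG⟩ := σ_surjective H
  refine ⟨G, hG, ?_⟩
  have hcomp : ∀ w, w < i → weightedHomogeneousComponent wt w G = 0 := by
    intro w hw
    apply joint_injective
    intro N
    have e1 := aeval_weightedHomogeneousComponent wt (EN N) (EN_isHomogeneous N) w G
    have e2 : θg (xl N) (xr N) G = θl (xl N) (xr N) H := by rw [θg_apply, hG]
    have e3 : aeval (EN N) G = θl (xl N) (xr N) H := by
      rw [← e2, θg_univ]
      rfl
    have h1 := h N
    rw [mem_pow_idealOfVars_iff'] at h1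
    have e4 : homogeneousComponent w (θl (xl N) (xr N) H) = 0 := by
      ext d
      rw [coeff_homogeneousComponent, coeff_zero]
      split_ifs with hd
      · exact h1 d (by rw [hd]; exact hw)
      · rfl
    refine e1.trans ?_
    exact (congrArg (homogeneousComponent w) e3).trans e4
  intro m hm
  by_contra hlt
  push Not at hlt
  have h1 := congrArg (coeff m) (hcomp _ hlt)
  rw [coeff_weightedHomogeneousComponent, if_pos rfl, coeff_zero] at h1
  exact hm h1

end Groth.Agent.Lib.Helper44.GammaTransfer
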