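import Groth.Agent.Lib.Helper44.LambdaShift
import Groth.Agent.S8649

/-!
# The universal test rings for the γ-operations

`ℤ[X_σ]` with the λ-structure in which the `1 + X_a` are line elements: the γ-operations of a sum
of variables are elementary symmetric functions, and `λ^m`, `γ^m` (`m ≥ 1`) preserve the
augmentation ideal.
-/

set_option autoImplicit false

universe u

namespace Groth.Agent.Lib.Helper44.GammaUniv

open LambdaRing Finset MvPolynomial Groth.Agent.Lib.Helper44.LambdaShift

section General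

variable {K : Type u} [CommRing K] [LambdaOps K]

theorem lam_zero_right (j : ℕ) (hj : j ≠ 0) : LambdaOps.lam j (0 : K) = 0 := by
  have h := congrArg (PowerSeries.coeff j) (Groth.Agent.Lib.Helper17.Lam.lamSeries_zero (K := K))
  rw [Groth.Agent.Lib.Helper44.LambdaAdams.coeff_lamSeries, PowerSeries.coeff_one, if_neg hj] at h
  exact h

theorem gamma_zero_right (r : ℕ) (hr : 1 ≤ r) : gamma r (0 : K) = 0 := by
  unfold gamma
  rw [if_neg (by omega)]
  refine Finset.sum_eq_zero fun j _ => ?_
  split_ifs with h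
  · rw [mul_zero]
  · rw [lam_zero_right j h, mul_zero]

/-- `γ^{a+1}` in terms of the `λ^{j+1}`. -/
theorem gamma_succ_eq (a : ℕ) (x : K) :
    gamma (a + 1) x = ∑ j ∈ range (a + 1), (Nat.choose a j : K) * LambdaOps.lam (j + 1) x := by
  unfold gamma
  rw [if_neg (Nat.succ_ne_zero a), Finset.sum_range_succ']
  simp only [if_true, mul_zero, add_zero, Nat.add_sub_cancel, Nat.succ_ne_zero, if_false]

/-- `λ^m(x) = γ^m(x + (1 - m))`. -/
theorem lam_eq_gamma (h1 : ∀ k : ℕ, 2 ≤ k → LambdaOps.lam k (1 : K) = 0) (m : ℕ) (x : K) :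
    LambdaOps.lam m x = gamma m (x + (1 - (m : K))) := by
  rw [Groth.Agent.S8649.result K h1 m]
  congr 1
  ring

end General

section Shift

variable (σ : Type)

attribute [local instance] shiftOps

theorem gamma_sum_X [DecidableEq σ] (s : Finset σ) (k : ℕ) :
    gamma k (∑ i ∈ s, (X i : MvPolynomial σ ℤ)) = ∑ t ∈ s.powersetCard k, ∏ i ∈ t, X i := by
  have h := Groth.Agent.S8651.gamma_finset (isSpecial σ).lam_one_eq_zero
    (fun i => (1 + X i : MvPolynomial σ ℤ)) s (fun i _ j hj => lam_one_add_X σ i j hj) k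
  have h1 : ∑ i ∈ s, (1 + X i : MvPolynomial σ ℤ) - (s.card : MvPolynomial σ ℤ) = ∑ i ∈ s, X i := by
    rw [Finset.sum_add_distrib, Finset.sum_const, nsmul_eq_mul, mul_one]
    ring
  rw [h1] at h
  rw [h]
  refine Finset.sum_congr rfl fun t _ => Finset.prod_congr rfl fun i _ => ?_
  ring

theorem constantCoeff_gamma (f : MvPolynomial σ ℤ) (hf : constantCoeff f = 0) (i : ℕ)
    (hi : 1 ≤ i) : constantCoeff (gamma i f) = 0 := by
  rw [← mem_idealOfVars_iff]
  have h := gamma_mem_pow σ f hf i
  have h2 : idealOfVars σ ℤ ^ i ≤ idealOfVars σ ℤ ^ 1 := Ideal.pow_le_pow_right hi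
  have h3 := h2 h
  rwa [pow_one] at h3

theorem constantCoeff_lam (f : MvPolynomial σ ℤ) (hf : constantCoeff f = 0) (m : ℕ)
    (hm : 1 ≤ m) : constantCoeff (LambdaOps.lam m f) = 0 := by
  rw [lam_eq_gamma (isSpecial σ).lam_one_eq_zero m f, Groth.Agent.Lib.Helper17.Lam.gamma_add,
    map_sum]
  refine Finset.sum_eq_zero fun i hi => ?_
  rw [map_mul]
  rcases Nat.eq_zero_or_pos i with h0 | h0
  · subst h0
    have h2 : gamma (m - 0) (1 - (m : MvPolynomial σ ℤ)) = 0 := by
      rw [Nat.sub_zero, Groth.Agent.S8649.result _ (isSpecial σ).lam_one_eq_zero m]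
      have h3 : (1 - (m : MvPolynomial σ ℤ)) + (m : MvPolynomial σ ℤ) - 1 = 0 := by ring
      rw [h3]
      exact lam_zero_right m (by omega)
    rw [h2, map_zero, mul_zero]
  · rw [constantCoeff_gamma σ f hf i h0, zero_mul]

end Shift

section Two

variable (N : ℕ)

attribute [local instance] shiftOps

/-- the sum of the variables of the first family -/
noncomputable def xl : MvPolynomial (Fin N ⊕ Fin N) ℤ := ∑ a : Fin N, X (Sum.inl a)

/-- the sum of the variables of the second family -/
noncomputable def xr : MvPolynomial (Fin N ⊕ Fin N) ℤ := ∑ a : Fin N, X (Sum.inr a)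

theorem constantCoeff_xl : constantCoeff (xl N) = 0 := by
  unfold xl
  rw [map_sum]
  exact Finset.sum_eq_zero fun a _ => constantCoeff_X ℤ _

theorem constantCoeff_xr : constantCoeff (xr N) = 0 := by
  unfold xr
  rw [map_sum]
  exact Finset.sum_eq_zero fun a _ => constantCoeff_X ℤ _

theorem gamma_xl (k : ℕ) : gamma k (xl N) = rename Sum.inl (esymm (Fin N) ℤ k) := by
  classical
  have h := gamma_sum_X (Fin N ⊕ Fin N)
    ((Finset.univ : Finset (Fin N)).map ⟨Sum.inl, Sum.inl_injective⟩) k
  rw [Finset.sum_map] at h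
  show gamma k (∑ a : Fin N, X (Sum.inl a)) = _
  refine h.trans ?_
  rw [Finset.powersetCard_map, Finset.sum_map]
  unfold esymm
  rw [map_sum]
  refine Finset.sum_congr rfl fun t _ => ?_
  rw [map_prod]
  show ∏ i ∈ t.map _, _ = _
  rw [Finset.prod_map]
  refine Finset.prod_congr rfl fun a _ => ?_
  rw [rename_X]
  rfl

theorem gamma_xr (k : ℕ) : gamma k (xr N) = rename Sum.inr (esymm (Fin N) ℤ k) := by
  classical
  have h := gamma_sum_X (Fin N ⊕ Fin N)
    ((Finset.univ : Finset (Fin N)).map ⟨Sum.inr, Sum.inr_injective⟩) k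
  rw [Finset.sum_map] at h
  show gamma k (∑ a : Fin N, X (Sum.inr a)) = _
  refine h.trans ?_
  rw [Finset.powersetCard_map, Finset.sum_map]
  unfold esymm
  rw [map_sum]
  refine Finset.sum_congr rfl fun t _ => ?_
  rw [map_prod]
  show ∏ i ∈ t.map _, _ = _
  rw [Finset.prod_map]
  refine Finset.prod_congr rfl fun a _ => ?_
  rw [rename_X]
  rfl

end Two

end Groth.Agent.Lib.Helper44.GammaUniv
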