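import Groth.Agent.Lib.Helper44.GammaTransfer

/-!
# Weight estimates for the γ-operations of products and of `λ^m`

For a multiplicative filtration `W` of a special λ-ring: if `γ^a(x) ∈ W a` and `γ^a(y) ∈ W a` for
all `a`, then `γ^i(xy) ∈ W i` and `γ^i(λ^m x) ∈ W i` (`m ≥ 1`).
-/

set_option autoImplicit false

universe u

namespace Groth.Agent.Lib.Helper44.GammaWeights

open LambdaRing Finset MvPolynomial Groth.Agent.Lib.Helper44.LambdaShift
  Groth.Agent.Lib.Helper44.GammaUniv Groth.Agent.Lib.Helper44.GammaTransfer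

/-- the universal polynomial `P_n` -/
noncomputable def Pn (n : ℕ) : MvPolynomial (Fin n ⊕ Fin n) ℤ :=
  Classical.choose (Groth.Agent.S8684.result n)

theorem Pn_spec (n : ℕ) : IsMulPoly n (Pn n) := Classical.choose_spec (Groth.Agent.S8684.result n)

/-- the universal polynomial `Q_{i,j}` -/
noncomputable def Qij (i j : ℕ) : MvPolynomial (Fin (i * j)) ℤ :=
  Classical.choose (Groth.Agent.S8685.result i j)

theorem Qij_spec (i j : ℕ) : IsCompPoly i j (Qij i j) :=
  Classical.choose_spec (Groth.Agent.S8685.result i j)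

/-- the polynomial giving `γ^i(xy)` in the `λ`-variables -/
noncomputable def H2 (i : ℕ) : U :=
  ∑ j ∈ range i, (Nat.choose (i - 1) j : U) *
    rename (Sum.map (Fin.val : Fin (j + 1) → ℕ) (Fin.val : Fin (j + 1) → ℕ)) (Pn (j + 1))

/-- the polynomial giving `γ^i(λ^m x)` in the `λ`-variables -/
noncomputable def H3 (i m : ℕ) : U :=
  ∑ j ∈ range i, (Nat.choose (i - 1) j : U) *
    rename (fun k : Fin (m * (j + 1)) => (Sum.inl (k : ℕ) : ℕ ⊕ ℕ)) (Qij m (j + 1))

section Eval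

variable {K : Type u} [CommRing K] [LambdaOps K]

theorem θl_H2 (hsp : IsSpecial K) (x y : K) (i : ℕ) (hi : 1 ≤ i) :
    θl x y (H2 i) = gamma i (x * y) := by
  obtain ⟨a, rfl⟩ : ∃ a, i = a + 1 := ⟨i - 1, by omega⟩
  rw [gamma_succ_eq]
  unfold H2
  rw [map_sum, Nat.add_sub_cancel]
  refine Finset.sum_congr rfl fun j _ => ?_
  rw [map_mul, map_natCast, hsp.lam_mul (j + 1) (Pn (j + 1)) (Pn_spec (j + 1))]
  congr 1
  unfold θl
  rw [aeval_rename]
  congr 2
  funext p
  rcases p with k | k <;> rfl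

theorem θl_H3 (hsp : IsSpecial K) (x y : K) (i m : ℕ) (hi : 1 ≤ i) :
    θl x y (H3 i m) = gamma i (LambdaOps.lam m x) := by
  obtain ⟨a, rfl⟩ : ∃ a, i = a + 1 := ⟨i - 1, by omega⟩
  rw [gamma_succ_eq]
  unfold H3
  rw [map_sum, Nat.add_sub_cancel]
  refine Finset.sum_congr rfl fun j _ => ?_
  rw [map_mul, map_natCast, hsp.lam_lam m (j + 1) (Qij m (j + 1)) (Qij_spec m (j + 1))]
  congr 1
  unfold θl
  rw [aeval_rename]
  rfl

end Eval

attribute [local instance] shiftOps in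
theorem H2_mem (i N : ℕ) (hi : 1 ≤ i) :
    θl (xl N) (xr N) (H2 i) ∈ idealOfVars (Fin N ⊕ Fin N) ℤ ^ i := by
  rw [θl_H2 (isSpecial _) _ _ i hi]
  apply gamma_mem_pow
  rw [map_mul, constantCoeff_xl, zero_mul]

attribute [local instance] shiftOps in
theorem H3_mem (i m N : ℕ) (hi : 1 ≤ i) (hm : 1 ≤ m) :
    θl (xl N) (xr N) (H3 i m) ∈ idealOfVars (Fin N ⊕ Fin N) ℤ ^ i := by
  rw [θl_H3 (isSpecial _) _ _ i m hi]
  apply gamma_mem_pow
  exact constantCoeff_lam _ _ (constantCoeff_xl N) m hm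

/-- a multiplicative decreasing filtration by ideals, starting with the whole ring -/
structure IsMulFil {K : Type u} [CommRing K] (W : ℕ → Ideal K) : Prop where
  zero : W 0 = ⊤
  anti : ∀ a b : ℕ, a ≤ b → W b ≤ W a
  mul : ∀ (a b : ℕ) (x y : K), x ∈ W a → y ∈ W b → x * y ∈ W (a + b)

section Fil

variable {K : Type u} [CommRing K] {W : ℕ → Ideal K} (hW : IsMulFil W)

include hW

theorem IsMulFil.one_mem : (1 : K) ∈ W 0 := by
  rw [hW.zero]
  trivial

theorem IsMulFil.pow_mem {a : ℕ} {x : K} (hx : x ∈ W a) (e : ℕ) : x ^ e ∈ W (e * a) := by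
  induction e with
  | zero =>
    rw [pow_zero, Nat.zero_mul]
    exact hW.one_mem
  | succ e ih =>
    rw [pow_succ, Nat.succ_mul]
    exact hW.mul _ _ _ _ ih hx

theorem IsMulFil.prod_mem {ι : Type*} (s : Finset ι) (f : ι → K) (d : ι → ℕ)
    (h : ∀ i ∈ s, f i ∈ W (d i)) : ∏ i ∈ s, f i ∈ W (∑ i ∈ s, d i) := by
  classical
  induction s using Finset.induction_on with
  | empty =>
    rw [Finset.prod_empty, Finset.sum_empty]
    exact hW.one_mem
  | insert a s ha ih =>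
    rw [Finset.prod_insert ha, Finset.sum_insert ha]
    exact hW.mul _ _ _ _ (h a (Finset.mem_insert_self a s))
      (ih fun i hi => h i (Finset.mem_insert_of_mem hi))

variable [LambdaOps K]

theorem eval_mem (x y : K) (hx : ∀ a, gamma (a + 1) x ∈ W (a + 1))
    (hy : ∀ a, gamma (a + 1) y ∈ W (a + 1)) (i : ℕ) (G : U)
    (hG : ∀ m, coeff m G ≠ 0 → i ≤ Finsupp.weight wt m) : θg x y G ∈ W i := by
  unfold θg
  rw [aeval_def, eval₂_eq]
  refine Ideal.sum_mem _ fun m hm => ?_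
  refine Ideal.mul_mem_left _ _ ?_
  have h1 : i ≤ Finsupp.weight wt m := hG m (mem_support_iff.1 hm)
  refine hW.anti _ _ h1 ?_
  have h2 : Finsupp.weight wt m = ∑ p ∈ m.support, m p * wt p := by
    rw [Finsupp.weight_apply, Finsupp.sum]
    rfl
  rw [h2]
  refine hW.prod_mem _ _ _ fun p _ => ?_
  refine hW.pow_mem ?_ _
  rcases p with a | a
  · exact hx a
  · exact hy a

/-- `γ^i(xy) ∈ W i`. -/
theorem gamma_mul_mem (hsp : IsSpecial K) (x y : K) (hx : ∀ a, gamma a x ∈ W a)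
    (hy : ∀ a, gamma a y ∈ W a) (i : ℕ) : gamma i (x * y) ∈ W i := by
  rcases Nat.eq_zero_or_pos i with h0 | h0
  · subst h0
    rw [gamma_zero_left]
    exact hW.one_mem
  · obtain ⟨G, hG1, hG2⟩ := transfer (H2 i) i (fun N => H2_mem i N h0)
    rw [← θl_H2 hsp x y i h0, ← hG1, ← θg_apply]
    exact eval_mem hW x y (fun a => hx _) (fun a => hy _) i G hG2

/-- `γ^i(λ^m x) ∈ W i` for `m ≥ 1`. -/
theorem gamma_lam_mem (hsp : IsSpecial K) (x : K) (hx : ∀ a, gamma a x ∈ W a) (m : ℕ)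
    (hm : 1 ≤ m) (i : ℕ) : gamma i (LambdaOps.lam m x) ∈ W i := by
  rcases Nat.eq_zero_or_pos i with h0 | h0
  · subst h0
    rw [gamma_zero_left]
    exact hW.one_mem
  · obtain ⟨G, hG1, hG2⟩ := transfer (H3 i m) i (fun N => H3_mem i m N h0 hm)
    rw [← θl_H3 hsp x 0 i m h0, ← hG1, ← θg_apply]
    refine eval_mem hW x 0 (fun a => hx _) (fun a => ?_) i G hG2
    rw [gamma_zero_right _ (by omega)]
    exact zero_mem _

end Fil

end Groth.Agent.Lib.Helper44.GammaWeights
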