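import Groth.Prelude.Def_LambdaSp

/-!
# Newton-type recursion between the λ-operations and the Adams operations of a pre-λ-ring
-/

set_option autoImplicit false

universe u

namespace Groth.Agent.Lib.Helper44.LambdaAdams

open LambdaRing Finset

variable {K : Type u} [CommRing K] [LambdaOps K]

theorem coeff_lamSeries (x : K) (n : ℕ) :
    PowerSeries.coeff n (lamSeries x) = LambdaOps.lam n x := by
  unfold lamSeries
  rw [PowerSeries.coeff_mk]

theorem constantCoeff_lamSeries (x : K) : PowerSeries.constantCoeff (lamSeries x) = 1 := by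
  rw [← PowerSeries.coeff_zero_eq_constantCoeff_apply, coeff_lamSeries, LambdaOps.lam_zero]

/-- `D_x · λ_t(x) = d/dt λ_t(x)`. -/
theorem logDerivSeries_mul (x : K) :
    logDerivSeries x * lamSeries x = PowerSeries.derivative K (lamSeries x) := by
  unfold logDerivSeries
  rw [mul_assoc, PowerSeries.invOfUnit_mul _ _ (by rw [constantCoeff_lamSeries]; rfl), mul_one]

/-- The coefficients of the logarithmic derivative, `d_n(x) = (-1)^n ψ^{n+1}(x)`. -/
noncomputable def dcoef (n : ℕ) (x : K) : K := PowerSeries.coeff n (logDerivSeries x)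

theorem adamsOp_succ (k : ℕ) (x : K) : adamsOp (k + 1) x = (-1) ^ k * dcoef k x := rfl

theorem dcoef_eq (k : ℕ) (x : K) : dcoef k x = (-1) ^ k * adamsOp (k + 1) x := by
  rw [adamsOp_succ, ← mul_assoc, ← mul_pow]
  norm_num

/-- Newton recursion: `(n+1) λ^{n+1}(x) = Σ_{i<n} d_i(x) λ^{n-i}(x) + d_n(x)`. -/
theorem newton (n : ℕ) (x : K) :
    ((n : K) + 1) * LambdaOps.lam (n + 1) x =
      ∑ i ∈ range n, dcoef i x * LambdaOps.lam (n - i) x + dcoef n x := by
  have h := congrArg (PowerSeries.coeff n) (logDerivSeries_mul x)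
  rw [PowerSeries.coeff_derivative, PowerSeries.coeff_mul,
    Finset.Nat.sum_antidiagonal_eq_sum_range_succ_mk, Finset.sum_range_succ] at h
  simp only [coeff_lamSeries, Nat.sub_self, LambdaOps.lam_zero, mul_one] at h
  rw [mul_comm, ← h]
  rfl

end Groth.Agent.Lib.Helper44.LambdaAdams
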