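import Groth.Agent.Lib.Helper44.LambdaAdams

/-!
# Solving `L' = D · L` over a `ℚ`-algebra, and the pre-λ-structure attached to additive `ψ^k`
-/

set_option autoImplicit false

universe u

namespace Groth.Agent.Lib.Helper44.LambdaFromAdams

open Finset

variable {K : Type u} [CommRing K] [Algebra ℚ K]

theorem isUnit_natCast_succ (n : ℕ) : IsUnit ((n : K) + 1) := by
  have : IsUnit ((n : ℚ) + 1) := isUnit_iff_ne_zero.2 (Nat.cast_add_one_ne_zero n)
  have := this.map (algebraMap ℚ K)
  rwa [map_add, map_natCast, map_one] at this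

/-- Coefficients of the solution of `L' = D L`, `L(0) = 1`. -/
noncomputable def cf (d : ℕ → K) : ℕ → K
  | 0 => 1
  | (n + 1) => algebraMap ℚ K ((n + 1 : ℚ)⁻¹) * ∑ i : Fin (n + 1), d i * cf d (n - i)
termination_by n => n
decreasing_by omega

theorem cf_zero (d : ℕ → K) : cf d 0 = 1 := by
  rw [cf]

theorem cf_succ (d : ℕ → K) (n : ℕ) :
    ((n : K) + 1) * cf d (n + 1) = ∑ i ∈ range (n + 1), d i * cf d (n - i) := by
  rw [cf, ← mul_assoc]
  have h1 : ((n : K) + 1) * algebraMap ℚ K ((n + 1 : ℚ)⁻¹) = 1 := by
    have : ((n : K) + 1) = algebraMap ℚ K ((n : ℚ) + 1) := by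
      rw [map_add, map_natCast, map_one]
    rw [this, ← map_mul, mul_inv_cancel₀ (Nat.cast_add_one_ne_zero n), map_one]
  rw [h1, one_mul, Fin.sum_univ_eq_sum_range (fun i => d i * cf d (n - i)) (n + 1)]

/-- The solution series. -/
noncomputable def sol (d : ℕ → K) : PowerSeries K := PowerSeries.mk (cf d)

theorem constantCoeff_sol (d : ℕ → K) : PowerSeries.constantCoeff (sol d) = 1 := by
  rw [← PowerSeries.coeff_zero_eq_constantCoeff_apply, sol, PowerSeries.coeff_mk, cf_zero]

theorem derivative_sol (d : ℕ → K) :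
    PowerSeries.derivative K (sol d) = PowerSeries.mk d * sol d := by
  ext n
  rw [PowerSeries.coeff_derivative, PowerSeries.coeff_mul,
    Finset.Nat.sum_antidiagonal_eq_sum_range_succ_mk, sol, PowerSeries.coeff_mk, mul_comm, cf_succ]
  refine Finset.sum_congr rfl fun i _ => ?_
  rw [PowerSeries.coeff_mk, PowerSeries.coeff_mk]

/-- Uniqueness for `Y' = D Y` with prescribed constant coefficient. -/
theorem ode_unique (D M N : PowerSeries K) (hM : PowerSeries.derivative K M = D * M)
    (hN : PowerSeries.derivative K N = D * N)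
    (h0 : PowerSeries.constantCoeff M = PowerSeries.constantCoeff N) : M = N := by
  ext n
  induction n using Nat.strong_induction_on with
  | _ n ih =>
    rcases n with _ | n
    · rw [PowerSeries.coeff_zero_eq_constantCoeff_apply, PowerSeries.coeff_zero_eq_constantCoeff_apply, h0]
    · have h1 := congrArg (PowerSeries.coeff n) hM
      have h2 := congrArg (PowerSeries.coeff n) hN
      rw [PowerSeries.coeff_derivative, PowerSeries.coeff_mul] at h1 h2
      have h3 : ∑ p ∈ antidiagonal n, PowerSeries.coeff p.1 D * PowerSeries.coeff p.2 M =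
          ∑ p ∈ antidiagonal n, PowerSeries.coeff p.1 D * PowerSeries.coeff p.2 N := by
        refine Finset.sum_congr rfl fun p hp => ?_
        rw [ih p.2 (by have := Finset.mem_antidiagonal.1 hp; omega)]
      rw [h3, ← h2] at h1
      exact (isUnit_natCast_succ n).mul_right_cancel h1

end Groth.Agent.Lib.Helper44.LambdaFromAdams
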