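import Groth.Agent.Lib.Helper44.LambdaSpecialCore
import Mathlib.Algebra.MvPolynomial.Expand
import Mathlib.RingTheory.MvPolynomial.Basic

/-!
# The monomial λ-structure on `ℤ[T_σ]`

The polynomial ring `MvPolynomial σ ℤ` carries a λ-structure in which every monomial is a line
element: `λ_t(Σ c_m m) = ∏ (1 + m t)^{c_m}`.  Its Adams operations are `ψ^k = expand k`, so it is a
λ-ring in the strict sense (`isSpecial`).  Also: transport of λ-structures along ring isomorphisms.
-/

set_option autoImplicit false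

universe u

namespace Groth.Agent.Lib.Helper44.LambdaMono

open LambdaRing Finset Groth.Agent.Lib.Helper44.NewtonSeq
  Groth.Agent.Lib.Helper44.LambdaNewton Groth.Agent.Lib.Helper44.LambdaAdams

section PS

variable {R : Type*} [CommRing R]

theorem coeff_one_mul (a b : PowerSeries R) (ha : PowerSeries.constantCoeff a = 1)
    (hb : PowerSeries.constantCoeff b = 1) :
    PowerSeries.coeff 1 (a * b) = PowerSeries.coeff 1 a + PowerSeries.coeff 1 b := by
  rw [PowerSeries.coeff_mul, Finset.Nat.sum_antidiagonal_eq_sum_range_succ_mk,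
    Finset.sum_range_succ, Finset.sum_range_one]
  simp only [PowerSeries.coeff_zero_eq_constantCoeff_apply, ha, hb, Nat.sub_zero, Nat.sub_self,
    one_mul, mul_one]
  exact add_comm _ _

theorem unit_props (u : (PowerSeries R)ˣ) (hu : PowerSeries.constantCoeff u.val = 1) :
    PowerSeries.constantCoeff (u⁻¹).val = 1 ∧
      PowerSeries.coeff 1 (u⁻¹).val = -PowerSeries.coeff 1 u.val := by
  have h1 : u.val * (u⁻¹).val = 1 := Units.mul_inv u
  have h2 := congrArg PowerSeries.constantCoeff h1
  rw [map_mul, hu, one_mul, map_one] at h2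
  refine ⟨h2, ?_⟩
  have h3 := congrArg (PowerSeries.coeff 1) h1
  rw [coeff_one_mul _ _ hu h2, PowerSeries.coeff_one, if_neg one_ne_zero] at h3
  exact eq_neg_of_add_eq_zero_right h3

theorem zpow_props (u : (PowerSeries R)ˣ) (hu : PowerSeries.constantCoeff u.val = 1) (c : ℤ) :
    PowerSeries.constantCoeff (u ^ c).val = 1 ∧
      PowerSeries.coeff 1 (u ^ c).val = c • PowerSeries.coeff 1 u.val := by
  induction c using Int.induction_on with
  | zero => simp
  | succ i ih =>
    rw [zpow_add_one, Units.val_mul, map_mul, ih.1, hu, coeff_one_mul _ _ ih.1 hu, ih.2]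
    refine ⟨one_mul _, ?_⟩
    rw [add_smul, one_smul]
  | pred i ih =>
    obtain ⟨hi1, hi2⟩ := unit_props u hu
    rw [zpow_sub_one, Units.val_mul, map_mul, ih.1, hi1, coeff_one_mul _ _ ih.1 hi1, ih.2, hi2]
    refine ⟨one_mul _, ?_⟩
    rw [sub_smul, one_smul, sub_eq_add_neg]

end PS

section Mono

variable (σ : Type*)

/-- The unit `1 + m t`. -/
noncomputable def unitOf (m : σ →₀ ℕ) : (PowerSeries (MvPolynomial σ ℤ))ˣ :=
  (PowerSeries.isUnit_iff_constantCoeff.2 (show IsUnit (PowerSeries.constantCoeff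
    (1 + PowerSeries.C (MvPolynomial.monomial m (1 : ℤ)) * PowerSeries.X)) by simp)).unit

theorem unitOf_val (m : σ →₀ ℕ) : (unitOf σ m).val =
    1 + PowerSeries.C (MvPolynomial.monomial m (1 : ℤ)) * PowerSeries.X :=
  IsUnit.unit_spec _

/-- `f ↦ λ_t(f)`, as a linear map into the (additively written) group of units. -/
noncomputable def Lhom : MvPolynomial σ ℤ →ₗ[ℤ] Additive (PowerSeries (MvPolynomial σ ℤ))ˣ :=
  (MvPolynomial.basisMonomials σ ℤ).constr ℤ (fun m => Additive.ofMul (unitOf σ m))

/-- `λ_t(f)` as a unit. -/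
noncomputable def Lunit (f : MvPolynomial σ ℤ) : (PowerSeries (MvPolynomial σ ℤ))ˣ :=
  Additive.toMul (Lhom σ f)

/-- `λ_t(f)` as a power series. -/
noncomputable def Lser (f : MvPolynomial σ ℤ) : PowerSeries (MvPolynomial σ ℤ) := (Lunit σ f).val

theorem Lunit_add (f g : MvPolynomial σ ℤ) : Lunit σ (f + g) = Lunit σ f * Lunit σ g := by
  unfold Lunit
  rw [map_add, toMul_add]

theorem Lunit_zsmul (c : ℤ) (f : MvPolynomial σ ℤ) : Lunit σ (c • f) = Lunit σ f ^ c := by
  unfold Lunit
  rw [map_zsmul, toMul_zsmul]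

theorem Lunit_monomial_one (m : σ →₀ ℕ) : Lunit σ (MvPolynomial.monomial m (1 : ℤ)) = unitOf σ m := by
  unfold Lunit Lhom
  have h : MvPolynomial.monomial m (1 : ℤ) = MvPolynomial.basisMonomials σ ℤ m := by
    rw [MvPolynomial.coe_basisMonomials]
  rw [h, Module.Basis.constr_basis]
  rfl

theorem Lser_add (f g : MvPolynomial σ ℤ) : Lser σ (f + g) = Lser σ f * Lser σ g := by
  unfold Lser
  rw [Lunit_add, Units.val_mul]

theorem Lser_monomial_one (m : σ →₀ ℕ) : Lser σ (MvPolynomial.monomial m (1 : ℤ)) =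
    1 + PowerSeries.C (MvPolynomial.monomial m (1 : ℤ)) * PowerSeries.X := by
  unfold Lser
  rw [Lunit_monomial_one, unitOf_val]

theorem Lser_props (f : MvPolynomial σ ℤ) :
    PowerSeries.constantCoeff (Lser σ f) = 1 ∧ PowerSeries.coeff 1 (Lser σ f) = f := by
  induction f using MvPolynomial.induction_on' with
  | monomial m c =>
    have h1 : MvPolynomial.monomial m c = c • MvPolynomial.monomial m (1 : ℤ) := by
      rw [MvPolynomial.smul_monomial, smul_eq_mul, mul_one]
    have h2 : PowerSeries.constantCoeff (unitOf σ m).val = 1 := by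
      rw [unitOf_val]
      simp
    have h3 := zpow_props (unitOf σ m) h2 c
    unfold Lser
    rw [h1, Lunit_zsmul, Lunit_monomial_one]
    refine ⟨h3.1, ?_⟩
    rw [h3.2, unitOf_val]
    simp
  | add p q hp hq =>
    rw [Lser_add, map_mul, hp.1, hq.1, coeff_one_mul _ _ hp.1 hq.1, hp.2, hq.2]
    exact ⟨one_mul _, rfl⟩

/-- The monomial λ-structure on `ℤ[T_σ]`. -/
@[reducible] noncomputable def monoOps : LambdaOps (MvPolynomial σ ℤ) where
  lam n f := PowerSeries.coeff n (Lser σ f)
  lam_zero f := by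
    rw [PowerSeries.coeff_zero_eq_constantCoeff_apply]
    exact (Lser_props σ f).1
  lam_one f := (Lser_props σ f).2
  lam_add k f g := by
    rw [Lser_add, PowerSeries.coeff_mul, Finset.Nat.sum_antidiagonal_eq_sum_range_succ_mk]

end Mono

section Line

variable {K : Type u} [CommRing K] [LambdaOps K]

omit [LambdaOps K] in
theorem singleton_esymm (x : K) (n : ℕ) :
    ({x} : Multiset K).esymm n = if n = 0 then 1 else if n = 1 then x else 0 := by
  rcases n with _ | _ | n
  · simp [multiset_esymm_zero]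
  · simp [Multiset.esymm, Multiset.powersetCard_one]
  · rw [if_neg (by omega), if_neg (by omega)]
    unfold Multiset.esymm
    rw [Multiset.powersetCard_eq_empty (n + 2) (by rw [Multiset.card_singleton]; omega)]
    rfl

/-- The Adams operations of a line element. -/
theorem adamsOp_of_line (x : K) (hx : ∀ n : ℕ, 2 ≤ n → LambdaOps.lam n x = 0) (k : ℕ) (hk : 1 ≤ k) :
    adamsOp k x = x ^ k := by
  obtain ⟨m, rfl⟩ : ∃ m, k = m + 1 := ⟨k - 1, by omega⟩
  have h1 := rel_lam_adams (m + 1) x
  have h2 : Rel (m + 1) (fun i => LambdaOps.lam i x) (fun k => x ^ k) :=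
    (rel_esymm_psum ({x} : Multiset K) (m + 1)).congr (fun i hi1 _ => by
      show ({x} : Multiset K).esymm i = LambdaOps.lam i x
      rw [singleton_esymm, if_neg (by omega)]
      split_ifs with h
      · rw [h, LambdaOps.lam_one]
      · rw [hx i (by omega)]) (fun k _ _ => by simp)
  exact (h1.eq_newtonB m (Nat.lt_succ_self m)).trans (h2.eq_newtonB m (Nat.lt_succ_self m)).symm

end Line

section MonoAdams

variable (σ : Type*)

attribute [local instance] monoOps

theorem lamSeries_eq (f : MvPolynomial σ ℤ) : lamSeries f = Lser σ f := by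
  refine PowerSeries.ext fun n => ?_
  rw [coeff_lamSeries]
  rfl

theorem lam_monomial_one (m : σ →₀ ℕ) (n : ℕ) (hn : 2 ≤ n) :
    LambdaOps.lam n (MvPolynomial.monomial m (1 : ℤ)) = 0 := by
  show PowerSeries.coeff n (Lser σ (MvPolynomial.monomial m (1 : ℤ))) = 0
  rw [Lser_monomial_one, map_add, PowerSeries.coeff_one, if_neg (by omega)]
  obtain ⟨j, rfl⟩ : ∃ j, n = j + 1 := ⟨n - 1, by omega⟩
  rw [PowerSeries.coeff_succ_mul_X, PowerSeries.coeff_C, if_neg (by omega), add_zero]

theorem expand_monomial_one (k : ℕ) (m : σ →₀ ℕ) :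
    MvPolynomial.expand k (MvPolynomial.monomial m (1 : ℤ)) = MvPolynomial.monomial m (1 : ℤ) ^ k := by
  rw [MvPolynomial.monomial_eq, map_mul, MvPolynomial.expand_C, map_one, one_mul, one_mul,
    Finsupp.prod, map_prod, ← Finset.prod_pow]
  refine Finset.prod_congr rfl fun i _ => ?_
  rw [map_pow, MvPolynomial.expand_X, ← pow_mul, ← pow_mul, mul_comm]

/-- The Adams operations of the monomial λ-structure are the `expand` maps. -/
theorem adamsOp_eq_expand (k : ℕ) (hk : 1 ≤ k) (f : MvPolynomial σ ℤ) :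
    adamsOp k f = MvPolynomial.expand k f := by
  induction f using MvPolynomial.induction_on' with
  | monomial m c =>
    have h1 : MvPolynomial.monomial m c = c • MvPolynomial.monomial m (1 : ℤ) := by
      rw [MvPolynomial.smul_monomial, smul_eq_mul, mul_one]
    have h2 := map_zsmul (adamsAddHom (K := MvPolynomial σ ℤ) k) c (MvPolynomial.monomial m (1 : ℤ))
    have h3 : adamsOp k (c • MvPolynomial.monomial m (1 : ℤ)) =
        c • adamsOp k (MvPolynomial.monomial m (1 : ℤ)) := h2
    rw [h1, h3, adamsOp_of_line _ (lam_monomial_one σ m) k hk, map_zsmul, expand_monomial_one]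
  | add p q hp hq =>
    rw [adamsOp_add, hp, hq, map_add]

/-- `ℤ[T_σ]` with the monomial λ-structure is a λ-ring in the strict sense. -/
theorem isSpecial : IsSpecial (MvPolynomial σ ℤ) := by
  refine Groth.Agent.Lib.Helper44.LambdaSpecial.isSpecial_of_adams _ ?_ ?_ ?_ ?_
  · intro m x hx
    rcases mul_eq_zero.1 hx with h | h
    · exact absurd h (Nat.cast_add_one_ne_zero m)
    · exact h
  · intro k hk
    rw [adamsOp_eq_expand σ k hk, map_one]
  · intro k hk x y
    rw [adamsOp_eq_expand σ k hk, adamsOp_eq_expand σ k hk, adamsOp_eq_expand σ k hk, map_mul]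
  · intro k k' hk hk' x
    rw [adamsOp_eq_expand σ k' hk', adamsOp_eq_expand σ k hk,
      adamsOp_eq_expand σ (k * k') (Nat.mul_pos hk hk'), MvPolynomial.expand_mul]

end MonoAdams

end Groth.Agent.Lib.Helper44.LambdaMono
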