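import Mathlib.RingTheory.MvPolynomial.Symmetric.NewtonIdentities
import Groth.Agent.Lib.Helper44.SymmPoly
import Mathlib.Tactic.LinearCombination
import Mathlib.Tactic.Ring

/-!
# Abstract Newton relations between two sequences in a commutative ring

`Rel n a b` says that `a 1, …, a n` ("elementary symmetric") and `b 1, …, b n` ("power sums") satisfy
Newton's identities.  `b` is determined by `a` (`newtonB`), `a` is determined by `b` when the
positive integers are non-zero-divisors, ring homomorphisms preserve the relation, and the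
elementary symmetric functions / power sums of any multiset satisfy it.
-/

set_option autoImplicit false

namespace Groth.Agent.Lib.Helper44.NewtonSeq

open Finset

variable {R : Type*} [CommRing R]

/-- Truncated Newton relation; the value `a 0` is never used (it plays the role of `1`). -/
def Rel (n : ℕ) (a b : ℕ → R) : Prop :=
  ∀ m, m < n → ((m : R) + 1) * a (m + 1) =
    ∑ i ∈ range m, (-1) ^ i * b (i + 1) * a (m - i) + (-1) ^ m * b (m + 1)

/-- The `b`-sequence determined by `a`. -/
noncomputable def newtonB (a : ℕ → R) : ℕ → R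
  | 0 => 0
  | (m + 1) => (-1) ^ m * (((m : R) + 1) * a (m + 1) -
      ∑ i : Fin m, (-1) ^ (i : ℕ) * newtonB a ((i : ℕ) + 1) * a (m - i))
termination_by m => m
decreasing_by
  have := i.isLt
  omega

theorem newtonB_zero (a : ℕ → R) : newtonB a 0 = 0 := by
  rw [newtonB]

theorem newtonB_succ (a : ℕ → R) (m : ℕ) : newtonB a (m + 1) =
    (-1) ^ m * (((m : R) + 1) * a (m + 1) -
      ∑ i ∈ range m, (-1) ^ i * newtonB a (i + 1) * a (m - i)) := by
  rw [newtonB, Finset.sum_range]

theorem neg_one_pow_mul_self (m : ℕ) : (-1 : R) ^ m * (-1) ^ m = 1 := by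
  rw [← mul_pow]
  norm_num

theorem rel_newtonB (n : ℕ) (a : ℕ → R) : Rel n a (newtonB a) := by
  intro m _
  rw [newtonB_succ a m, ← mul_assoc, neg_one_pow_mul_self, one_mul]
  ring

theorem Rel.mono {n n' : ℕ} {a b : ℕ → R} (h : Rel n a b) (hn : n' ≤ n) : Rel n' a b :=
  fun m hm => h m (lt_of_lt_of_le hm hn)

theorem Rel.eq_newtonB {n : ℕ} {a b : ℕ → R} (h : Rel n a b) :
    ∀ m, m < n → b (m + 1) = newtonB a (m + 1) := by
  intro m
  induction m using Nat.strong_induction_on with
  | _ m ih =>
    intro hm
    have h1 := h m hm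
    have h2 : ∑ i ∈ range m, (-1) ^ i * newtonB a (i + 1) * a (m - i) =
        ∑ i ∈ range m, (-1) ^ i * b (i + 1) * a (m - i) := by
      refine Finset.sum_congr rfl fun i hi => ?_
      rw [ih i (Finset.mem_range.1 hi) (lt_trans (Finset.mem_range.1 hi) hm)]
    rw [newtonB_succ, h2, h1, add_sub_cancel_left, ← mul_assoc, neg_one_pow_mul_self, one_mul]

theorem map_newtonB {S : Type*} [CommRing S] (f : R →+* S) (a : ℕ → R) :
    ∀ m, f (newtonB a m) = newtonB (fun i => f (a i)) m := by
  intro m
  induction m using Nat.strong_induction_on with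
  | _ m ih =>
    cases m with
    | zero => rw [newtonB_zero, newtonB_zero, map_zero]
    | succ m =>
      rw [newtonB_succ, newtonB_succ, map_mul, map_pow, map_neg, map_one, map_sub, map_mul,
        map_add, map_natCast, map_one, map_sum]
      congr 2
      refine Finset.sum_congr rfl fun i hi => ?_
      have hi' := Finset.mem_range.1 hi
      rw [map_mul, map_mul, map_pow, map_neg, map_one, ih (i + 1) (by omega)]

theorem newtonB_congr {a a' : ℕ → R} :
    ∀ m, (∀ i, 1 ≤ i → i ≤ m → a i = a' i) → newtonB a m = newtonB a' m := by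
  intro m
  induction m using Nat.strong_induction_on with
  | _ m ih =>
    intro h
    cases m with
    | zero => rw [newtonB_zero, newtonB_zero]
    | succ m =>
      rw [newtonB_succ, newtonB_succ, h (m + 1) (by omega) le_rfl]
      congr 2
      refine Finset.sum_congr rfl fun i hi => ?_
      have hi' := Finset.mem_range.1 hi
      rw [ih (i + 1) (by omega) (fun j hj1 hj2 => h j hj1 (by omega)),
        h (m - i) (by omega) (by omega)]

theorem Rel.congr {n : ℕ} {a a' b b' : ℕ → R} (h : Rel n a b)
    (ha : ∀ i, 1 ≤ i → i ≤ n → a i = a' i) (hb : ∀ i, 1 ≤ i → i ≤ n → b i = b' i) :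
    Rel n a' b' := by
  intro m hm
  have h1 := h m hm
  rw [← ha (m + 1) (by omega) (by omega), ← hb (m + 1) (by omega) (by omega), h1]
  congr 1
  refine Finset.sum_congr rfl fun i hi => ?_
  have hi' := Finset.mem_range.1 hi
  rw [ha (m - i) (by omega) (by omega), hb (i + 1) (by omega) (by omega)]

theorem Rel.map {S : Type*} [CommRing S] (f : R →+* S) {n : ℕ} {a b : ℕ → R} (h : Rel n a b) :
    Rel n (fun i => f (a i)) (fun i => f (b i)) := by
  intro m hm
  have h1 := congrArg f (h m hm)
  rw [map_mul, map_add, map_natCast, map_one, map_add, map_sum, map_mul, map_pow, map_neg,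
    map_one] at h1
  rw [h1]
  congr 1
  refine Finset.sum_congr rfl fun i _ => ?_
  rw [map_mul, map_mul, map_pow, map_neg, map_one]

theorem Rel.of_map_injective {S : Type*} [CommRing S] (f : R →+* S) (hf : Function.Injective f)
    {n : ℕ} {a b : ℕ → R} (h : Rel n (fun i => f (a i)) (fun i => f (b i))) : Rel n a b := by
  intro m hm
  apply hf
  have h1 := h m hm
  rw [map_mul, map_add, map_natCast, map_one, map_add, map_sum, map_mul, map_pow, map_neg,
    map_one, h1]
  congr 1
  refine Finset.sum_congr rfl fun i _ => ?_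
  rw [map_mul, map_mul, map_pow, map_neg, map_one]

/-- `a` is determined by `b` when the positive integers are non-zero-divisors. -/
theorem Rel.unique_a {n : ℕ} {a a' b : ℕ → R} (h : Rel n a b) (h' : Rel n a' b)
    (htf : ∀ m, m < n → ∀ x : R, ((m : R) + 1) * x = 0 → x = 0) :
    ∀ m, 1 ≤ m → m ≤ n → a m = a' m := by
  intro m
  induction m using Nat.strong_induction_on with
  | _ m ih =>
    intro hm1 hmn
    obtain ⟨k, rfl⟩ : ∃ k, m = k + 1 := ⟨m - 1, by omega⟩
    have h1 := h k (by omega)
    have h2 := h' k (by omega)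
    have h3 : ∑ i ∈ range k, (-1) ^ i * b (i + 1) * a (k - i) =
        ∑ i ∈ range k, (-1) ^ i * b (i + 1) * a' (k - i) := by
      refine Finset.sum_congr rfl fun i hi => ?_
      have hi' := Finset.mem_range.1 hi
      rw [ih (k - i) (by omega) (by omega) (by omega)]
    rw [h3, ← h2] at h1
    have h4 : ((k : R) + 1) * (a (k + 1) - a' (k + 1)) = 0 := by
      rw [mul_sub, h1, sub_self]
    exact sub_eq_zero.1 (htf k (by omega) _ h4)

theorem neg_one_pow_sub {m i : ℕ} (h : i ≤ m) : (-1 : R) ^ (m - i) = (-1) ^ m * (-1) ^ i := by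
  have h1 : (-1 : R) ^ (m - i) * (-1) ^ i = (-1) ^ m := by
    rw [← pow_add, Nat.sub_add_cancel h]
  rw [← h1, mul_assoc, neg_one_pow_mul_self, mul_one]

theorem multiset_esymm_zero (s : Multiset R) : s.esymm 0 = 1 := by
  simp [Multiset.esymm, Multiset.powersetCard_zero_left]

/-- Newton's identities for the elementary symmetric functions and power sums of a multiset. -/
theorem rel_esymm_psum (s : Multiset R) (n : ℕ) :
    Rel n (fun i => s.esymm i) (fun k => (s.map (· ^ k)).sum) := by
  classical
  induction s using Quotient.inductionOn with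
  | _ l =>
    intro m _
    let f : Fin l.length → R := l.get
    have hs : (Finset.univ : Finset (Fin l.length)).val.map f = (l : Multiset R) := by
      rw [Fin.univ_val_map, List.ofFn_get]
    have he : ∀ k, MvPolynomial.aeval f (MvPolynomial.esymm (Fin l.length) ℤ k) =
        (l : Multiset R).esymm k := by
      intro k
      rw [MvPolynomial.aeval_esymm_eq_multiset_esymm, hs]
    have hp : ∀ k, MvPolynomial.aeval f (MvPolynomial.psum (Fin l.length) ℤ k) =
        ((l : Multiset R).map (· ^ k)).sum := by
      intro k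
      rw [← hs, Multiset.map_map]
      simp only [MvPolynomial.psum, map_sum, map_pow, MvPolynomial.aeval_X]
      rfl
    have h := congrArg (MvPolynomial.aeval f) (MvPolynomial.mul_esymm_eq_sum (Fin l.length) ℤ (m + 1))
    rw [Finset.sum_filter, Finset.Nat.sum_antidiagonal_eq_sum_range_succ_mk,
      Finset.sum_range_succ, if_neg (lt_irrefl _), add_zero] at h
    rw [map_mul, map_natCast, he, map_mul, map_pow, map_neg, map_one, map_sum] at h
    have h2 : ∀ i ∈ range (m + 1), MvPolynomial.aeval f
        (if i < m + 1 then (-1) ^ i * MvPolynomial.esymm (Fin l.length) ℤ i *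
          MvPolynomial.psum (Fin l.length) ℤ (m + 1 - i) else 0) =
        (-1) ^ i * (l : Multiset R).esymm i * ((l : Multiset R).map (· ^ (m + 1 - i))).sum := by
      intro i hi
      rw [if_pos (Finset.mem_range.1 hi), map_mul, map_mul, map_pow, map_neg, map_one, he, hp]
    rw [Finset.sum_congr rfl h2, ← Finset.sum_range_reflect, Finset.mul_sum] at h
    simp only [Nat.add_sub_cancel] at h
    show ((m : R) + 1) * (l : Multiset R).esymm (m + 1) =
      ∑ i ∈ range m, (-1) ^ i * ((l : Multiset R).map (· ^ (i + 1))).sum *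
        (l : Multiset R).esymm (m - i) + (-1) ^ m * ((l : Multiset R).map (· ^ (m + 1))).sum
    have h3 : ((m + 1 : ℕ) : R) = (m : R) + 1 := by push_cast; ring
    rw [← h3, h, Finset.sum_range_succ]
    congr 1
    · refine Finset.sum_congr rfl fun i hi => ?_
      have hi' := Finset.mem_range.1 hi
      have h4 : m + 1 - (m - i) = i + 1 := by omega
      rw [h4, neg_one_pow_sub (le_of_lt hi'), pow_succ, pow_succ]
      have h5 := neg_one_pow_mul_self (R := R) m
      linear_combination ((-1 : R) ^ i * (l : Multiset R).esymm (m - i) *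
        ((l : Multiset R).map (· ^ (i + 1))).sum) * h5
    · have h4 : m + 1 - (m - m) = m + 1 := by omega
      rw [h4, Nat.sub_self, multiset_esymm_zero, pow_zero, pow_succ, pow_succ]
      ring

end Groth.Agent.Lib.Helper44.NewtonSeq
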