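import Groth.Agent.Lib.Helper44.LambdaAdams
import Groth.Agent.Lib.Helper44.NewtonSeq

/-!
# λ-operations and Adams operations of a pre-λ-ring satisfy the abstract Newton relation;
# additivity of the Adams operations
-/

set_option autoImplicit false

universe u

namespace Groth.Agent.Lib.Helper44.LambdaNewton

open LambdaRing Finset Groth.Agent.Lib.Helper44.NewtonSeq Groth.Agent.Lib.Helper44.LambdaAdams

variable {K : Type u} [CommRing K] [LambdaOps K]

theorem rel_lam_adams (n : ℕ) (x : K) :
    Rel n (fun i => LambdaOps.lam i x) (fun k => adamsOp k x) := by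
  intro m _
  show ((m : K) + 1) * LambdaOps.lam (m + 1) x =
    ∑ i ∈ range m, (-1) ^ i * adamsOp (i + 1) x * LambdaOps.lam (m - i) x +
      (-1) ^ m * adamsOp (m + 1) x
  rw [newton m x, dcoef_eq]
  congr 1
  refine Finset.sum_congr rfl fun i _ => ?_
  rw [dcoef_eq]

theorem adamsOp_eq_newtonB (k : ℕ) (x : K) :
    adamsOp (k + 1) x = newtonB (fun i => LambdaOps.lam i x) (k + 1) :=
  (rel_lam_adams (k + 1) x).eq_newtonB k (Nat.lt_succ_self k)

theorem lamSeries_add (x y : K) : lamSeries (x + y) = lamSeries x * lamSeries y := by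
  ext n
  rw [coeff_lamSeries, PowerSeries.coeff_mul, Finset.Nat.sum_antidiagonal_eq_sum_range_succ_mk,
    LambdaOps.lam_add]
  simp only [coeff_lamSeries]

theorem lamSeries_mul_invOfUnit (x : K) : lamSeries x * (lamSeries x).invOfUnit 1 = 1 :=
  PowerSeries.mul_invOfUnit _ _ (by rw [constantCoeff_lamSeries]; rfl)

theorem logDerivSeries_add (x y : K) :
    logDerivSeries (x + y) = logDerivSeries x + logDerivSeries y := by
  have h1 : logDerivSeries (x + y) * lamSeries (x + y) =
      (logDerivSeries x + logDerivSeries y) * lamSeries (x + y) := by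
    rw [logDerivSeries_mul, lamSeries_add, Derivation.leibniz, ← logDerivSeries_mul x,
      ← logDerivSeries_mul y, smul_eq_mul, smul_eq_mul]
    ring
  have h2 := congrArg (· * (lamSeries (x + y)).invOfUnit 1) h1
  simp only [mul_assoc, lamSeries_mul_invOfUnit, mul_one] at h2
  exact h2

theorem adamsOp_add (k : ℕ) (x y : K) : adamsOp k (x + y) = adamsOp k x + adamsOp k y := by
  cases k with
  | zero => show (0 : K) = 0 + 0; rw [add_zero]
  | succ k =>
    rw [adamsOp_succ, adamsOp_succ, adamsOp_succ, ← mul_add]
    congr 1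
    unfold dcoef
    rw [logDerivSeries_add, map_add]

theorem adamsOp_zero_right (k : ℕ) : adamsOp k (0 : K) = 0 := by
  have h := adamsOp_add k (0 : K) 0
  rw [add_zero] at h
  exact left_eq_add.1 h

/-- The Adams operation as an additive map. -/
noncomputable def adamsAddHom (k : ℕ) : K →+ K where
  toFun := adamsOp k
  map_zero' := adamsOp_zero_right k
  map_add' := adamsOp_add k

/-- The Adams operation as a ring homomorphism, when it is unital and multiplicative. -/
noncomputable def adamsRingHom (k : ℕ) (h1 : adamsOp k (1 : K) = 1)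
    (hmul : ∀ x y : K, adamsOp k (x * y) = adamsOp k x * adamsOp k y) : K →+* K where
  toFun := adamsOp k
  map_one' := h1
  map_mul' := hmul
  map_zero' := adamsOp_zero_right k
  map_add' := adamsOp_add k

theorem adamsRingHom_apply (k : ℕ) (h1 : adamsOp k (1 : K) = 1)
    (hmul : ∀ x y : K, adamsOp k (x * y) = adamsOp k x * adamsOp k y) (x : K) :
    adamsRingHom k h1 hmul x = adamsOp k x := rfl

theorem adamsOp_one_left (x : K) : adamsOp 1 x = x := by
  rw [adamsOp_eq_newtonB, newtonB_succ]
  simp [LambdaOps.lam_one]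

end Groth.Agent.Lib.Helper44.LambdaNewton
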