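import Groth.Agent.Lib.Helper44.LambdaMono
import Groth.Agent.S8651
import Groth.Agent.Lib.Helper17.LambdaGammaSeries
import Mathlib.RingTheory.MvPolynomial.Ideal

/-!
# The shifted λ-structure on `ℤ[X_σ]` (the `1 + X_a` are line elements) and the γ-operations

* transport of λ-structures along ring isomorphisms;
* `gammaOps`: the γ-operations form a pre-λ-structure;
* `shiftOps σ`: the λ-structure on `ℤ[X_σ]` in which the `1 + X_a` are line elements; it is special;
* `gamma_mem_pow`: in that ring, `γ^i` maps the ideal `I = (X_a)` into `I^i`.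
-/

set_option autoImplicit false

universe u

namespace Groth.Agent.Lib.Helper44.LambdaShift

open LambdaRing Finset Groth.Agent.Lib.Helper44.NewtonSeq
  Groth.Agent.Lib.Helper44.LambdaNewton Groth.Agent.Lib.Helper44.LambdaAdams
  Groth.Agent.Lib.Helper44.LambdaMono

section Transport

variable {K K' : Type u} [CommRing K] [CommRing K'] [LambdaOps K]

/-- Transport of a λ-structure along a ring isomorphism. -/
@[reducible] def transportOps (e : K ≃+* K') : LambdaOps K' where
  lam n x := e (LambdaOps.lam n (e.symm x))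
  lam_zero x := by rw [LambdaOps.lam_zero, map_one]
  lam_one x := by rw [LambdaOps.lam_one, e.apply_symm_apply]
  lam_add k x y := by
    rw [map_add, LambdaOps.lam_add, map_sum]
    simp only [map_mul]

theorem transport_lam (e : K ≃+* K') (n : ℕ) (x : K) :
    letI := transportOps e
    LambdaOps.lam n (e x) = e (LambdaOps.lam n x) := by
  show e (LambdaOps.lam n (e.symm (e x))) = _
  rw [e.symm_apply_apply]

theorem transport_adamsOp (e : K ≃+* K') (k : ℕ) (x : K') :
    letI := transportOps e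
    adamsOp k x = e (adamsOp k (e.symm x)) := by
  let _ := transportOps e
  rcases k with _ | k
  · show (0 : K') = e 0
    rw [map_zero]
  · rw [adamsOp_eq_newtonB, adamsOp_eq_newtonB]
    exact (map_newtonB (e : K →+* K') _ _).symm

theorem transport_isSpecial (e : K ≃+* K') (h : IsSpecial K) :
    letI := transportOps e
    IsSpecial K' := by
  let _ := transportOps e
  refine ⟨?_, ?_, ?_⟩
  · intro n hn
    show e (LambdaOps.lam n (e.symm 1)) = 0
    rw [map_one, h.lam_one_eq_zero n hn, map_zero]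
  · intro n P hP x y
    show e (LambdaOps.lam n (e.symm (x * y))) = _
    rw [map_mul, h.lam_mul n P hP]
    have h1 := AlgHom.congr_fun (MvPolynomial.comp_aeval (R := ℤ)
      (f := Sum.elim (fun k : Fin n => LambdaOps.lam ((k : ℕ) + 1) (e.symm x))
        (fun k : Fin n => LambdaOps.lam ((k : ℕ) + 1) (e.symm y)))
      ((e : K →+* K').toIntAlgHom)) P
    rw [AlgHom.comp_apply] at h1
    refine h1.trans ?_
    congr 2
    funext z
    rcases z with z | z <;> rfl
  · intro i j Q hQ x
    show e (LambdaOps.lam j (e.symm (e (LambdaOps.lam i (e.symm x))))) = _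
    rw [e.symm_apply_apply, h.lam_lam i j Q hQ]
    have h1 := AlgHom.congr_fun (MvPolynomial.comp_aeval (R := ℤ)
      (f := fun k : Fin (i * j) => LambdaOps.lam ((k : ℕ) + 1) (e.symm x))
      ((e : K →+* K').toIntAlgHom)) Q
    rw [AlgHom.comp_apply] at h1
    exact h1

end Transport

section Gamma

variable {K : Type u} [CommRing K] [LambdaOps K]

theorem gamma_zero_left (x : K) : gamma 0 x = 1 := by
  unfold gamma
  rw [if_pos rfl]

theorem gamma_one_left (x : K) : gamma 1 x = x := by
  unfold gamma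
  rw [if_neg one_ne_zero]
  simp [Finset.sum_range_succ, LambdaOps.lam_one]

/-- The γ-operations form a pre-λ-structure. -/
@[reducible] def gammaOps (K : Type u) [CommRing K] [LambdaOps K] : LambdaOps K where
  lam := gamma
  lam_zero := gamma_zero_left
  lam_one := gamma_one_left
  lam_add := Groth.Agent.Lib.Helper17.Lam.gamma_add

/-- The Adams operations of the γ-structure. -/
noncomputable def adamsG (k : ℕ) (x : K) : K := @adamsOp K _ (gammaOps K) k x

theorem adamsG_add (k : ℕ) (x y : K) : adamsG k (x + y) = adamsG k x + adamsG k y :=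
  @adamsOp_add K _ (gammaOps K) k x y

theorem adamsG_zsmul (k : ℕ) (c : ℤ) (x : K) : adamsG k (c • x) = c • adamsG k x :=
  map_zsmul (@adamsAddHom K _ (gammaOps K) k) c x

theorem adamsG_sum {ι : Type*} (k : ℕ) (s : Finset ι) (f : ι → K) :
    adamsG k (∑ i ∈ s, f i) = ∑ i ∈ s, adamsG k (f i) :=
  map_sum (@adamsAddHom K _ (gammaOps K) k) f s

theorem rel_gamma_adamsG (n : ℕ) (x : K) : Rel n (fun i => gamma i x) (fun k => adamsG k x) :=
  @rel_lam_adams K _ (gammaOps K) n x

/-- `γ^n(l - 1) = 0` for `n ≥ 2` and a line element `l`. -/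
theorem gamma_line_sub_one (h1 : ∀ k : ℕ, 2 ≤ k → LambdaOps.lam k (1 : K) = 0) (l : K)
    (hl : ∀ j : ℕ, 2 ≤ j → LambdaOps.lam j l = 0) (n : ℕ) (hn : 2 ≤ n) : gamma n (l - 1) = 0 := by
  have h := Groth.Agent.S8651.result K h1 1 (fun _ => l) (fun _ j hj => hl j hj) n
  rw [Finset.powersetCard_eq_empty.2 (by simp; omega)] at h
  simpa using h

theorem adamsG_line_sub_one (h1 : ∀ k : ℕ, 2 ≤ k → LambdaOps.lam k (1 : K) = 0) (l : K)
    (hl : ∀ j : ℕ, 2 ≤ j → LambdaOps.lam j l = 0) (k : ℕ) (hk : 1 ≤ k) :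
    adamsG k (l - 1) = (l - 1) ^ k :=
  @adamsOp_of_line K _ (gammaOps K) (l - 1) (gamma_line_sub_one h1 l hl) k hk

end Gamma

section Shift

variable (σ : Type)

/-- The substitution `T_a ↦ 1 + X_a`. -/
noncomputable def shiftEquiv : MvPolynomial σ ℤ ≃ₐ[ℤ] MvPolynomial σ ℤ :=
  AlgEquiv.ofAlgHom (MvPolynomial.aeval fun a => 1 + MvPolynomial.X a)
    (MvPolynomial.aeval fun a => MvPolynomial.X a - 1)
    (by
      apply MvPolynomial.algHom_ext
      intro a
      simp)
    (by
      apply MvPolynomial.algHom_ext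
      intro a
      simp)

theorem shiftEquiv_X (a : σ) : shiftEquiv σ (MvPolynomial.X a) = 1 + MvPolynomial.X a := by
  show MvPolynomial.aeval (fun a => 1 + MvPolynomial.X a) (MvPolynomial.X a) = _
  rw [MvPolynomial.aeval_X]

/-- The λ-structure on `ℤ[X_σ]` in which the `1 + X_a` are line elements. -/
@[reducible] noncomputable def shiftOps : LambdaOps (MvPolynomial σ ℤ) :=
  @transportOps _ _ _ _ (monoOps σ) (shiftEquiv σ).toRingEquiv

/-- The line elements `∏ (1 + X_a)^{m_a}`. -/
noncomputable def lineOf (m : σ →₀ ℕ) : MvPolynomial σ ℤ :=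
  shiftEquiv σ (MvPolynomial.monomial m (1 : ℤ))

theorem constantCoeff_lineOf (m : σ →₀ ℕ) : MvPolynomial.constantCoeff (lineOf σ m) = 1 := by
  unfold lineOf
  rw [MvPolynomial.monomial_eq, map_mul, map_mul, Finsupp.prod, map_prod, map_prod]
  have h : ∀ i ∈ m.support, MvPolynomial.constantCoeff
      (shiftEquiv σ ((MvPolynomial.X i : MvPolynomial σ ℤ) ^ m i)) = 1 := by
    intro i _
    rw [map_pow, shiftEquiv_X, map_pow, map_add, map_one, MvPolynomial.constantCoeff_X, add_zero,
      one_pow]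
  rw [Finset.prod_congr rfl h, Finset.prod_const_one, mul_one]
  have h2 : shiftEquiv σ (MvPolynomial.C (1 : ℤ)) = 1 := by
    rw [map_one, map_one]
  rw [h2, map_one]

attribute [local instance] shiftOps

theorem isSpecial : IsSpecial (MvPolynomial σ ℤ) :=
  @transport_isSpecial _ _ _ _ (monoOps σ) (shiftEquiv σ).toRingEquiv (LambdaMono.isSpecial σ)

theorem lam_lineOf (m : σ →₀ ℕ) (n : ℕ) (hn : 2 ≤ n) : LambdaOps.lam n (lineOf σ m) = 0 := by
  have h := @transport_lam _ _ _ _ (monoOps σ) (shiftEquiv σ).toRingEquiv n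
    (MvPolynomial.monomial m (1 : ℤ))
  have h2 : @LambdaOps.lam _ _ (monoOps σ) n (MvPolynomial.monomial m (1 : ℤ)) = 0 :=
    lam_monomial_one σ m n hn
  rw [h2, map_zero] at h
  exact h

theorem lam_one_add_X (a : σ) (n : ℕ) (hn : 2 ≤ n) :
    LambdaOps.lam n (1 + MvPolynomial.X a : MvPolynomial σ ℤ) = 0 := by
  have h := lam_lineOf σ (Finsupp.single a 1) n hn
  unfold lineOf at h
  have h2 : MvPolynomial.monomial (Finsupp.single a 1) (1 : ℤ) = MvPolynomial.X a := rfl
  rw [h2, shiftEquiv_X] at h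
  exact h

/-- Every polynomial is a `ℤ`-combination of line elements. -/
theorem eq_sum_lineOf (f : MvPolynomial σ ℤ) :
    f = ∑ m ∈ ((shiftEquiv σ).symm f).support,
      MvPolynomial.coeff m ((shiftEquiv σ).symm f) • lineOf σ m := by
  have h := congrArg (shiftEquiv σ) (MvPolynomial.as_sum ((shiftEquiv σ).symm f))
  rw [AlgEquiv.apply_symm_apply, map_sum] at h
  refine h.trans (Finset.sum_congr rfl fun m _ => ?_)
  unfold lineOf
  rw [← map_zsmul, MvPolynomial.smul_monomial, smul_eq_mul, mul_one]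

theorem mem_idealOfVars_iff (f : MvPolynomial σ ℤ) :
    f ∈ MvPolynomial.idealOfVars σ ℤ ↔ MvPolynomial.constantCoeff f = 0 := by
  have h := MvPolynomial.mem_pow_idealOfVars_iff' (σ := σ) (R := ℤ) 1 f
  rw [pow_one] at h
  rw [h]
  constructor
  · intro hf
    exact hf 0 (by simp)
  · intro hf x hx
    have hx0 : x = 0 := by
      rw [Nat.lt_one_iff, Finsupp.degree_eq_zero_iff] at hx
      exact hx
    rw [hx0]
    exact hf

/-- an element of `I` is a combination of the `l - 1`. -/
theorem eq_sum_lineOf_sub_one (f : MvPolynomial σ ℤ) (hf : MvPolynomial.constantCoeff f = 0) :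
    f = ∑ m ∈ ((shiftEquiv σ).symm f).support,
      MvPolynomial.coeff m ((shiftEquiv σ).symm f) • (lineOf σ m - 1) := by
  have h1 := eq_sum_lineOf σ f
  have h2 := congrArg MvPolynomial.constantCoeff h1
  rw [hf, map_sum] at h2
  have h3 : ∑ m ∈ ((shiftEquiv σ).symm f).support,
      MvPolynomial.coeff m ((shiftEquiv σ).symm f) • (1 : MvPolynomial σ ℤ) = 0 := by
    have h4 : ∀ m ∈ ((shiftEquiv σ).symm f).support,
        MvPolynomial.constantCoeff (MvPolynomial.coeff m ((shiftEquiv σ).symm f) • lineOf σ m) =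
        MvPolynomial.coeff m ((shiftEquiv σ).symm f) := by
      intro m _
      rw [map_zsmul, constantCoeff_lineOf, smul_eq_mul, mul_one]
    rw [Finset.sum_congr rfl h4] at h2
    rw [← Finset.sum_smul, ← h2, zero_smul]
  simp only [smul_sub]
  rw [Finset.sum_sub_distrib, h3, sub_zero]
  exact h1

theorem mem_pow_of_natCast_mul_mem (n : ℕ) (hn : n ≠ 0) (k : ℕ) (z : MvPolynomial σ ℤ)
    (h : (n : MvPolynomial σ ℤ) * z ∈ MvPolynomial.idealOfVars σ ℤ ^ k) :
    z ∈ MvPolynomial.idealOfVars σ ℤ ^ k := by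
  rw [MvPolynomial.mem_pow_idealOfVars_iff'] at h ⊢
  intro x hx
  have h1 := h x hx
  have h2 : (n : MvPolynomial σ ℤ) = MvPolynomial.C (n : ℤ) := by
    rw [map_natCast]
  rw [h2, MvPolynomial.coeff_C_mul] at h1
  rcases mul_eq_zero.1 h1 with h3 | h3
  · exact absurd h3 (by exact_mod_cast hn)
  · exact h3

/-- `ψ_γ^k` maps `I` into `I^k`. -/
theorem adamsG_mem_pow (f : MvPolynomial σ ℤ) (hf : MvPolynomial.constantCoeff f = 0) (k : ℕ)
    (hk : 1 ≤ k) : adamsG k f ∈ MvPolynomial.idealOfVars σ ℤ ^ k := by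
  rw [eq_sum_lineOf_sub_one σ f hf, adamsG_sum]
  refine Ideal.sum_mem _ fun m _ => ?_
  rw [adamsG_zsmul, adamsG_line_sub_one (isSpecial σ).lam_one_eq_zero _ (lam_lineOf σ m) k hk]
  refine Submodule.smul_of_tower_mem _ _ ?_
  refine Ideal.pow_mem_pow ?_ k
  rw [mem_idealOfVars_iff, map_sub, constantCoeff_lineOf, map_one, sub_self]

/-- `γ^i` maps `I` into `I^i`. -/
theorem gamma_mem_pow (f : MvPolynomial σ ℤ) (hf : MvPolynomial.constantCoeff f = 0) (i : ℕ) :
    gamma i f ∈ MvPolynomial.idealOfVars σ ℤ ^ i := by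
  induction i using Nat.strong_induction_on with
  | _ i ih =>
    rcases i with _ | m
    · rw [pow_zero, Ideal.one_eq_top]
      trivial
    · have h := rel_gamma_adamsG (m + 1) f m (Nat.lt_succ_self m)
      apply mem_pow_of_natCast_mul_mem σ (m + 1) (Nat.succ_ne_zero m)
      have h2 : ((m + 1 : ℕ) : MvPolynomial σ ℤ) = (m : MvPolynomial σ ℤ) + 1 := by push_cast; ring
      rw [h2, h]
      refine Ideal.add_mem _ (Ideal.sum_mem _ fun j hj => ?_) ?_
      · have hj' := Finset.mem_range.1 hj
        have h3 : (MvPolynomial.idealOfVars σ ℤ) ^ (m + 1) =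
            (MvPolynomial.idealOfVars σ ℤ) ^ (j + 1) * (MvPolynomial.idealOfVars σ ℤ) ^ (m - j) := by
          rw [← pow_add]
          congr 1
          omega
        rw [h3, mul_assoc]
        refine Ideal.mul_mem_left _ _ (Ideal.mul_mem_mul (adamsG_mem_pow σ f hf (j + 1) (by omega))
          (ih (m - j) (by omega)))
      · exact Ideal.mul_mem_left _ _ (adamsG_mem_pow σ f hf (m + 1) (by omega))

end Shift

end Groth.Agent.Lib.Helper44.LambdaShift
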