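import Groth.Agent.Lib.Helper44.LambdaNewton
import Groth.Agent.Lib.Helper44.SymmTwo

/-!
# Newton relations in polynomial rings, transported to a pre-λ-ring

The polynomial-side computations behind the identities of a λ-ring in the strict sense:
`rel_two` (products), `rel_one_pow`, `rel_one_comp` (compositions).
-/

set_option autoImplicit false

universe u

namespace Groth.Agent.Lib.Helper44.LambdaSpecial

open MvPolynomial Finset LambdaRing Groth.Agent.Lib.Helper44.NewtonSeq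
  Groth.Agent.Lib.Helper44.LambdaNewton Groth.Agent.Lib.Helper44.SymmTwo
  Groth.Agent.Lib.Helper44.SymmPoly Groth.Agent.S8684

section SeqOf

/-- The sequence `i ↦ g (i-1)` for `1 ≤ i ≤ n`, zero beyond. -/
def seqOf {R : Type*} [Zero R] {n : ℕ} (g : Fin n → R) (i : ℕ) : R :=
  if h : i - 1 < n then g ⟨i - 1, h⟩ else 0

theorem seqOf_apply {R : Type*} [Zero R] {n : ℕ} (g : Fin n → R) (i : ℕ) (h1 : 1 ≤ i) (h2 : i ≤ n) :
    seqOf g i = g ⟨i - 1, by omega⟩ := by
  unfold seqOf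
  rw [dif_pos]

theorem map_newtonB_eq {R S : Type*} [CommRing R] [CommRing S] (f : R →+* S) {a : ℕ → R}
    {a' b' : ℕ → S} {n : ℕ} (hrel : Rel n a' b') (ha : ∀ i, 1 ≤ i → i ≤ n → f (a i) = a' i)
    (k : ℕ) (hk1 : 1 ≤ k) (hkn : k ≤ n) : f (newtonB a k) = b' k := by
  rw [map_newtonB, newtonB_congr k (fun i h1 h2 => ha i h1 (le_trans h2 hkn))]
  obtain ⟨m, rfl⟩ : ∃ m, k = m + 1 := ⟨k - 1, by omega⟩
  exact (hrel.eq_newtonB m (by omega)).symm

theorem map_newtonB_seqOf {R S : Type*} [CommRing R] [CommRing S] (f : R →+* S) {n : ℕ}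
    (g : Fin n → R) {a' b' : ℕ → S} (hrel : Rel n a' b')
    (hg : ∀ k : Fin n, f (g k) = a' ((k : ℕ) + 1))
    (k : ℕ) (hk1 : 1 ≤ k) (hkn : k ≤ n) : f (newtonB (seqOf g) k) = b' k := by
  refine map_newtonB_eq f hrel (fun i h1 h2 => ?_) k hk1 hkn
  rw [seqOf_apply g i h1 h2, hg]
  show a' (i - 1 + 1) = a' i
  rw [Nat.sub_add_cancel h1]

end SeqOf

section Multisets

/-- The variables `T` as a multiset. -/
noncomputable def mT (n : ℕ) : Multiset (MvPolynomial (Fin n ⊕ Fin n) ℤ) :=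
  (Finset.univ : Finset (Fin n)).val.map fun a => X (Sum.inl a)

/-- The variables `U` as a multiset. -/
noncomputable def mU (n : ℕ) : Multiset (MvPolynomial (Fin n ⊕ Fin n) ℤ) :=
  (Finset.univ : Finset (Fin n)).val.map fun a => X (Sum.inr a)

/-- The products `T_a U_b` as a multiset. -/
noncomputable def mTU (n : ℕ) : Multiset (MvPolynomial (Fin n ⊕ Fin n) ℤ) :=
  (Finset.univ : Finset (Fin n × Fin n)).val.map fun ab => X (Sum.inl ab.1) * X (Sum.inr ab.2)

theorem rename_inl_esymm (n m : ℕ) :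
    rename Sum.inl (esymm (Fin n) ℤ m) = (mT n).esymm m := by
  rw [esymm_eq_multiset_esymm (Fin n) ℤ]
  have h1 := map_multiset_esymm
    (rename Sum.inl : MvPolynomial (Fin n) ℤ →ₐ[ℤ] MvPolynomial (Fin n ⊕ Fin n) ℤ).toRingHom
    ((Finset.univ : Finset (Fin n)).val.map X) m
  refine h1.trans ?_
  rw [Multiset.map_map]
  unfold mT
  congr 1
  refine Multiset.map_congr rfl fun a _ => ?_
  exact rename_X _ _

theorem rename_inr_esymm (n m : ℕ) :
    rename Sum.inr (esymm (Fin n) ℤ m) = (mU n).esymm m := by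
  rw [esymm_eq_multiset_esymm (Fin n) ℤ]
  have h1 := map_multiset_esymm
    (rename Sum.inr : MvPolynomial (Fin n) ℤ →ₐ[ℤ] MvPolynomial (Fin n ⊕ Fin n) ℤ).toRingHom
    ((Finset.univ : Finset (Fin n)).val.map X) m
  refine h1.trans ?_
  rw [Multiset.map_map]
  unfold mU
  congr 1
  refine Multiset.map_congr rfl fun a _ => ?_
  exact rename_X _ _

theorem mulGen_eq (n l : ℕ) : LambdaRing.mulGen n l = (mTU n).esymm l := rfl

theorem psum_mTU (n k : ℕ) :
    ((mTU n).map (· ^ k)).sum = ((mT n).map (· ^ k)).sum * ((mU n).map (· ^ k)).sum := by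
  unfold mTU mT mU
  rw [Multiset.map_map, Multiset.map_map, Multiset.map_map]
  show (∑ ab : Fin n × Fin n, (X (Sum.inl ab.1) * X (Sum.inr ab.2) :
      MvPolynomial (Fin n ⊕ Fin n) ℤ) ^ k) =
    (∑ a : Fin n, (X (Sum.inl a) : MvPolynomial (Fin n ⊕ Fin n) ℤ) ^ k) *
      ∑ b : Fin n, (X (Sum.inr b) : MvPolynomial (Fin n ⊕ Fin n) ℤ) ^ k
  rw [Finset.sum_mul_sum, ← Finset.univ_product_univ, Finset.sum_product]
  refine Finset.sum_congr rfl fun a _ => Finset.sum_congr rfl fun b _ => ?_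
  exact mul_pow _ _ _

/-- The variables of the one-family polynomial ring as a multiset. -/
noncomputable def m1 (N : ℕ) : Multiset (MvPolynomial (Fin N) ℤ) :=
  (Finset.univ : Finset (Fin N)).val.map X

theorem esymm_eq_m1 (N m : ℕ) : esymm (Fin N) ℤ m = (m1 N).esymm m := by
  rw [esymm_eq_multiset_esymm (Fin N) ℤ]
  rfl

theorem compGen_psum (N i k : ℕ) :
    ((((Finset.univ : Finset (Fin N)).powersetCard i).val.map
      fun s => (∏ a ∈ s, X a : MvPolynomial (Fin N) ℤ)).map (· ^ k)).sum =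
    ((m1 N).map (· ^ k)).esymm i := by
  unfold m1
  rw [Multiset.map_map, Multiset.map_map, Finset.esymm_map_val]
  show (∑ s ∈ (Finset.univ : Finset (Fin N)).powersetCard i,
    (∏ a ∈ s, (X a : MvPolynomial (Fin N) ℤ)) ^ k) = _
  refine Finset.sum_congr rfl fun s _ => ?_
  rw [← Finset.prod_pow]
  rfl

theorem pow_esymm_isSymmetric (N k l : ℕ) : (((m1 N).map (· ^ k)).esymm l).IsSymmetric := by
  intro e
  have h1 := map_multiset_esymm
    (rename e : MvPolynomial (Fin N) ℤ →ₐ[ℤ] MvPolynomial (Fin N) ℤ).toRingHom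
    ((m1 N).map (· ^ k)) l
  refine h1.trans ?_
  unfold m1
  rw [Multiset.map_map, Multiset.map_map, Multiset.map_map]
  congr 1
  refine Eq.trans ?_ (multiset_map_comp_equiv e
    ((fun z : MvPolynomial (Fin N) ℤ => z ^ k) ∘ X))
  refine Multiset.map_congr rfl fun a _ => ?_
  show rename e ((X a) ^ k) = _
  rw [map_pow, rename_X]
  rfl

theorem exists_pow_esymm (N k l : ℕ) : ∃ E : MvPolynomial (Fin N) ℤ,
    aeval (fun a : Fin N => esymm (Fin N) ℤ ((a : ℕ) + 1)) E = ((m1 N).map (· ^ k)).esymm l := by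
  obtain ⟨E, hE⟩ := MvPolynomial.esymmAlgHom_surjective ℤ (σ := Fin N) (n := N) (by simp)
    ⟨((m1 N).map (· ^ k)).esymm l, pow_esymm_isSymmetric N k l⟩
  exact ⟨E, by rw [← MvPolynomial.esymmAlgHom_apply, hE]⟩

end Multisets

section Transport

variable {K : Type u} [CommRing K] [LambdaOps K]

/-- Product identities: for any sequence `A` of polynomials representing the elementary symmetric
functions of the products `T_a U_b`, the values `A i (λ x; λ y)` and the products `ψ^k x · ψ^k y`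
satisfy Newton's identities. -/
theorem rel_two (n : ℕ) (x y : K) (A : ℕ → MvPolynomial (Fin n ⊕ Fin n) ℤ)
    (hA : ∀ i, 1 ≤ i → i ≤ n → aeval (Ψ n) (A i) = LambdaRing.mulGen n i) :
    Rel n (fun i => aeval (Sum.elim (fun k : Fin n => LambdaOps.lam ((k : ℕ) + 1) x)
      (fun k : Fin n => LambdaOps.lam ((k : ℕ) + 1) y)) (A i))
      (fun k => adamsOp k x * adamsOp k y) := by
  let θ : MvPolynomial (Fin n ⊕ Fin n) ℤ →+* K :=
    (aeval (Sum.elim (fun k : Fin n => LambdaOps.lam ((k : ℕ) + 1) x)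
      (fun k : Fin n => LambdaOps.lam ((k : ℕ) + 1) y)) : MvPolynomial (Fin n ⊕ Fin n) ℤ →ₐ[ℤ] K).toRingHom
  let S : MvPolynomial (Fin n ⊕ Fin n) ℤ →+* MvPolynomial (Fin n ⊕ Fin n) ℤ :=
    (aeval (Ψ n) : MvPolynomial (Fin n ⊕ Fin n) ℤ →ₐ[ℤ] _).toRingHom
  let BX := newtonB (seqOf (fun k : Fin n => (X (Sum.inl k) : MvPolynomial (Fin n ⊕ Fin n) ℤ)))
  let BY := newtonB (seqOf (fun k : Fin n => (X (Sum.inr k) : MvPolynomial (Fin n ⊕ Fin n) ℤ)))
  have hθX : ∀ k, 1 ≤ k → k ≤ n → θ (BX k) = adamsOp k x :=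
    map_newtonB_seqOf θ _ (rel_lam_adams n x) (fun k => by
      show aeval _ (X (Sum.inl k)) = _
      rw [aeval_X]
      rfl)
  have hθY : ∀ k, 1 ≤ k → k ≤ n → θ (BY k) = adamsOp k y :=
    map_newtonB_seqOf θ _ (rel_lam_adams n y) (fun k => by
      show aeval _ (X (Sum.inr k)) = _
      rw [aeval_X]
      rfl)
  have hSX : ∀ k, 1 ≤ k → k ≤ n → S (BX k) = ((mT n).map (· ^ k)).sum :=
    map_newtonB_seqOf S _ (rel_esymm_psum (mT n) n) (fun k => by
      show aeval (Ψ n) (X (Sum.inl k)) = _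
      rw [aeval_X]
      exact rename_inl_esymm n _)
  have hSY : ∀ k, 1 ≤ k → k ≤ n → S (BY k) = ((mU n).map (· ^ k)).sum :=
    map_newtonB_seqOf S _ (rel_esymm_psum (mU n) n) (fun k => by
      show aeval (Ψ n) (X (Sum.inr k)) = _
      rw [aeval_X]
      exact rename_inr_esymm n _)
  have h1 : Rel n (fun i => S (A i)) (fun k => S (BX k * BY k)) :=
    (rel_esymm_psum (mTU n) n).congr (fun i h1 h2 => (hA i h1 h2).symm)
      (fun k h1 h2 => by rw [map_mul, hSX k h1 h2, hSY k h1 h2, psum_mTU])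
  have h2 : Rel n A (fun k => BX k * BY k) := Rel.of_map_injective S (aeval_Ψ_injective n) h1
  have h3 := h2.map θ
  exact h3.congr (fun _ _ _ => rfl) (fun k h1 h2 => by rw [map_mul, hθX k h1 h2, hθY k h1 h2])

/-- Polynomials `E l` representing the elementary symmetric functions of the `k`-th powers of the
variables take values Newton-related to the `ψ^{mk} x`. -/
theorem rel_one_pow (N : ℕ) (x : K) (k i : ℕ) (hk : 1 ≤ k) (hik : i * k ≤ N)
    (E : ℕ → MvPolynomial (Fin N) ℤ)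
    (hE : ∀ l, 1 ≤ l → l ≤ i → aeval (fun a : Fin N => esymm (Fin N) ℤ ((a : ℕ) + 1)) (E l) =
      ((m1 N).map (· ^ k)).esymm l) :
    Rel i (fun l => aeval (fun a : Fin N => LambdaOps.lam ((a : ℕ) + 1) x) (E l))
      (fun m => adamsOp (m * k) x) := by
  let θ : MvPolynomial (Fin N) ℤ →+* K :=
    (aeval (fun a : Fin N => LambdaOps.lam ((a : ℕ) + 1) x) : MvPolynomial (Fin N) ℤ →ₐ[ℤ] K).toRingHom
  let S : MvPolynomial (Fin N) ℤ →+* MvPolynomial (Fin N) ℤ :=
    (aeval (fun a : Fin N => esymm (Fin N) ℤ ((a : ℕ) + 1)) : MvPolynomial (Fin N) ℤ →ₐ[ℤ] _).toRingHom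
  let B := newtonB (seqOf (fun a : Fin N => (X a : MvPolynomial (Fin N) ℤ)))
  have hθB : ∀ κ, 1 ≤ κ → κ ≤ N → θ (B κ) = adamsOp κ x :=
    map_newtonB_seqOf θ _ (rel_lam_adams N x) (fun a => by
      show aeval _ (X a) = _
      rw [aeval_X])
  have hSB : ∀ κ, 1 ≤ κ → κ ≤ N → S (B κ) = ((m1 N).map (· ^ κ)).sum :=
    map_newtonB_seqOf S _ (rel_esymm_psum (m1 N) N) (fun a => by
      show aeval _ (X a) = _
      rw [aeval_X]
      exact esymm_eq_m1 N _)
  have h1 : Rel i (fun l => S (E l)) (fun m => S (B (m * k))) :=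
    (rel_esymm_psum ((m1 N).map (· ^ k)) i).congr (fun l h1 h2 => (hE l h1 h2).symm)
      (fun m h1 h2 => by
        rw [hSB (m * k) (Nat.mul_pos h1 hk) (le_trans (Nat.mul_le_mul_right k h2) hik),
          Multiset.map_map]
        congr 2
        funext z
        exact (pow_mul' z m k).symm)
  have h2 : Rel i E (fun m => B (m * k)) :=
    Rel.of_map_injective S (aeval_esymm_injective ℤ N N le_rfl) h1
  have h3 := h2.map θ
  exact h3.congr (fun _ _ _ => rfl) (fun m h1 h2 =>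
    hθB (m * k) (Nat.mul_pos h1 hk) (le_trans (Nat.mul_le_mul_right k h2) hik))

/-- Polynomials `A l` representing `compGen N i l` and `E k` representing the `i`-th elementary
symmetric function of the `k`-th powers take Newton-related values. -/
theorem rel_one_comp (N : ℕ) (x : K) (i j : ℕ) (A E : ℕ → MvPolynomial (Fin N) ℤ)
    (hA : ∀ l, 1 ≤ l → l ≤ j → aeval (fun a : Fin N => esymm (Fin N) ℤ ((a : ℕ) + 1)) (A l) =
      LambdaRing.compGen N i l)
    (hE : ∀ k, 1 ≤ k → k ≤ j → aeval (fun a : Fin N => esymm (Fin N) ℤ ((a : ℕ) + 1)) (E k) =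
      ((m1 N).map (· ^ k)).esymm i) :
    Rel j (fun l => aeval (fun a : Fin N => LambdaOps.lam ((a : ℕ) + 1) x) (A l))
      (fun k => aeval (fun a : Fin N => LambdaOps.lam ((a : ℕ) + 1) x) (E k)) := by
  let θ : MvPolynomial (Fin N) ℤ →+* K :=
    (aeval (fun a : Fin N => LambdaOps.lam ((a : ℕ) + 1) x) : MvPolynomial (Fin N) ℤ →ₐ[ℤ] K).toRingHom
  let S : MvPolynomial (Fin N) ℤ →+* MvPolynomial (Fin N) ℤ :=
    (aeval (fun a : Fin N => esymm (Fin N) ℤ ((a : ℕ) + 1)) : MvPolynomial (Fin N) ℤ →ₐ[ℤ] _).toRingHom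
  have h1 : Rel j (fun l => S (A l)) (fun k => S (E k)) :=
    (rel_esymm_psum (((Finset.univ : Finset (Fin N)).powersetCard i).val.map
      fun s => (∏ a ∈ s, X a : MvPolynomial (Fin N) ℤ)) j).congr
      (fun l h1 h2 => (hA l h1 h2).symm)
      (fun k h1 h2 => by
        show _ = aeval _ (E k)
        rw [hE k h1 h2, compGen_psum])
  have h2 : Rel j A E := Rel.of_map_injective S (aeval_esymm_injective ℤ N N le_rfl) h1
  exact h2.map θ

end Transport

end Groth.Agent.Lib.Helper44.LambdaSpecial
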