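import Groth.Agent.Lib.Helper44.LambdaSpecial

/-!
# A pre-λ-ring in which the positive integers are non-zero-divisors and whose Adams operations are
# unital, multiplicative and compose multiplicatively is a λ-ring in the strict sense
-/

set_option autoImplicit false

universe u

namespace Groth.Agent.Lib.Helper44.LambdaSpecial

open MvPolynomial Finset LambdaRing Groth.Agent.Lib.Helper44.NewtonSeq
  Groth.Agent.Lib.Helper44.LambdaNewton Groth.Agent.Lib.Helper44.SymmTwo
  Groth.Agent.Lib.Helper44.SymmPoly Groth.Agent.S8684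

variable (K : Type u) [CommRing K] [LambdaOps K]

theorem lam_one_eq (htf : ∀ (m : ℕ) (x : K), ((m : K) + 1) * x = 0 → x = 0)
    (h1 : ∀ k : ℕ, 1 ≤ k → adamsOp k (1 : K) = 1) (i : ℕ) (hi : 1 ≤ i) :
    LambdaOps.lam i (1 : K) = ({1} : Multiset K).esymm i := by
  have hr1 := rel_lam_adams i (1 : K)
  have hr2 : Rel i (fun l => ({1} : Multiset K).esymm l) (fun k => adamsOp k (1 : K)) :=
    (rel_esymm_psum ({1} : Multiset K) i).congr (fun _ _ _ => rfl) (fun k hk1 _ => by
      rw [h1 k hk1]
      simp)
  exact hr1.unique_a hr2 (fun m _ => htf m) i hi le_rfl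

omit [LambdaOps K] in
theorem singleton_esymm_eq_zero (n : ℕ) (hn : 2 ≤ n) : ({1} : Multiset K).esymm n = 0 := by
  unfold Multiset.esymm
  rw [Multiset.powersetCard_eq_empty n (by rw [Multiset.card_singleton]; omega)]
  rfl

theorem isSpecial_of_adams (htf : ∀ (m : ℕ) (x : K), ((m : K) + 1) * x = 0 → x = 0)
    (h1 : ∀ k : ℕ, 1 ≤ k → adamsOp k (1 : K) = 1)
    (hmul : ∀ k : ℕ, 1 ≤ k → ∀ x y : K, adamsOp k (x * y) = adamsOp k x * adamsOp k y)
    (hcomp : ∀ k k' : ℕ, 1 ≤ k → 1 ≤ k' → ∀ x : K,
      adamsOp k (adamsOp k' x) = adamsOp (k * k') x) :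
    IsSpecial K := by
  refine ⟨?_, ?_, ?_⟩
  · intro n hn
    rw [lam_one_eq K htf h1 n (by omega), singleton_esymm_eq_zero K n hn]
  · intro n P hP x y
    rcases Nat.eq_zero_or_pos n with rfl | hn
    · rw [LambdaOps.lam_zero]
      have hθS : ∀ p : MvPolynomial (Fin 0 ⊕ Fin 0) ℤ,
          aeval (Sum.elim (fun k : Fin 0 => LambdaOps.lam ((k : ℕ) + 1) x)
            (fun k : Fin 0 => LambdaOps.lam ((k : ℕ) + 1) y)) (aeval (Ψ 0) p) =
          aeval (Sum.elim (fun k : Fin 0 => LambdaOps.lam ((k : ℕ) + 1) x)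
            (fun k : Fin 0 => LambdaOps.lam ((k : ℕ) + 1) y)) p := by
        intro p
        rw [← AlgHom.comp_apply]
        congr 1
        apply MvPolynomial.algHom_ext
        intro i
        rcases i with i | i <;> exact i.elim0
      have hP1 : aeval (Ψ 0) P = LambdaRing.mulGen 0 0 := hP.1
      rw [← hθS P, hP1, mulGen_eq, multiset_esymm_zero, map_one]
    · choose A hA1 _ using fun l => exists_mulPoly' n l
      have hr := rel_two n x y A (fun i _ _ => hA1 i)
      have hr' := hr.congr (fun _ _ _ => rfl) (fun k hk1 _ => (hmul k hk1 x y).symm)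
      have hu := (rel_lam_adams n (x * y)).unique_a hr' (fun m _ => htf m) n hn le_rfl
      have hPA : P = A n := aeval_Ψ_injective n (hP.1.trans (hA1 n).symm)
      rw [hPA]
      exact hu
  · intro i j Q hQ x
    rcases Nat.eq_zero_or_pos (i * j) with h0 | hN
    · have : IsEmpty (Fin (i * j)) := by
        rw [h0]
        infer_instance
      have hθS : ∀ p : MvPolynomial (Fin (i * j)) ℤ,
          aeval (fun k : Fin (i * j) => LambdaOps.lam ((k : ℕ) + 1) x)
            (aeval (fun k : Fin (i * j) => esymm (Fin (i * j)) ℤ ((k : ℕ) + 1)) p) =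
          aeval (fun k : Fin (i * j) => LambdaOps.lam ((k : ℕ) + 1) x) p := by
        intro p
        rw [← AlgHom.comp_apply]
        congr 1
        apply MvPolynomial.algHom_ext
        intro a
        exact isEmptyElim a
      rw [← hθS Q, hQ.1]
      unfold LambdaRing.compGen
      have h2 := map_multiset_esymm
        (aeval (fun k : Fin (i * j) => LambdaOps.lam ((k : ℕ) + 1) x) :
          MvPolynomial (Fin (i * j)) ℤ →ₐ[ℤ] K).toRingHom
        (((Finset.univ : Finset (Fin (i * j))).powersetCard i).val.map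
          fun s => (∏ a ∈ s, X a : MvPolynomial (Fin (i * j)) ℤ)) j
      refine Eq.trans ?_ h2.symm
      rcases Nat.eq_zero_or_pos j with rfl | hj
      · rw [LambdaOps.lam_zero, multiset_esymm_zero]
      · have hi : i = 0 := by
          rcases Nat.mul_eq_zero.1 h0 with h | h
          · exact h
          · omega
        subst hi
        rw [LambdaOps.lam_zero, lam_one_eq K htf h1 j hj, Finset.powersetCard_zero]
        simp
    · have hi : 1 ≤ i := Nat.pos_of_mul_pos_right hN
      have hj : 1 ≤ j := Nat.pos_of_mul_pos_left hN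
      choose E hE using fun k l => exists_pow_esymm (i * j) k l
      choose A hA1 _ using fun l => exists_compPoly' (i * j) i l
      have hrk : ∀ k, 1 ≤ k → Rel i (fun l => LambdaOps.lam l (adamsOp k x))
          (fun m => adamsOp (m * k) x) := fun k hk1 =>
        (rel_lam_adams i (adamsOp k x)).congr (fun _ _ _ => rfl)
          (fun m hm1 _ => hcomp m k hm1 hk1 x)
      have step1 : ∀ k, 1 ≤ k → k ≤ j → ∀ l, 1 ≤ l → l ≤ i →
          aeval (fun a : Fin (i * j) => LambdaOps.lam ((a : ℕ) + 1) x) (E k l) =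
            LambdaOps.lam l (adamsOp k x) := by
        intro k hk1 hkj
        have hr := rel_one_pow (i * j) x k i hk1 (Nat.mul_le_mul_left i hkj) (E k)
          (fun l _ _ => hE k l)
        exact fun l hl1 hli => hr.unique_a (hrk k hk1) (fun m _ => htf m) l hl1 hli
      have step2 : ∀ k, 1 ≤ k → ∀ l, 1 ≤ l → l ≤ i →
          adamsOp k (LambdaOps.lam l x) = LambdaOps.lam l (adamsOp k x) := by
        intro k hk1
        have hr := (rel_lam_adams i x).map (adamsRingHom k (h1 k hk1) (hmul k hk1))
        have hr' : Rel i (fun l => adamsOp k (LambdaOps.lam l x))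
            (fun m => adamsOp (m * k) x) :=
          hr.congr (fun _ _ _ => rfl) (fun m hm1 _ => by
            show adamsOp k (adamsOp m x) = _
            rw [hcomp k m hk1 hm1 x, mul_comm])
        exact fun l hl1 hli => hr'.unique_a (hrk k hk1) (fun m _ => htf m) l hl1 hli
      have hr := rel_one_comp (i * j) x i j A (fun k => E k i) (fun l _ _ => hA1 l)
        (fun k _ _ => hE k i)
      have hr' := hr.congr (fun _ _ _ => rfl) (fun k hk1 hkj =>
        (step1 k hk1 hkj i hi le_rfl).trans (step2 k hk1 i hi le_rfl).symm)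
      have hu := (rel_lam_adams j (LambdaOps.lam i x)).unique_a hr' (fun m _ => htf m) j hj le_rfl
      have hQA : Q = A j :=
        aeval_esymm_injective ℤ (i * j) (i * j) le_rfl (hQ.1.trans (hA1 j).symm)
      rw [hQA]
      exact hu

end Groth.Agent.Lib.Helper44.LambdaSpecial
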