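import Groth.Agent.Lib.Helper44.GammaScalar

/-!
# λ-ring terms and their universal representing polynomials

A term `t : Tm` in generators `varN`, `var g` built from `+`, `-`, `*`, `λ^m` and natural numbers
has, for every `k`, a universal polynomial `t.rep k` in the variables `λ^{a+1}(n)`, `λ^{a+1}(x_g)`
computing `λ^k` of its value in every special λ-ring.
-/

set_option autoImplicit false

universe u

namespace Groth.Agent.Lib.Helper44.LambdaTerm

open LambdaRing Finset MvPolynomial Groth.Agent.Lib.Helper44.GammaUniv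
  Groth.Agent.Lib.Helper44.GammaWeights Groth.Agent.Lib.Helper44.GammaScalar
  Groth.Agent.Lib.Helper44.LambdaShift

/-- the variables: `inl a` stands for `λ^{a+1}(n)` (or `γ^{a+1}(n)`), `inr (g, a)` for
`λ^{a+1}(x_g)` (or `γ^{a+1}(x_g)`) -/
abbrev V := ℕ ⊕ (ℕ × ℕ)

/-- the ring of universal polynomials -/
abbrev U := MvPolynomial V ℤ

/-- λ-ring terms -/
inductive Tm : Type
  | varN : Tm
  | var : ℕ → Tm
  | nat : ℕ → Tm
  | add : Tm → Tm → Tm
  | neg : Tm → Tm
  | mul : Tm → Tm → Tm
  | lam : ℕ → Tm → Tm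

/-- the coefficients of the inverse of a series with constant coefficient `1` -/
noncomputable def negS {R : Type*} [CommRing R] (A : ℕ → R) : ℕ → R
  | 0 => 1
  | (k + 1) => -∑ i : Fin (k + 1), A ((i : ℕ) + 1) * negS A (k - i)
termination_by k => k
decreasing_by
  have := i.isLt
  omega

theorem negS_zero {R : Type*} [CommRing R] (A : ℕ → R) : negS A 0 = 1 := by
  rw [negS]

theorem negS_succ {R : Type*} [CommRing R] (A : ℕ → R) (k : ℕ) :
    negS A (k + 1) = -∑ i ∈ range (k + 1), A (i + 1) * negS A (k - i) := by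
  rw [negS, Finset.sum_range]

theorem map_negS {R S : Type*} [CommRing R] [CommRing S] (f : R →+* S) (A : ℕ → R) (k : ℕ) :
    f (negS A k) = negS (fun i => f (A i)) k := by
  induction k using Nat.strong_induction_on with
  | _ k ih =>
    rcases k with _ | k
    · rw [negS_zero, negS_zero, map_one]
    · rw [negS_succ, negS_succ, map_neg, map_sum]
      congr 1
      refine Finset.sum_congr rfl fun i hi => ?_
      rw [map_mul, ih (k - i) (by have := Finset.mem_range.1 hi; omega)]

section Eval

variable {K : Type u} [CommRing K] [LambdaOps K]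

/-- the value of a term -/
def Tm.eval (n : K) (x : ℕ → K) : Tm → K
  | Tm.varN => n
  | Tm.var g => x g
  | Tm.nat c => (c : K)
  | Tm.add s t => s.eval n x + t.eval n x
  | Tm.neg t => -t.eval n x
  | Tm.mul s t => s.eval n x * t.eval n x
  | Tm.lam m t => LambdaOps.lam m (t.eval n x)

/-- evaluation of the universal polynomials at the `λ^{a+1}` of the generators -/
noncomputable def θl (n : K) (x : ℕ → K) : U →ₐ[ℤ] K :=
  aeval (Sum.elim (fun a : ℕ => LambdaOps.lam (a + 1) n)
    (fun p : ℕ × ℕ => LambdaOps.lam (p.2 + 1) (x p.1)))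

theorem lam_neg (z : K) (k : ℕ) :
    LambdaOps.lam k (-z) = negS (fun i => LambdaOps.lam i z) k := by
  induction k using Nat.strong_induction_on with
  | _ k ih =>
    rcases k with _ | k
    · rw [LambdaOps.lam_zero, negS_zero]
    · have h := LambdaOps.lam_add (k + 1) z (-z)
      rw [add_neg_cancel, lam_zero_right _ (Nat.succ_ne_zero k), Finset.sum_range_succ',
        LambdaOps.lam_zero, one_mul, Nat.sub_zero] at h
      rw [negS_succ]
      have h2 : ∑ i ∈ range (k + 1), LambdaOps.lam (i + 1) z * negS (fun i => LambdaOps.lam i z) (k - i) =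
          ∑ i ∈ range (k + 1), LambdaOps.lam (i + 1) z * LambdaOps.lam (k + 1 - (i + 1)) (-z) := by
        refine Finset.sum_congr rfl fun i hi => ?_
        have hi' := Finset.mem_range.1 hi
        rw [← ih (k - i) (by omega)]
        congr 2
        omega
      rw [h2]
      linear_combination -h

end Eval

/-- the universal polynomial computing `λ^k` of a term -/
noncomputable def Tm.rep : Tm → ℕ → U
  | Tm.varN, k => if k = 0 then 1 else X (Sum.inl (k - 1))
  | Tm.var g, k => if k = 0 then 1 else X (Sum.inr (g, k - 1))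
  | Tm.nat c, k => ((c.choose k : ℕ) : U)
  | Tm.add s t, k => ∑ i ∈ range (k + 1), s.rep i * t.rep (k - i)
  | Tm.neg t, k => negS t.rep k
  | Tm.mul s t, k => aeval (Sum.elim (fun a : Fin k => s.rep ((a : ℕ) + 1))
      (fun a : Fin k => t.rep ((a : ℕ) + 1))) (Pn k)
  | Tm.lam m t, k => aeval (fun a : Fin (m * k) => t.rep ((a : ℕ) + 1)) (Qij m k)

section Spec

variable {K : Type u} [CommRing K] [LambdaOps K]

theorem rep_spec (hsp : IsSpecial K) (n : K) (x : ℕ → K) (t : Tm) :
    ∀ k, LambdaOps.lam k (t.eval n x) = θl n x (t.rep k) := by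
  induction t with
  | varN =>
    intro k
    show LambdaOps.lam k n = θl n x (if k = 0 then 1 else X (Sum.inl (k - 1)))
    rcases k with _ | k
    · rw [if_pos rfl, LambdaOps.lam_zero, map_one]
    · rw [if_neg (Nat.succ_ne_zero k), Nat.add_sub_cancel]
      unfold θl
      rw [aeval_X, Sum.elim_inl]
  | var g =>
    intro k
    show LambdaOps.lam k (x g) = θl n x (if k = 0 then 1 else X (Sum.inr (g, k - 1)))
    rcases k with _ | k
    · rw [if_pos rfl, LambdaOps.lam_zero, map_one]
    · rw [if_neg (Nat.succ_ne_zero k), Nat.add_sub_cancel]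
      unfold θl
      rw [aeval_X, Sum.elim_inr]
  | nat c =>
    intro k
    show LambdaOps.lam k (c : K) = θl n x ((c.choose k : ℕ) : U)
    rw [lam_natCast hsp.lam_one_eq_zero, map_natCast]
  | add s t ihs iht =>
    intro k
    show LambdaOps.lam k (s.eval n x + t.eval n x) =
      θl n x (∑ i ∈ range (k + 1), s.rep i * t.rep (k - i))
    rw [LambdaOps.lam_add, map_sum]
    refine Finset.sum_congr rfl fun i _ => ?_
    rw [map_mul, ihs, iht]
  | neg t iht =>
    intro k
    show LambdaOps.lam k (-t.eval n x) = θl n x (negS t.rep k)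
    rw [lam_neg]
    have h := map_negS (θl n x : U →+* K) t.rep k
    refine Eq.trans ?_ h.symm
    congr 1
    funext i
    exact iht i
  | mul s t ihs iht =>
    intro k
    show LambdaOps.lam k (s.eval n x * t.eval n x) =
      θl n x (aeval (Sum.elim (fun a : Fin k => s.rep ((a : ℕ) + 1))
        (fun a : Fin k => t.rep ((a : ℕ) + 1))) (Pn k))
    rw [hsp.lam_mul k (Pn k) (Pn_spec k), ← AlgHom.comp_apply, comp_aeval]
    congr 2
    funext p
    rcases p with a | a
    · exact ihs _
    · exact iht _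
  | lam m t iht =>
    intro k
    show LambdaOps.lam k (LambdaOps.lam m (t.eval n x)) =
      θl n x (aeval (fun a : Fin (m * k) => t.rep ((a : ℕ) + 1)) (Qij m k))
    rw [hsp.lam_lam m k (Qij m k) (Qij_spec m k), ← AlgHom.comp_apply, comp_aeval]
    congr 2
    funext a
    exact iht _

/-- the universal polynomial computing `γ^i` of a term -/
noncomputable def Tm.grep (t : Tm) (i : ℕ) : U :=
  if i = 0 then 1 else ∑ j ∈ range i, ((Nat.choose (i - 1) j : ℕ) : U) * t.rep (j + 1)

theorem grep_spec (hsp : IsSpecial K) (n : K) (x : ℕ → K) (t : Tm) (i : ℕ) :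
    gamma i (t.eval n x) = θl n x (t.grep i) := by
  unfold Tm.grep
  rcases i with _ | a
  · rw [if_pos rfl, gamma_zero_left, map_one]
  · rw [if_neg (Nat.succ_ne_zero a), gamma_succ_eq, map_sum, Nat.add_sub_cancel]
    refine Finset.sum_congr rfl fun j _ => ?_
    rw [map_mul, map_natCast, rep_spec hsp]

end Spec

section Formers

/-- the sum of the terms `f 0, …, f (n-1)` -/
def Tm.sum (f : ℕ → Tm) : ℕ → Tm
  | 0 => Tm.nat 0
  | (n + 1) => Tm.add (Tm.sum f n) (f n)

/-- the product of the terms `f 0, …, f (n-1)` -/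
def Tm.prod (f : ℕ → Tm) : ℕ → Tm
  | 0 => Tm.nat 1
  | (n + 1) => Tm.mul (Tm.prod f n) (f n)

/-- the term `γ^i(t)` -/
def Tm.gam (i : ℕ) (t : Tm) : Tm :=
  if i = 0 then Tm.nat 1 else
    Tm.sum (fun j => Tm.mul (Tm.nat (Nat.choose (i - 1) j)) (Tm.lam (j + 1) t)) i

variable {K : Type u} [CommRing K] [LambdaOps K] (n : K) (x : ℕ → K)

theorem eval_sum (f : ℕ → Tm) (r : ℕ) :
    (Tm.sum f r).eval n x = ∑ j ∈ range r, (f j).eval n x := by
  induction r with
  | zero =>
    show ((0 : ℕ) : K) = _
    rw [Finset.sum_range_zero, Nat.cast_zero]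
  | succ r ih =>
    show (Tm.sum f r).eval n x + (f r).eval n x = _
    rw [ih, Finset.sum_range_succ]

theorem eval_prod (f : ℕ → Tm) (r : ℕ) :
    (Tm.prod f r).eval n x = ∏ j ∈ range r, (f j).eval n x := by
  induction r with
  | zero =>
    show ((1 : ℕ) : K) = _
    rw [Finset.prod_range_zero, Nat.cast_one]
  | succ r ih =>
    show (Tm.prod f r).eval n x * (f r).eval n x = _
    rw [ih, Finset.prod_range_succ]

theorem eval_gam (i : ℕ) (t : Tm) : (Tm.gam i t).eval n x = gamma i (t.eval n x) := by
  unfold Tm.gam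
  rcases i with _ | a
  · rw [if_pos rfl, gamma_zero_left]
    show ((1 : ℕ) : K) = 1
    rw [Nat.cast_one]
  · rw [if_neg (Nat.succ_ne_zero a), eval_sum, gamma_succ_eq, Nat.add_sub_cancel]
    rfl

end Formers

end Groth.Agent.Lib.Helper44.LambdaTerm
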