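import Mathlib.RingTheory.MvPowerSeries.Basic
import Mathlib.RingTheory.MvPowerSeries.Inverse

/-!
# Decomposing a multivariate power series along a finite set of variables

`exists_decomp s g`: `g = r + ∑ i ∈ s, X i * h i` where `r` collects the monomials of `g` not
involving the variables in `s`, and the coefficients of each `h i` are coefficients of `g`
(shifted by `X i`) or zero; the constant coefficient of `h i` is the coefficient of `X i` in `g`.
-/

set_option autoImplicit false

namespace Groth.Agent.Lib.Helper44.MvPSDecomp

open MvPowerSeries

variable {σ : Type*} {A : Type*} [CommRing A]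

theorem coeff_X_mul_add (a : σ) (h : MvPowerSeries σ A) (m : σ →₀ ℕ) :
    coeff (m + Finsupp.single a 1) (X a * h) = coeff m h := by
  rw [X_def, add_comm, coeff_add_monomial_mul, one_mul]

theorem exists_decomp [DecidableEq σ] (s : Finset σ) :
    ∀ g : MvPowerSeries σ A, ∃ (h : σ → MvPowerSeries σ A) (r : MvPowerSeries σ A),
      g = r + ∑ i ∈ s, X i * h i ∧
      (∀ m, coeff m r = if ∀ i ∈ s, m i = 0 then coeff m g else 0) ∧
      ∀ i ∈ s, constantCoeff (h i) = coeff (Finsupp.single i 1) g ∧
        ∀ m, coeff m (h i) = 0 ∨ coeff m (h i) = coeff (m + Finsupp.single i 1) g := by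
  induction s using Finset.induction_on with
  | empty =>
    intro g
    refine ⟨fun _ => 0, g, by simp, fun m => by simp, fun i hi => by simp at hi⟩
  | insert a s' ha ih =>
    intro g
    let g₁ : MvPowerSeries σ A := fun m => if m a = 0 then 0 else coeff m g
    let g₂ : MvPowerSeries σ A := fun m => if m a = 0 then coeff m g else 0
    have hg₁ : ∀ m, coeff m g₁ = if m a = 0 then 0 else coeff m g := fun m => rfl
    have hg₂ : ∀ m, coeff m g₂ = if m a = 0 then coeff m g else 0 := fun m => rfl
    have hsum : g = g₁ + g₂ := by
      ext m
      rw [map_add, hg₁, hg₂]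
      split_ifs <;> simp
    have hdvd : (X a : MvPowerSeries σ A) ∣ g₁ := by
      rw [X_dvd_iff]
      intro m hm
      rw [hg₁, if_pos hm]
    obtain ⟨ha', hha⟩ := hdvd
    have hcoef : ∀ m, coeff m ha' = coeff (m + Finsupp.single a 1) g := by
      intro m
      rw [← coeff_X_mul_add a ha' m, ← hha, hg₁, if_neg]
      simp
    obtain ⟨h', r', hdec, hr', hh'⟩ := ih g₂
    refine ⟨Function.update h' a ha', r', ?_, ?_, ?_⟩
    · rw [Finset.sum_insert ha, Function.update_self]
      have : ∑ i ∈ s', X i * Function.update h' a ha' i = ∑ i ∈ s', X i * h' i := by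
        refine Finset.sum_congr rfl fun i hi => ?_
        rw [Function.update_of_ne]
        rintro rfl
        exact ha hi
      rw [this, hsum, hha]
      conv_lhs => rw [hdec]
      ring
    · intro m
      rw [hr', hg₂]
      by_cases h1 : m a = 0
      · by_cases h2 : ∀ i ∈ s', m i = 0
        · rw [if_pos h2, if_pos h1, if_pos]
          intro i hi
          rcases Finset.mem_insert.1 hi with rfl | hi
          · exact h1
          · exact h2 i hi
        · rw [if_neg h2, if_neg]
          intro h3
          exact h2 fun i hi => h3 i (Finset.mem_insert_of_mem hi)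
      · have h3 : ¬ ∀ i ∈ insert a s', m i = 0 :=
          fun h3 => h1 (h3 a (Finset.mem_insert_self a s'))
        rw [if_neg h3]
        split_ifs <;> rfl
    · intro i hi
      rcases Finset.mem_insert.1 hi with hia | his
      · rw [hia, Function.update_self]
        refine ⟨?_, fun m => Or.inr (hcoef m)⟩
        rw [← coeff_zero_eq_constantCoeff_apply, hcoef, zero_add]
      · have hia : i ≠ a := by
          intro hia
          rw [hia] at his
          exact ha his
        rw [Function.update_of_ne hia]
        obtain ⟨hc, hm⟩ := hh' i his
        refine ⟨?_, fun m => ?_⟩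
        · rw [hc, hg₂, if_pos]
          simp [hia]
        · rcases hm m with h0 | h0
          · exact Or.inl h0
          · rw [h0, hg₂]
            split_ifs
            · exact Or.inr rfl
            · exact Or.inl rfl

/-- A series with vanishing constant coefficient in finitely many variables is a combination of the
variables, with control on the constant coefficients of the cofactors. -/
theorem exists_decomp_univ [DecidableEq σ] [Fintype σ] (g : MvPowerSeries σ A)
    (hg : constantCoeff g = 0) :
    ∃ h : σ → MvPowerSeries σ A, g = ∑ i, X i * h i ∧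
      ∀ i, constantCoeff (h i) = coeff (Finsupp.single i 1) g ∧
        ∀ m, coeff m (h i) = 0 ∨ coeff m (h i) = coeff (m + Finsupp.single i 1) g := by
  obtain ⟨h, r, hdec, hr, hh⟩ := exists_decomp (Finset.univ : Finset σ) g
  have hr0 : r = 0 := by
    ext m
    rw [hr, map_zero]
    split_ifs with h1
    · have : m = 0 := by
        ext i
        simpa using h1 i (Finset.mem_univ i)
      rw [this]
      exact hg
    · rfl
  refine ⟨h, ?_, fun i => hh i (Finset.mem_univ i)⟩
  rw [hdec, hr0, zero_add]

end Groth.Agent.Lib.Helper44.MvPSDecomp
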