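import Mathlib.RingTheory.Polynomial.Vieta
import Mathlib.RingTheory.AdjoinRoot
import Mathlib.RingTheory.AlgebraTower
import Mathlib.RingTheory.MvPolynomial.Symmetric.Defs

/-!
# The universal splitting algebra of a monic polynomial

For a monic polynomial `p` of degree `n` over `R`, the quotient of `R[U_0, …, U_{n-1}]` by the
coefficients of `∏ (T - U_i) - p` is a free `R`-module of rank `n!`.  Consequences: the quotient of
`R[U]` by the `σ_i - a_i` is free of rank `r!`, and `R[U]` is free of rank `r!` over `R[σ]`.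
-/

set_option autoImplicit false

universe u

namespace Groth.Agent.Lib.Helper44.SplitAlg

open Module

section Defs

variable {R : Type u} [CommRing R]

/-- the polynomial `∏ (T - U_i) - p` -/
noncomputable def diffPoly (n : ℕ) (p : Polynomial R) : Polynomial (MvPolynomial (Fin n) R) :=
  (∏ i : Fin n, (Polynomial.X - Polynomial.C (MvPolynomial.X i))) - p.map MvPolynomial.C

/-- the ideal generated by the coefficients of `∏ (T - U_i) - p` -/
noncomputable def Ip (n : ℕ) (p : Polynomial R) : Ideal (MvPolynomial (Fin n) R) :=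
  Ideal.span (Set.range fun k : ℕ => (diffPoly n p).coeff k)

variable {B : Type*} [CommRing B]

theorem map_diffPoly (n : ℕ) (p : Polynomial R) (g : MvPolynomial (Fin n) R →+* B) :
    (diffPoly n p).map g =
      (∏ i : Fin n, (Polynomial.X - Polynomial.C (g (MvPolynomial.X i)))) -
        p.map (g.comp MvPolynomial.C) := by
  unfold diffPoly
  rw [Polynomial.map_sub, Polynomial.map_prod, Polynomial.map_map]
  congr 1
  refine Finset.prod_congr rfl fun i _ => ?_
  rw [Polynomial.map_sub, Polynomial.map_X, Polynomial.map_C]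

theorem kill_iff (n : ℕ) (p : Polynomial R) (g : MvPolynomial (Fin n) R →+* B) :
    Ip n p ≤ RingHom.ker g ↔
      (∏ i : Fin n, (Polynomial.X - Polynomial.C (g (MvPolynomial.X i)))) =
        p.map (g.comp MvPolynomial.C) := by
  rw [← sub_eq_zero, ← map_diffPoly]
  unfold Ip
  rw [Ideal.span_le, Set.range_subset_iff]
  constructor
  · intro h
    ext k
    rw [Polynomial.coeff_map, Polynomial.coeff_zero]
    exact RingHom.mem_ker.1 (h k)
  · intro h k
    refine RingHom.mem_ker.2 ?_
    rw [← Polynomial.coeff_map, h, Polynomial.coeff_zero]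

/-- the universal splitting algebra -/
abbrev SA (n : ℕ) (p : Polynomial R) := MvPolynomial (Fin n) R ⧸ Ip n p

theorem prod_mk (n : ℕ) (p : Polynomial R) :
    (∏ i : Fin n, (Polynomial.X -
      Polynomial.C (Ideal.Quotient.mk (Ip n p) (MvPolynomial.X i)))) =
      p.map ((Ideal.Quotient.mk (Ip n p)).comp MvPolynomial.C) :=
  (kill_iff n p _).1 (le_of_eq Ideal.mk_ker.symm)

end Defs

section Step

variable {R : Type u} [CommRing R] (n : ℕ) (p : Polynomial R)

/-- the quotient of `p` by `T - root` over `AdjoinRoot p` -/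
noncomputable def quo : Polynomial (AdjoinRoot p) :=
  (p.map (AdjoinRoot.of p)) /ₘ (Polynomial.X - Polynomial.C (AdjoinRoot.root p))

theorem quo_spec :
    (Polynomial.X - Polynomial.C (AdjoinRoot.root p)) * quo p = p.map (AdjoinRoot.of p) :=
  Polynomial.mul_divByMonic_eq_iff_isRoot.2 (AdjoinRoot.isRoot_root p)

variable {p}

theorem quo_monic (hp : p.Monic) : (quo p).Monic :=
  Polynomial.Monic.of_mul_monic_left (Polynomial.monic_X_sub_C (AdjoinRoot.root p))
    (by rw [quo_spec]; exact hp.map _)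

theorem quo_natDegree [Nontrivial (AdjoinRoot p)] (hp : p.Monic) (hd : p.natDegree = n + 1) :
    (quo p).natDegree = n := by
  have h1 := (Polynomial.monic_X_sub_C (AdjoinRoot.root p)).natDegree_mul (quo_monic hp)
  rw [quo_spec, hp.natDegree_map, hd, Polynomial.natDegree_X_sub_C] at h1
  omega

variable (p)

/-- the images of the variables -/
noncomputable def vF : Fin (n + 1) → SA n (quo p) :=
  Fin.lastCases (Ideal.Quotient.mk _ (MvPolynomial.C (AdjoinRoot.root p)))
    (fun i => Ideal.Quotient.mk _ (MvPolynomial.X i))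

/-- the forward map on polynomials -/
noncomputable def F₀ : MvPolynomial (Fin (n + 1)) R →+* SA n (quo p) :=
  MvPolynomial.eval₂Hom
    (((Ideal.Quotient.mk (Ip n (quo p))).comp MvPolynomial.C).comp (AdjoinRoot.of p)) (vF n p)

theorem F₀_X (i : Fin (n + 1)) : F₀ n p (MvPolynomial.X i) = vF n p i :=
  MvPolynomial.eval₂Hom_X' _ _ i

theorem F₀_C (c : R) : F₀ n p (MvPolynomial.C c) =
    Ideal.Quotient.mk (Ip n (quo p)) (MvPolynomial.C (AdjoinRoot.of p c)) :=
  MvPolynomial.eval₂Hom_C _ _ c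

theorem F₀_comp_C : (F₀ n p).comp MvPolynomial.C =
    ((Ideal.Quotient.mk (Ip n (quo p))).comp MvPolynomial.C).comp (AdjoinRoot.of p) :=
  RingHom.ext fun c => F₀_C n p c

theorem F₀_kill : Ip (n + 1) p ≤ RingHom.ker (F₀ n p) := by
  rw [kill_iff, Fin.prod_univ_castSucc, F₀_comp_C, ← Polynomial.map_map, ← quo_spec,
    Polynomial.map_mul, Polynomial.map_sub, Polynomial.map_X, Polynomial.map_C, ← prod_mk,
    mul_comm]
  congr 1
  · rw [F₀_X]
    unfold vF
    rw [Fin.lastCases_last]
    rfl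
  · refine Finset.prod_congr rfl fun i _ => ?_
    rw [F₀_X]
    unfold vF
    rw [Fin.lastCases_castSucc]

/-- the forward map -/
noncomputable def F : SA (n + 1) p →+* SA n (quo p) :=
  Ideal.Quotient.lift (Ip (n + 1) p) (F₀ n p) fun _ hz => RingHom.mem_ker.1 (F₀_kill n p hz)

theorem F_mk (z : MvPolynomial (Fin (n + 1)) R) :
    F n p (Ideal.Quotient.mk _ z) = F₀ n p z := Ideal.Quotient.lift_mk _ _ _

theorem root_last :
    p.eval₂ ((Ideal.Quotient.mk (Ip (n + 1) p)).comp MvPolynomial.C)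
      (Ideal.Quotient.mk (Ip (n + 1) p) (MvPolynomial.X (Fin.last n))) = 0 := by
  rw [← Polynomial.eval_map, ← prod_mk, Polynomial.eval_prod]
  exact Finset.prod_eq_zero (Finset.mem_univ (Fin.last n))
    (by rw [Polynomial.eval_sub, Polynomial.eval_X, Polynomial.eval_C, sub_self])

/-- the structure map of the splitting algebra over `AdjoinRoot p` -/
noncomputable def φ : AdjoinRoot p →+* SA (n + 1) p :=
  AdjoinRoot.lift ((Ideal.Quotient.mk (Ip (n + 1) p)).comp MvPolynomial.C)
    (Ideal.Quotient.mk _ (MvPolynomial.X (Fin.last n))) (root_last n p)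

theorem φ_root : φ n p (AdjoinRoot.root p) =
    Ideal.Quotient.mk _ (MvPolynomial.X (Fin.last n)) := AdjoinRoot.lift_root _

theorem φ_of (c : R) : φ n p (AdjoinRoot.of p c) =
    Ideal.Quotient.mk _ (MvPolynomial.C c) := AdjoinRoot.lift_of _

theorem φ_comp_of : (φ n p).comp (AdjoinRoot.of p) =
    (Ideal.Quotient.mk (Ip (n + 1) p)).comp MvPolynomial.C := AdjoinRoot.lift_comp_of _

/-- the backward map on polynomials -/
noncomputable def G₀ : MvPolynomial (Fin n) (AdjoinRoot p) →+* SA (n + 1) p :=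
  MvPolynomial.eval₂Hom (φ n p) fun i => Ideal.Quotient.mk _ (MvPolynomial.X (Fin.castSucc i))

theorem G₀_X (i : Fin n) : G₀ n p (MvPolynomial.X i) =
    Ideal.Quotient.mk _ (MvPolynomial.X (Fin.castSucc i)) :=
  MvPolynomial.eval₂Hom_X' _ _ i

theorem G₀_C (z : AdjoinRoot p) : G₀ n p (MvPolynomial.C z) = φ n p z :=
  MvPolynomial.eval₂Hom_C _ _ z

theorem G₀_comp_C : (G₀ n p).comp MvPolynomial.C = φ n p :=
  RingHom.ext fun z => G₀_C n p z

theorem G₀_kill : Ip n (quo p) ≤ RingHom.ker (G₀ n p) := by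
  rw [kill_iff, G₀_comp_C]
  have h3 := prod_mk (n + 1) p
  rw [Fin.prod_univ_castSucc] at h3
  have h4 : p.map ((Ideal.Quotient.mk (Ip (n + 1) p)).comp MvPolynomial.C) =
      (Polynomial.X - Polynomial.C (Ideal.Quotient.mk (Ip (n + 1) p)
        (MvPolynomial.X (Fin.last n)))) * (quo p).map (φ n p) := by
    have h5 := congrArg (Polynomial.map (φ n p)) (quo_spec p)
    rw [Polynomial.map_mul, Polynomial.map_sub, Polynomial.map_X, Polynomial.map_C,
      Polynomial.map_map, φ_root, φ_comp_of] at h5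
    exact h5.symm
  rw [h4] at h3
  have h3' : (Polynomial.X - Polynomial.C (Ideal.Quotient.mk (Ip (n + 1) p)
      (MvPolynomial.X (Fin.last n)))) * (∏ i : Fin n, (Polynomial.X - Polynomial.C
        (Ideal.Quotient.mk (Ip (n + 1) p) (MvPolynomial.X (Fin.castSucc i))))) =
      (Polynomial.X - Polynomial.C (Ideal.Quotient.mk (Ip (n + 1) p)
        (MvPolynomial.X (Fin.last n)))) * (quo p).map (φ n p) := by
    rw [← h3]
    ring
  have h6 := (Polynomial.monic_X_sub_C (Ideal.Quotient.mk (Ip (n + 1) p)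
    (MvPolynomial.X (Fin.last n)))).isRegular.left h3'
  rw [← h6]
  refine Finset.prod_congr rfl fun i _ => ?_
  rw [G₀_X]

/-- the backward map -/
noncomputable def G : SA n (quo p) →+* SA (n + 1) p :=
  Ideal.Quotient.lift (Ip n (quo p)) (G₀ n p) fun _ hz => RingHom.mem_ker.1 (G₀_kill n p hz)

theorem G_mk (z : MvPolynomial (Fin n) (AdjoinRoot p)) :
    G n p (Ideal.Quotient.mk _ z) = G₀ n p z := Ideal.Quotient.lift_mk _ _ _

theorem GF : (G n p).comp (F n p) = RingHom.id _ := by
  apply Ideal.Quotient.ringHom_ext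
  apply MvPolynomial.ringHom_ext
  · intro c
    show G n p (F n p (Ideal.Quotient.mk _ (MvPolynomial.C c))) = Ideal.Quotient.mk _ _
    rw [F_mk, F₀_C, G_mk, G₀_C, φ_of]
  · intro i
    show G n p (F n p (Ideal.Quotient.mk _ (MvPolynomial.X i))) = Ideal.Quotient.mk _ _
    rw [F_mk, F₀_X]
    refine Fin.lastCases ?_ (fun j => ?_) i
    · unfold vF
      rw [Fin.lastCases_last, G_mk, G₀_C, φ_root]
    · unfold vF
      rw [Fin.lastCases_castSucc, G_mk, G₀_X]

theorem Fφ : (F n p).comp (φ n p) =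
    (Ideal.Quotient.mk (Ip n (quo p))).comp MvPolynomial.C := by
  apply AdjoinRoot.ringHom_ext
  · ext c
    show F n p (φ n p (AdjoinRoot.of p c)) = _
    rw [φ_of, F_mk, F₀_C]
    rfl
  · show F n p (φ n p (AdjoinRoot.root p)) = _
    rw [φ_root, F_mk, F₀_X]
    unfold vF
    rw [Fin.lastCases_last]
    rfl

theorem FG : (F n p).comp (G n p) = RingHom.id _ := by
  apply Ideal.Quotient.ringHom_ext
  apply MvPolynomial.ringHom_ext
  · intro z
    show F n p (G n p (Ideal.Quotient.mk _ (MvPolynomial.C z))) = Ideal.Quotient.mk _ _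
    rw [G_mk, G₀_C]
    exact congrFun (congrArg DFunLike.coe (Fφ n p)) z
  · intro i
    show F n p (G n p (Ideal.Quotient.mk _ (MvPolynomial.X i))) = Ideal.Quotient.mk _ _
    rw [G_mk, G₀_X, F_mk, F₀_X]
    unfold vF
    rw [Fin.lastCases_castSucc]

/-- the isomorphism of the inductive step -/
noncomputable def eStep : SA (n + 1) p ≃ₐ[R] SA n (quo p) :=
  AlgEquiv.ofRingEquiv (f := RingEquiv.ofRingHom (F n p) (G n p) (FG n p) (GF n p)) (by
    intro c
    show F n p (Ideal.Quotient.mk _ (MvPolynomial.C c)) = _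
    rw [F_mk, F₀_C]
    rfl)

end Step

section Main

theorem basis_of_subsingleton (R : Type u) [CommRing R] [Subsingleton R] (M : Type*)
    [AddCommGroup M] [Module R M] (ι : Type*) : Nonempty (Basis ι R M) := by
  have := Module.subsingleton R M
  exact ⟨Basis.ofRepr (LinearEquiv.ofSubsingleton M (ι →₀ R))⟩

theorem Ip_zero {R : Type u} [CommRing R] : Ip 0 (1 : Polynomial R) = ⊥ := by
  unfold Ip
  rw [Ideal.span_eq_bot]
  rintro _ ⟨k, rfl⟩
  show (diffPoly 0 (1 : Polynomial R)).coeff k = 0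
  unfold diffPoly
  rw [Finset.univ_eq_empty, Finset.prod_empty, Polynomial.map_one, sub_self,
    Polynomial.coeff_zero]

theorem main (n : ℕ) : ∀ (R : Type u) [CommRing R] [Nontrivial R] (p : Polynomial R),
    p.Monic → p.natDegree = n → Nonempty (Basis (Fin n.factorial) R (SA n p)) := by
  induction n with
  | zero =>
    intro R _ _ p hp hd
    obtain rfl : p = 1 := hp.natDegree_eq_zero.1 hd
    have hinj : Function.Injective (Algebra.linearMap R (SA 0 (1 : Polynomial R))) := by
      rw [injective_iff_map_eq_zero]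
      intro c hc
      have h1 : Ideal.Quotient.mk (Ip 0 (1 : Polynomial R)) (MvPolynomial.C c) = 0 := hc
      rw [Ideal.Quotient.eq_zero_iff_mem, Ip_zero, Ideal.mem_bot] at h1
      exact MvPolynomial.C_injective _ _ (by rw [h1, map_zero])
    have hsurj : Function.Surjective (Algebra.linearMap R (SA 0 (1 : Polynomial R))) := by
      intro z
      obtain ⟨f, rfl⟩ := Ideal.Quotient.mk_surjective z
      refine ⟨f.coeff 0, ?_⟩
      show Ideal.Quotient.mk _ (MvPolynomial.C (f.coeff 0)) = _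
      rw [← MvPolynomial.eq_C_of_isEmpty f]
    exact ⟨((Basis.singleton (Fin 1) R).map (LinearEquiv.ofBijective _ ⟨hinj, hsurj⟩)).reindex
      (finCongr Nat.factorial_zero.symm)⟩
  | succ n ih =>
    intro R _ _ p hp hd
    have hpu : ¬ IsUnit p := by
      rw [hp.isUnit_iff]
      rintro rfl
      rw [Polynomial.natDegree_one] at hd
      omega
    have : Nontrivial (AdjoinRoot p) :=
      Ideal.Quotient.nontrivial_iff.mpr (by rwa [Ne, Ideal.span_singleton_eq_top])
    obtain ⟨bS⟩ := ih (AdjoinRoot p) (quo p) (quo_monic hp) (quo_natDegree n hp hd)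
    let bR : Basis (Fin (n + 1)) R (AdjoinRoot p) :=
      (AdjoinRoot.powerBasis' hp).basis.reindex
        (finCongr (by rw [AdjoinRoot.powerBasis'_dim, hd]))
    exact ⟨((bR.smulTower bS).map (eStep n p).symm.toLinearEquiv).reindex
      (finProdFinEquiv.trans (finCongr (Nat.factorial_succ n).symm))⟩

end Main

section Vieta

variable {R : Type u} [CommRing R]

/-- the coefficient sequence `1, a_0, a_1, …` -/
noncomputable def cseq (r : ℕ) (a : Fin r → R) (j : ℕ) : R :=
  if h : 0 < j ∧ j ≤ r then a ⟨j - 1, by omega⟩ else 1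

theorem cseq_zero (r : ℕ) (a : Fin r → R) : cseq r a 0 = 1 := by
  unfold cseq
  rw [dif_neg (by omega)]

theorem cseq_succ (r : ℕ) (a : Fin r → R) (i : Fin r) : cseq r a ((i : ℕ) + 1) = a i := by
  unfold cseq
  rw [dif_pos ⟨by omega, by have := i.2; omega⟩]
  congr 1

/-- the polynomial `T^r - a_0 T^{r-1} + … ± a_{r-1}` -/
noncomputable def pa (r : ℕ) (a : Fin r → R) : Polynomial R :=
  ∑ j ∈ Finset.range (r + 1), Polynomial.C ((-1) ^ j * cseq r a j) * Polynomial.X ^ (r - j)

theorem pa_eq (r : ℕ) (a : Fin r → R) :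
    pa r a = Polynomial.X ^ r + ∑ j ∈ Finset.range r,
      Polynomial.C ((-1) ^ (j + 1) * cseq r a (j + 1)) * Polynomial.X ^ (r - (j + 1)) := by
  unfold pa
  rw [Finset.sum_range_succ', cseq_zero, pow_zero, mul_one, map_one, one_mul, Nat.sub_zero,
    add_comm]

theorem pa_rest_degree (r : ℕ) (a : Fin r → R) :
    (∑ j ∈ Finset.range r,
      Polynomial.C ((-1) ^ (j + 1) * cseq r a (j + 1)) * Polynomial.X ^ (r - (j + 1))).degree <
      (r : WithBot ℕ) := by
  refine (Polynomial.degree_sum_le _ _).trans_lt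
    ((Finset.sup_lt_iff (WithBot.bot_lt_coe r)).2 fun j hj => ?_)
  have hj' := Finset.mem_range.1 hj
  refine lt_of_le_of_lt (Polynomial.degree_C_mul_X_pow_le _ _) ?_
  exact Nat.cast_lt.2 (show r - (j + 1) < r by omega)

theorem pa_monic (r : ℕ) (a : Fin r → R) : (pa r a).Monic := by
  rw [pa_eq]
  exact Polynomial.monic_X_pow_add (pa_rest_degree r a)

theorem pa_natDegree [Nontrivial R] (r : ℕ) (a : Fin r → R) : (pa r a).natDegree = r := by
  rw [pa_eq, Polynomial.natDegree_add_eq_left_of_degree_lt, Polynomial.natDegree_X_pow]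
  rw [Polynomial.degree_X_pow]
  exact pa_rest_degree r a

theorem vieta (r : ℕ) :
    (∏ i : Fin r, (Polynomial.X - Polynomial.C (MvPolynomial.X i : MvPolynomial (Fin r) R))) =
      ∑ j ∈ Finset.range (r + 1),
        Polynomial.C ((-1) ^ j * MvPolynomial.esymm (Fin r) R j) * Polynomial.X ^ (r - j) := by
  have h := Multiset.prod_X_sub_X_eq_sum_esymm ((Finset.univ : Finset (Fin r)).val.map
    (MvPolynomial.X : Fin r → MvPolynomial (Fin r) R))
  rw [Multiset.map_map, Multiset.card_map, Finset.card_val, Finset.card_univ, Fintype.card_fin,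
    ← MvPolynomial.esymm_eq_multiset_esymm] at h
  rw [Finset.prod_eq_multiset_prod]
  refine Eq.trans h (Finset.sum_congr rfl fun j _ => ?_)
  rw [map_mul, map_pow, map_neg, map_one, mul_assoc]

/-- the generators of the ideal -/
noncomputable def gen (r : ℕ) (a : Fin r → R) (j : ℕ) : MvPolynomial (Fin r) R :=
  MvPolynomial.esymm (Fin r) R j - MvPolynomial.C (cseq r a j)

theorem diffPoly_pa (r : ℕ) (a : Fin r → R) :
    diffPoly r (pa r a) = ∑ j ∈ Finset.range (r + 1),
      Polynomial.C ((-1) ^ j * gen r a j) * Polynomial.X ^ (r - j) := by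
  unfold diffPoly pa gen
  rw [vieta, Polynomial.map_sum, ← Finset.sum_sub_distrib]
  refine Finset.sum_congr rfl fun j _ => ?_
  rw [Polynomial.map_mul, Polynomial.map_C, Polynomial.map_pow, Polynomial.map_X, ← sub_mul,
    ← map_sub, map_mul, map_pow, map_neg, map_one, mul_sub]

theorem coeff_diffPoly_pa (r : ℕ) (a : Fin r → R) (k : ℕ) :
    (diffPoly r (pa r a)).coeff k = ∑ j ∈ Finset.range (r + 1),
      if k = r - j then (-1) ^ j * gen r a j else 0 := by
  rw [diffPoly_pa, Polynomial.finsetSum_coeff]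
  refine Finset.sum_congr rfl fun j _ => ?_
  rw [Polynomial.coeff_C_mul_X_pow]

theorem ideal_eq (r : ℕ) (a : Fin r → R) :
    Ideal.span (Set.range fun i : Fin r =>
      MvPolynomial.esymm (Fin r) R ((i : ℕ) + 1) - MvPolynomial.C (a i)) = Ip r (pa r a) := by
  have hgen : ∀ i : Fin r, gen r a ((i : ℕ) + 1) =
      MvPolynomial.esymm (Fin r) R ((i : ℕ) + 1) - MvPolynomial.C (a i) := by
    intro i
    unfold gen
    rw [cseq_succ]
  have hgen0 : gen r a 0 = 0 := by
    unfold gen
    rw [cseq_zero, MvPolynomial.esymm_zero, map_one, sub_self]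
  apply le_antisymm
  · rw [Ideal.span_le, Set.range_subset_iff]
    intro i
    have hi := i.2
    have h1 : (diffPoly r (pa r a)).coeff (r - ((i : ℕ) + 1)) =
        (-1) ^ ((i : ℕ) + 1) * gen r a ((i : ℕ) + 1) := by
      rw [coeff_diffPoly_pa, Finset.sum_eq_single ((i : ℕ) + 1), if_pos rfl]
      · intro j hj hne
        have hj' := Finset.mem_range.1 hj
        rw [if_neg (by omega)]
      · intro h
        exact absurd (Finset.mem_range.2 (by omega)) h
    have h2 : MvPolynomial.esymm (Fin r) R ((i : ℕ) + 1) - MvPolynomial.C (a i) =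
        (-1) ^ ((i : ℕ) + 1) * (diffPoly r (pa r a)).coeff (r - ((i : ℕ) + 1)) := by
      rw [h1, ← mul_assoc, ← mul_pow, hgen]
      norm_num
    show _ ∈ Ip r (pa r a)
    rw [h2]
    exact Ideal.mul_mem_left _ _ (Ideal.subset_span ⟨_, rfl⟩)
  · unfold Ip
    rw [Ideal.span_le, Set.range_subset_iff]
    intro k
    show _ ∈ Ideal.span _
    rw [coeff_diffPoly_pa]
    refine Ideal.sum_mem _ fun j hj => ?_
    have hj' := Finset.mem_range.1 hj
    split_ifs with h
    · refine Ideal.mul_mem_left _ _ ?_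
      rcases Nat.eq_zero_or_pos j with h0 | h0
      · rw [h0, hgen0]
        exact zero_mem _
      · have h3 := hgen ⟨j - 1, by omega⟩
        have h4 : ((⟨j - 1, by omega⟩ : Fin r) : ℕ) + 1 = j := by
          show j - 1 + 1 = j
          omega
        rw [h4] at h3
        rw [h3]
        refine Ideal.subset_span ⟨⟨j - 1, by omega⟩, ?_⟩
        show MvPolynomial.esymm (Fin r) R (j - 1 + 1) - _ = _
        rw [Nat.sub_add_cancel h0]
    · exact zero_mem _

/-- **Freeness of the universal splitting algebra.** -/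
theorem free_quot (r : ℕ) (a : Fin r → R) :
    Nonempty (Basis (Fin r.factorial) R
      (MvPolynomial (Fin r) R ⧸ Ideal.span (Set.range fun i : Fin r =>
        MvPolynomial.esymm (Fin r) R ((i : ℕ) + 1) - MvPolynomial.C (a i)))) := by
  rcases subsingleton_or_nontrivial R with h | h
  · exact basis_of_subsingleton R _ _
  · rw [ideal_eq]
    exact main r R (pa r a) (pa_monic r a) (pa_natDegree r a)

end Vieta

section Generic

variable (R : Type u) [CommRing R] (r : ℕ)

theorem map_esymm_eq {S B : Type*} [CommRing S] [CommRing B]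
    (g : MvPolynomial (Fin r) S →+* B) (k : ℕ) :
    g (MvPolynomial.esymm (Fin r) S k) =
      ∑ t ∈ Finset.powersetCard k Finset.univ, ∏ i ∈ t, g (MvPolynomial.X i) := by
  unfold MvPolynomial.esymm
  rw [map_sum]
  refine Finset.sum_congr rfl fun t _ => ?_
  rw [map_prod]

/-- `T_i ↦ σ_{i+1}` -/
noncomputable def fσ : MvPolynomial (Fin r) R →ₐ[R] MvPolynomial (Fin r) R :=
  MvPolynomial.aeval fun i : Fin r => MvPolynomial.esymm (Fin r) R ((i : ℕ) + 1)

/-- the ideal of the generic case -/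
noncomputable abbrev IX : Ideal (MvPolynomial (Fin r) (MvPolynomial (Fin r) R)) :=
  Ideal.span (Set.range fun i : Fin r =>
    MvPolynomial.esymm (Fin r) (MvPolynomial (Fin r) R) ((i : ℕ) + 1) -
      MvPolynomial.C (MvPolynomial.X i))

/-- the comparison map on polynomials -/
noncomputable def Ψ₀ : MvPolynomial (Fin r) (MvPolynomial (Fin r) R) →+* MvPolynomial (Fin r) R :=
  MvPolynomial.eval₂Hom (fσ R r : MvPolynomial (Fin r) R →+* MvPolynomial (Fin r) R)
    MvPolynomial.X

theorem Ψ₀_X (i : Fin r) : Ψ₀ R r (MvPolynomial.X i) = MvPolynomial.X i :=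
  MvPolynomial.eval₂Hom_X' _ _ i

theorem Ψ₀_C (t : MvPolynomial (Fin r) R) : Ψ₀ R r (MvPolynomial.C t) = fσ R r t :=
  MvPolynomial.eval₂Hom_C _ _ t

theorem Ψ₀_esymm (k : ℕ) :
    Ψ₀ R r (MvPolynomial.esymm (Fin r) _ k) = MvPolynomial.esymm (Fin r) R k := by
  rw [map_esymm_eq]
  unfold MvPolynomial.esymm
  refine Finset.sum_congr rfl fun t _ => Finset.prod_congr rfl fun i _ => Ψ₀_X R r i

theorem Ψ₀_kill : ∀ z ∈ IX R r, Ψ₀ R r z = 0 := by
  intro z hz
  have h : IX R r ≤ RingHom.ker (Ψ₀ R r) := by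
    rw [Ideal.span_le, Set.range_subset_iff]
    intro i
    refine RingHom.mem_ker.2 ?_
    rw [map_sub, Ψ₀_esymm, Ψ₀_C]
    unfold fσ
    rw [MvPolynomial.aeval_X, sub_self]
  exact RingHom.mem_ker.1 (h hz)

/-- the comparison map -/
noncomputable def Ψ : (MvPolynomial (Fin r) (MvPolynomial (Fin r) R) ⧸ IX R r) →+*
    MvPolynomial (Fin r) R :=
  Ideal.Quotient.lift (IX R r) (Ψ₀ R r) (Ψ₀_kill R r)

theorem Ψ_mk (z : MvPolynomial (Fin r) (MvPolynomial (Fin r) R)) :
    Ψ R r (Ideal.Quotient.mk _ z) = Ψ₀ R r z := Ideal.Quotient.lift_mk _ _ _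

/-- the inverse of the comparison map -/
noncomputable def Ψ' : MvPolynomial (Fin r) R →ₐ[R]
    (MvPolynomial (Fin r) (MvPolynomial (Fin r) R) ⧸ IX R r) :=
  MvPolynomial.aeval fun i => Ideal.Quotient.mk (IX R r) (MvPolynomial.X i)

theorem Ψ'_X (i : Fin r) : Ψ' R r (MvPolynomial.X i) =
    Ideal.Quotient.mk (IX R r) (MvPolynomial.X i) := MvPolynomial.aeval_X _ i

theorem Ψ'_C (c : R) : Ψ' R r (MvPolynomial.C c) =
    Ideal.Quotient.mk (IX R r) (MvPolynomial.C (MvPolynomial.C c)) := by
  unfold Ψ'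
  rw [MvPolynomial.aeval_C]
  rfl

theorem ΨΨ' (z : MvPolynomial (Fin r) R) : Ψ R r (Ψ' R r z) = z := by
  have h : (Ψ R r).comp (Ψ' R r : MvPolynomial (Fin r) R →+* _) = RingHom.id _ := by
    apply MvPolynomial.ringHom_ext
    · intro c
      show Ψ R r (Ψ' R r (MvPolynomial.C c)) = MvPolynomial.C c
      rw [Ψ'_C, Ψ_mk, Ψ₀_C]
      unfold fσ
      rw [MvPolynomial.aeval_C]
      rfl
    · intro i
      show Ψ R r (Ψ' R r (MvPolynomial.X i)) = MvPolynomial.X i
      rw [Ψ'_X, Ψ_mk, Ψ₀_X]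
  exact congrFun (congrArg DFunLike.coe h) z

theorem Ψ'fσ (t : MvPolynomial (Fin r) R) :
    Ψ' R r (fσ R r t) = Ideal.Quotient.mk (IX R r) (MvPolynomial.C t) := by
  have h : ((Ψ' R r : MvPolynomial (Fin r) R →+* _).comp
      (fσ R r : MvPolynomial (Fin r) R →+* MvPolynomial (Fin r) R)) =
      (Ideal.Quotient.mk (IX R r)).comp MvPolynomial.C := by
    apply MvPolynomial.ringHom_ext
    · intro c
      show Ψ' R r (fσ R r (MvPolynomial.C c)) = _
      unfold fσ
      rw [MvPolynomial.aeval_C]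
      exact Ψ'_C R r c
    · intro i
      show Ψ' R r (fσ R r (MvPolynomial.X i)) =
        Ideal.Quotient.mk (IX R r) (MvPolynomial.C (MvPolynomial.X i))
      have h1 : fσ R r (MvPolynomial.X i) = MvPolynomial.esymm (Fin r) R ((i : ℕ) + 1) :=
        MvPolynomial.aeval_X _ i
      have h2 : Ideal.Quotient.mk (IX R r) (MvPolynomial.C (MvPolynomial.X i)) =
          Ideal.Quotient.mk (IX R r)
            (MvPolynomial.esymm (Fin r) (MvPolynomial (Fin r) R) ((i : ℕ) + 1)) := by
        rw [eq_comm, Ideal.Quotient.eq]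
        exact Ideal.subset_span ⟨i, rfl⟩
      have h5 := map_esymm_eq (S := R)
        (B := MvPolynomial (Fin r) (MvPolynomial (Fin r) R) ⧸ IX R r) r (Ψ' R r).toRingHom
        ((i : ℕ) + 1)
      rw [h1, h2]
      have h6 := map_esymm_eq (S := MvPolynomial (Fin r) R)
        (B := MvPolynomial (Fin r) (MvPolynomial (Fin r) R) ⧸ IX R r) r
        (Ideal.Quotient.mk (IX R r)) ((i : ℕ) + 1)
      refine h5.trans (Eq.trans ?_ h6.symm)
      refine Finset.sum_congr rfl fun t _ => Finset.prod_congr rfl fun j _ => ?_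
      exact Ψ'_X R r j
  exact congrFun (congrArg DFunLike.coe h) t

theorem Ψ'Ψ (z : MvPolynomial (Fin r) (MvPolynomial (Fin r) R) ⧸ IX R r) :
    Ψ' R r (Ψ R r z) = z := by
  have h : (Ψ' R r : MvPolynomial (Fin r) R →+* _).comp (Ψ R r) = RingHom.id _ := by
    apply Ideal.Quotient.ringHom_ext
    apply MvPolynomial.ringHom_ext
    · intro t
      show Ψ' R r (Ψ R r (Ideal.Quotient.mk _ (MvPolynomial.C t))) = Ideal.Quotient.mk _ _
      rw [Ψ_mk, Ψ₀_C, Ψ'fσ]
    · intro i
      show Ψ' R r (Ψ R r (Ideal.Quotient.mk _ (MvPolynomial.X i))) = Ideal.Quotient.mk _ _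
      rw [Ψ_mk, Ψ₀_X, Ψ'_X]
  exact congrFun (congrArg DFunLike.coe h) z

theorem Ψ_smul (t : MvPolynomial (Fin r) R)
    (z : MvPolynomial (Fin r) (MvPolynomial (Fin r) R) ⧸ IX R r) :
    Ψ R r (t • z) = fσ R r t * Ψ R r z := by
  obtain ⟨w, rfl⟩ := Ideal.Quotient.mk_surjective z
  show Ψ R r (Ideal.Quotient.mk _ (t • w)) = _
  rw [MvPolynomial.smul_eq_C_mul, Ψ_mk, Ψ_mk, map_mul, Ψ₀_C]

/-- **`R[U]` is free of rank `r!` over `R[σ]`.** -/
theorem free_over_sym :
    ∃ b : Fin r.factorial → MvPolynomial (Fin r) R,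
      Function.Bijective (fun p : Fin r.factorial → MvPolynomial (Fin r) R =>
        ∑ k : Fin r.factorial,
          (MvPolynomial.aeval (fun i : Fin r => MvPolynomial.esymm (Fin r) R ((i : ℕ) + 1)))
            (p k) * b k) := by
  obtain ⟨B'⟩ := free_quot (R := MvPolynomial (Fin r) R) r (fun i => MvPolynomial.X i)
  refine ⟨fun k => Ψ R r (B' k), ?_⟩
  have hΨ : Function.Bijective (Ψ R r) :=
    ⟨Function.LeftInverse.injective (Ψ'Ψ R r), Function.RightInverse.surjective (ΨΨ' R r)⟩
  have h : (fun p : Fin r.factorial → MvPolynomial (Fin r) R =>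
      ∑ k : Fin r.factorial,
        (MvPolynomial.aeval (fun i : Fin r => MvPolynomial.esymm (Fin r) R ((i : ℕ) + 1)))
          (p k) * Ψ R r (B' k)) = (Ψ R r) ∘ (B'.equivFun.symm) := by
    funext p
    rw [Function.comp_apply, Basis.equivFun_symm_apply, map_sum]
    refine Finset.sum_congr rfl fun k _ => ?_
    rw [Ψ_smul]
    rfl
  rw [h]
  exact hΨ.comp B'.equivFun.symm.bijective

end Generic

end Groth.Agent.Lib.Helper44.SplitAlg
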